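import Cfsg.Agent.Lib.Spor.RuBoundTools
import Cfsg.Agent.Lib.Spor.RuTits
import Cfsg.Agent.Lib.Spor.RuPointCheck
import Cfsg.Agent.Lib.Lie.CentralRewrite.Defs

/-!
Lattice automorphisms given by their reductions and one image, and their relations checked along listed images.
-/

set_option autoImplicit false
set_option maxRecDepth 100000

namespace Cfsg.Agent.Spor.RuMult

open Cfsg.Spor Cfsg.Agent.Spor.RuMin Cfsg.Agent.Spor.RuCert Cfsg.Agent.Spor.RuAut
open Cfsg.Agent.Lie.CentralRewrite (Rule)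

noncomputable section

/-- the parts of the list of short vectors -/
def leafs (f : ℕ) : List RuShort.Leaf :=
  [RuShort.leaves0, RuShort.leaves1, RuShort.leaves2, RuShort.leaves3, RuShort.leaves4, RuShort.leaves5,
    RuShort.leaves6, RuShort.leaves7, RuShort.leaves8, RuShort.leaves9, RuShort.leaves10, RuShort.leaves11,
    RuShort.leaves12, RuShort.leaves13, RuShort.leaves14].getD f []

/-- the short vector at a position -/
def svAt (p : ℕ × ℕ × ℕ) : RuShort.SV := ((leafs p.1).getD p.2.1 (.zero 0)).vecs.getD p.2.2 (0, 0, 0)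

/-- a position in range -/
def posOK (p : ℕ × ℕ × ℕ) : Bool :=
  Nat.blt p.1 15 && (Nat.blt p.2.1 (leafs p.1).length &&
    Nat.blt p.2.2 ((leafs p.1).getD p.2.1 (.zero 0)).vecs.length)

/-- a product of tabulated matrices -/
def decB (d : ℕ × ℕ × ℕ × ℕ × ℕ) : ℕ :=
  mulB (rTab d.1) (mulB (tauPow d.2.1) (mulB (uTab d.2.2.1) (mulB (vTab d.2.2.2.1) (mTab d.2.2.2.2))))

/-- A certificate. -/
structure Data where
  /-- the factors, the matrix and the image of the base vector -/
  letters : List ((ℕ × ℕ × ℕ × ℕ × ℕ) × ℕ × ℕ)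
  /-- the positions of the vectors used -/
  nodes : List (ℕ × ℕ × ℕ)
  /-- the reductions of the first vectors -/
  reds : List ℕ
  /-- letter, argument, image, its multiple by the unit, witness -/
  steps : List (ℕ × ℕ × ℕ × ℕ × ℕ)

namespace Data

variable (D : Data)

/-- a vector -/
def vec (i : ℕ) : RuShort.SV := svAt (D.nodes.getD i (0, 0, 0))

/-- the matrix of a letter -/
def lmat (j : ℕ) : ℕ := (D.letters.getD j ((0, 0, 0, 0, 0), 0, 0)).2.1

/-- the image of the base vector -/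
def limg (j : ℕ) : ℕ := (D.letters.getD j ((0, 0, 0, 0, 0), 0, 0)).2.2

/-- a letter is valid -/
def letterOK (j : ℕ) : Bool :=
  let e := D.letters.getD j ((0, 0, 0, 0, 0), 0, 0)
  (Nat.blt e.1.1 4060 && (Nat.blt e.1.2.1 2 && (Nat.blt e.1.2.2.1 1755 && (Nat.blt e.1.2.2.2.1 512 &&
    Nat.blt e.1.2.2.2.2 20)))) &&
  (Nat.beq (decB e.1) e.2.1 && (Nat.blt e.2.2 D.reds.length &&
    Nat.beq (mulB e.2.1 (D.reds.getD 0 0)) (D.reds.getD e.2.2 0)))

/-- a vector is listed -/
def nodeOK (i : ℕ) : Bool := posOK (D.nodes.getD i (0, 0, 0)) && RuShort.maskOK (D.vec i).2.1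

/-- a reduction is right -/
def redOK (i : ℕ) : Bool := Nat.beq (redN (vL (D.vec i))) (D.reds.getD i 0)

/-- a step -/
def step (s : ℕ) : ℕ × ℕ × ℕ × ℕ × ℕ := D.steps.getD s (0, 0, 0, 0, 0)

/-- the products of two vectors, moved up -/
def pr (a b : ℕ) : ℕ := dig (D.vec a) (D.vec b)

/-- a step is valid -/
def stepOK (s : ℕ) : Bool :=
  let e := D.step s
  let q := D.step e.2.2.2.2
  (Nat.blt e.1 D.letters.length && (Nat.blt e.2.1 D.reds.length && (Nat.blt e.2.2.1 D.reds.length &&
    Nat.blt e.2.2.2.1 D.nodes.length))) &&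
  (bif Nat.beq e.2.1 0 then Nat.beq e.2.2.1 (D.limg e.1) else
    Nat.beq (mulB (D.lmat e.1) (D.reds.getD e.2.1 0)) (D.reds.getD e.2.2.1 0) &&
    (Nat.blt e.2.2.2.2 s && (Nat.beq q.1 e.1 &&
    (decide (coL (gI • emb (vL (D.vec e.2.2.1))) = vL (D.vec e.2.2.2.1)) &&
    (Nat.beq (D.pr q.2.2.1 e.2.2.1) (D.pr q.2.1 e.2.1) && ((!Nat.beq (D.pr q.2.1 e.2.1) 2000 && (Nat.blt 0 (D.pr q.2.1 e.2.1) && Nat.blt (D.pr q.2.1 e.2.1) 4000)) &&
      (!Nat.beq (D.pr q.2.2.1 e.2.2.2.1) (D.pr q.2.1 e.2.1) &&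
        !Nat.beq (Nat.add (D.pr q.2.2.1 e.2.2.2.1) (D.pr q.2.1 e.2.1)) 4000)))))))

/-- the images along a word, read from the right -/
def walkOK : List ℕ → List ℕ → ℕ → Option ℕ
  | [], [], c => some c
  | j :: w, s :: t, c =>
    bif Nat.blt s D.steps.length && (Nat.beq (D.step s).1 j && Nat.beq (D.step s).2.1 c) then
      walkOK w t (D.step s).2.2.1
    else none
  | _, _, _ => none

/-- the matrix of a word -/
def wordB (w : List ℕ) : ℕ := w.foldr (fun j r => mulB (D.lmat j) r) idB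

/-- a relation with the steps of its sides -/
def relOK (u : Rule) (p : List ℕ × List ℕ) : Bool :=
  (u.1.all (fun j => Nat.blt j D.letters.length) && u.2.all (fun j => Nat.blt j D.letters.length)) &&
  (Nat.beq (D.wordB u.1 % 2 ^ 784) (D.wordB u.2 % 2 ^ 784) &&
    match D.walkOK u.1.reverse p.1 0, D.walkOK u.2.reverse p.2 0 with
    | some a, some b => Nat.beq a b
    | _, _ => false)

/-- all checks -/
structure Valid : Prop where
  base : Nat.blt 0 D.reds.length = true ∧ D.nodes.getD 0 (0, 0, 0) = (0, 0, 1) ∧ Nat.ble D.reds.length D.nodes.length = true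
  letters : (List.range D.letters.length).all D.letterOK = true
  nodes : (List.range D.nodes.length).all D.nodeOK = true
  reds : (List.range D.reds.length).all D.redOK = true
  steps : (List.range D.steps.length).all D.stepOK = true

end Data

end

end Cfsg.Agent.Spor.RuMult
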