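import Cfsg.Agent.Lib.Spor.RuMult.Sound
import Cfsg.Agent.Lib.Lie.CentralRewrite.Main

/-!
A lower bound for the reduction of a generated group from orbits, and homomorphisms to the group of order two killing
the letters.
-/

set_option autoImplicit false
set_option maxRecDepth 100000
set_option maxHeartbeats 400000

namespace Cfsg.Agent.Spor.RuMult

open Cfsg.Spor Cfsg.Agent.Spor.RuMin Cfsg.Agent.Spor.RuCert Cfsg.Agent.Spor.RuAut
open Cfsg.Agent.Lie.CentralRewrite (lval lval_cons lval_append Rule)
open Matrix

noncomputable section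

/-- the image of a vector under a word -/
def imW (D : Data) (w : List ℕ) (v : ℕ) : ℕ := w.foldr (fun j r => mulB (D.lmat j) r) v

/-- strictly increasing -/
def incr : List ℕ → Bool
  | a :: b :: l => Nat.blt a b && incr (b :: l)
  | _ => true

/-- the levels of a chain -/
def chainOK (D : Data) (m : ℕ) : List (ℕ × List (List ℕ)) → List ℕ → Bool
  | [], _ => true
  | (v, ws) :: rest, prev =>
    Nat.blt v 268435456 && (ws.all (fun w => w.all (fun j => Nat.blt j m && Nat.blt j D.letters.length)) &&
      (ws.all (fun w => prev.all fun u => Nat.beq (imW D w u) u) &&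
        (incr (ws.map fun w => imW D w v) && chainOK D m rest (v :: prev))))

/-- the product of the sizes -/
def chainSize (L : List (ℕ × List (List ℕ))) : ℕ := (L.map fun e => e.2.length).prod

/-- the parities of a combination -/
def parityOK (rels : List Rule) (ng skip k : ℕ) (c : List ℕ) : Bool :=
  c.all (fun b => Nat.blt b rels.length) && (Nat.blt k ng && (List.range ng).all fun j =>
    Nat.beq j skip || Nat.beq
      ((c.map fun b => ((rels.getD b ([], [])).1.count j + (rels.getD b ([], [])).2.count j)).sum % 2)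
      (bif Nat.beq j k then 1 else 0))

end

variable {D : Data}

theorem matR_mul (a b : fourRu) : matR (a * b) = matR a * matR b := by
  rw [matR, matR, matR, map_mul, Subgroup.coe_mul, Units.val_mul]

theorem imW_vec {g : ℕ → fourRu} (hg : Acts D g) : ∀ (w : List ℕ), (∀ j ∈ w, j < D.letters.length) → ∀ v,
    vecB (imW D w v) = matR (lval g w) *ᵥ vecB v
  | [], _, v => by
    show _ = ((ψ 1 : G28) : Matrix (Fin 28) (Fin 28) (ZMod 2)) *ᵥ _
    rw [map_one, OneMemClass.coe_one, Units.val_one, Matrix.one_mulVec]
    rfl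
  | j :: w, h, v => by
    show vecB (mulB (D.lmat j) (imW D w v)) = _
    rw [mulB_vec, imW_vec hg w (fun i hi => h i (List.mem_cons_of_mem _ hi)) v, Matrix.mulVec_mulVec,
      lval_cons, ← hg.mat j (h j List.mem_cons_self), matR_mul]

theorem imW_lt (D : Data) : ∀ (w : List ℕ) {v : ℕ}, v < 2 ^ 28 → imW D w v < 2 ^ 28
  | [], _, hv => hv
  | j :: w, _, hv => mulB_vec_lt _ (imW_lt D w hv)

theorem incr_inj : ∀ (l : List ℕ), incr l = true → l.Pairwise (· < ·)
  | [], _ => List.Pairwise.nil
  | [_], _ => List.pairwise_singleton _ _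
  | a :: b :: l, h => by
    simp only [incr, Bool.and_eq_true, Nat.blt_eq] at h
    have ih := incr_inj (b :: l) h.2
    refine List.pairwise_cons.2 ⟨fun x hx => ?_, ih⟩
    rcases List.mem_cons.1 hx with rfl | hx
    · exact h.1
    · exact h.1.trans ((List.pairwise_cons.1 ih).1 x hx)

/-- a chain gives as many reductions -/
theorem chain_card {g : ℕ → fourRu} (hg : Acts D g) (m : ℕ) : ∀ (L : List (ℕ × List (List ℕ))) (prev : List ℕ),
    chainOK D m L prev = true → ∃ T : Finset Gru, T.card = chainSize L ∧ ∀ t ∈ T,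
      t ∈ (Subgroup.closure (g '' Set.Ico 0 m)).map ψ ∧
      ∀ u ∈ prev, ((t : G28) : Matrix (Fin 28) (Fin 28) (ZMod 2)) *ᵥ vecB u = vecB u
  | [], prev, _ => ⟨{1}, by simp [chainSize], fun t ht => by
      rw [Finset.mem_singleton] at ht
      subst ht
      exact ⟨one_mem _, fun u _ => by rw [OneMemClass.coe_one, Units.val_one, Matrix.one_mulVec]⟩⟩
  | (v, ws) :: rest, prev, h => by
    classical
    simp only [chainOK, Bool.and_eq_true, Nat.blt_eq, List.all_eq_true] at h
    obtain ⟨hv, hlet, hfix, hinc, hrest⟩ := h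
    obtain ⟨T, hT, hTs⟩ := chain_card hg m rest (v :: prev) hrest
    have hpw := incr_inj _ hinc
    let el : Fin ws.length → Gru := fun i => ψ (lval g ws[i])
    have hel : ∀ i : Fin ws.length, ∀ u, vecB (imW D ws[i] u) =
        ((el i : G28) : Matrix (Fin 28) (Fin 28) (ZMod 2)) *ᵥ vecB u := fun i u =>
      imW_vec hg _ (fun j hj => (hlet _ (List.getElem_mem _) j hj).2) u
    have hinj : Function.Injective fun q : Fin ws.length × T => el q.1 * (q.2 : Gru) := by
      rintro ⟨a, s⟩ ⟨b, t⟩ e
      simp only at e
      have e2 := congrArg (fun x : Gru => ((x : G28) : Matrix (Fin 28) (Fin 28) (ZMod 2)) *ᵥ vecB v) e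
      simp only [Subgroup.coe_mul, Units.val_mul, ← Matrix.mulVec_mulVec,
        (hTs _ s.2).2 v List.mem_cons_self, (hTs _ t.2).2 v List.mem_cons_self, ← hel] at e2
      have e3 := vecB_inj (imW_lt D _ hv) (imW_lt D _ hv) e2
      have hab : a = b := by
        rcases lt_trichotomy (a : ℕ) b with h' | h' | h'
        · have := List.pairwise_iff_getElem.1 hpw a b (by simp) (by simp) h'
          simp only [List.getElem_map] at this
          exact absurd e3 (ne_of_lt this)
        · exact Fin.ext h'
        · have := List.pairwise_iff_getElem.1 hpw b a (by simp) (by simp) h'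
          simp only [List.getElem_map] at this
          exact absurd e3.symm (ne_of_lt this)
      subst hab
      exact Prod.ext rfl (Subtype.ext (mul_left_cancel e))
    refine ⟨Finset.univ.image fun q : Fin ws.length × T => el q.1 * (q.2 : Gru), ?_, ?_⟩
    · rw [Finset.card_image_of_injective _ hinj, Finset.card_univ, Fintype.card_prod, Fintype.card_fin,
        Fintype.card_coe, hT]
      simp [chainSize]
    · intro t ht
      obtain ⟨⟨i, s⟩, -, rfl⟩ := Finset.mem_image.1 ht
      refine ⟨mul_mem ⟨lval g ws[i], ?_, rfl⟩ (hTs _ s.2).1, fun u hu => ?_⟩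
      · refine Subgroup.list_prod_mem _ fun y hy => ?_
        obtain ⟨j, hj, rfl⟩ := List.mem_map.1 hy
        exact Subgroup.subset_closure ⟨j, ⟨Nat.zero_le j, (hlet _ (List.getElem_mem _) j hj).1⟩, rfl⟩
      · rw [Subgroup.coe_mul, Units.val_mul, ← Matrix.mulVec_mulVec, (hTs _ s.2).2 u (List.mem_cons_of_mem _ hu),
          ← hel]
        exact congrArg vecB (Nat.eq_of_beq_eq_true (hfix _ (List.getElem_mem _) u hu))

theorem chain_le {g : ℕ → fourRu} (hg : Acts D g) {m : ℕ} {L : List (ℕ × List (List ℕ))}
    (h : chainOK D m L [] = true) : chainSize L ≤ Nat.card ((Subgroup.closure (g '' Set.Ico 0 m)).map ψ) := by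
  obtain ⟨T, hT, hTs⟩ := chain_card hg m L [] h
  rw [← hT, ← Nat.card_eq_finsetCard T]
  exact Nat.card_le_card_of_injective (fun t : (T : Set Gru) => (⟨t, (hTs _ t.2).1⟩ : ((Subgroup.closure (g '' Set.Ico 0 m)).map ψ)))
    fun a b e => by
      have h := congrArg (fun x : ((Subgroup.closure (g '' Set.Ico 0 m)).map ψ) => (x : Gru)) e
      exact Subtype.ext h

theorem hom_word {A : Type*} [AddCommGroup A] {G : Type*} [Group G] (V : G →* Multiplicative A) (g : ℕ → G)
    (w : List ℕ) : (V (lval g w)).toAdd = (w.map fun j => (V (g j)).toAdd).sum := by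
  induction w with
  | nil => simp [lval]
  | cons j w ih => rw [lval_cons, map_mul, toAdd_mul, ih, List.map_cons, List.sum_cons]

/-- A homomorphism to the group of order two kills a letter with a parity combination. -/
theorem parity_kill {G : Type*} [Group G] (V : G →* Multiplicative (ZMod 2)) (g : ℕ → G) {rels : List Rule}
    {ng skip k : ℕ} {c : List ℕ} (hlet : ∀ u ∈ rels, (∀ j ∈ u.1, j < ng) ∧ ∀ j ∈ u.2, j < ng)
    (hrel : ∀ u ∈ rels, lval g u.1 = lval g u.2) (hskip : skip < ng → V (g skip) = 1)
    (h : parityOK rels ng skip k c = true) : V (g k) = 1 := by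
  simp only [parityOK, Bool.and_eq_true, List.all_eq_true, Nat.blt_eq, List.mem_range, Bool.or_eq_true] at h
  obtain ⟨hc, hk, hpar⟩ := h
  set a : ℕ → ZMod 2 := fun j => (V (g j)).toAdd
  have sum_count : ∀ w : List ℕ, (∀ j ∈ w, j < ng) →
      (w.map a).sum = ∑ j ∈ Finset.range ng, (w.count j : ZMod 2) * a j := by
    intro w
    induction w with
    | nil => simp
    | cons i w ih =>
      intro hw
      rw [List.map_cons, List.sum_cons, ih fun j hj => hw j (List.mem_cons_of_mem _ hj)]
      simp only [List.count_cons, Nat.cast_add, add_mul, Finset.sum_add_distrib]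
      rw [Finset.sum_eq_single i (f := fun j => ((if i == j then 1 else 0 : ℕ) : ZMod 2) * a j)
        (fun j _ hj => by simp [Ne.symm hj])
        (fun hn => absurd (Finset.mem_range.2 (hw i List.mem_cons_self)) hn)]
      simp [add_comm]
  have h0 : ∀ b ∈ c, ∑ j ∈ Finset.range ng,
      (((rels.getD b ([], [])).1.count j + (rels.getD b ([], [])).2.count j : ℕ) : ZMod 2) * a j = 0 := by
    intro b hb
    have hm : rels.getD b ([], []) ∈ rels := by
      rw [List.getD_eq_getElem _ _ (hc b hb)]; exact List.getElem_mem _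
    simp only [Nat.cast_add, add_mul, Finset.sum_add_distrib]
    rw [← sum_count _ (hlet _ hm).1, ← sum_count _ (hlet _ hm).2, ← hom_word, ← hom_word, hrel _ hm]
    exact ZModModule.add_self _
  have h1 : ∑ j ∈ Finset.range ng,
      (((c.map fun b => ((rels.getD b ([], [])).1.count j + (rels.getD b ([], [])).2.count j)).sum : ℕ) : ZMod 2) * a j = 0 := by
    clear hpar hc
    induction c with
    | nil => simp
    | cons b c ih =>
      simp only [List.map_cons, List.sum_cons, Nat.cast_add, add_mul, Finset.sum_add_distrib]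
      have hb0 := h0 b List.mem_cons_self
      simp only [Nat.cast_add, add_mul, Finset.sum_add_distrib] at hb0
      rw [hb0, ih fun b hb => h0 b (List.mem_cons_of_mem _ hb), add_zero]
  rw [Finset.sum_eq_single k] at h1
  · rcases hpar k hk with h | h
    · rw [Nat.eq_of_beq_eq_true h]; exact hskip (Nat.eq_of_beq_eq_true h ▸ hk)
    · rw [Nat.beq_refl, cond_true] at h
      have e := Nat.eq_of_beq_eq_true h
      rw [← ZMod.natCast_mod _ 2, e, Nat.cast_one, one_mul] at h1
      exact h1
  · intro j hj hne
    rcases hpar j (Finset.mem_range.1 hj) with h | h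
    · rw [show a j = 0 by
        show (V (g j)).toAdd = 0
        rw [Nat.eq_of_beq_eq_true h, hskip (Nat.eq_of_beq_eq_true h ▸ Finset.mem_range.1 hj), toAdd_one], mul_zero]
    · rw [show Nat.beq j k = false by rw [← Bool.not_eq_true, Nat.beq_eq]; exact hne, cond_false] at h
      rw [← ZMod.natCast_mod _ 2, Nat.eq_of_beq_eq_true h, Nat.cast_zero, zero_mul]
  · intro hn; exact absurd (Finset.mem_range.2 hk) hn

end Cfsg.Agent.Spor.RuMult
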