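import Cfsg.Agent.Lib.Spor.RuMult.Main
import Cfsg.Prelude.Def_KGroupFacts

/-!
The multiplier of the Rudvalis group.
-/

set_option autoImplicit false
set_option maxRecDepth 100000
set_option maxHeartbeats 400000

namespace Cfsg.Agent.Spor.RuMult

open Cfsg Cfsg.Spor Cfsg.Agent.Spor.RuMin Cfsg.Agent.Spor.RuCert Cfsg.Agent.Spor.RuAut
open Cfsg.Agent.Lie
open scoped commutatorElement

theorem two_facts : (twoCert.rels.all (fun u => (u.1.filter fun j => Nat.ble twoCert.n j) ==
    (u.2.filter fun j => Nat.ble twoCert.n j))) = true ∧ Nat.beq twoCert.n 15 = true ∧ Nat.beq twoCert.p 2 = true := by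
  decide +kernel

theorem three_facts : (threeCert.rels.all (fun u => (u.1.filter fun j => Nat.ble threeCert.n j) ==
    (u.2.filter fun j => Nat.ble threeCert.n j))) = true ∧ Nat.beq threeCert.n 3 = true ∧
    Nat.beq threeCert.p 3 = true ∧ Nat.blt threeCert.ng 999 = true := by
  decide +kernel

theorem five_facts : (fiveCert.rels.all (fun u => (u.1.filter fun j => Nat.ble fiveCert.n j) ==
    (u.2.filter fun j => Nat.ble fiveCert.n j))) = true ∧ Nat.beq fiveCert.n 3 = true ∧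
    Nat.beq fiveCert.p 5 = true ∧ Nat.blt fiveCert.ng 999 = true := by
  decide +kernel

theorem low_of {D : Data} {g : ℕ → fourRu} (hg : Acts D g) {m N : ℕ} {L : List (ℕ × List (List ℕ))}
    (hL : chainOK D m L [] = true) (hN : Nat.beq (chainSize L) N = true) :
    N ≤ Nat.card (Subgroup.closure (g '' Set.Ico 0 m)) := by
  refine ((Nat.eq_of_beq_eq_true hN).symm.le.trans (chain_le hg hL)).trans ?_
  rw [card_split]
  exact Nat.le_mul_of_pos_left _ Nat.card_pos

theorem no_torsion {Γ : Type} [Group Γ] [Finite Γ] {σ : Γ →* dcov} (hσ : Cfsg.IsStemExtension σ) (q : ℕ)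
    (hq : q.Prime) (z : σ.ker) (hz : z ^ q = 1) : z = 1 := by
  by_cases h235 : q = 2 ∨ q = 3 ∨ q = 5
  · by_contra hne
    obtain ⟨Δ, _, _, τ, hτ, hcard⟩ := CentralLocal.exists_stem_of_prime hσ hq hz hne
    rcases h235 with rfl | rfl | rfl
    · obtain ⟨hbig, hn, hp⟩ := two_facts
      have hn' := Nat.eq_of_beq_eq_true hn
      have hp' := Nat.eq_of_beq_eq_true hp
      refine no_prime two_dvalid two_valid (Nat.eq_of_beq_eq_true two_ng) two_rels (m := 14) (skip := 14)
        two_parity (by rw [hn']; norm_num) ?_ hbig ?_ (hp'.symm ▸ hq) ?_ hτ (hcard.trans hp'.symm)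
      · intro g hg j hj
        have e : j = 14 := by rcases hj with ⟨rfl, -⟩ | ⟨h1, h2⟩ <;> omega
        rw [e, top_letter hg]
        exact comm_le neg_comm
      · intro g hg
        rw [hn', hp', card_two_sylow hg]
      · rw [hn', hp']; decide
    · obtain ⟨hbig, hn, hp, hng⟩ := three_facts
      have hn' := Nat.eq_of_beq_eq_true hn
      have hp' := Nat.eq_of_beq_eq_true hp
      refine no_prime three_dvalid three_valid (Nat.eq_of_beq_eq_true three_ng) three_rels (m := 3) (skip := 999)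
        three_parity (by rw [hn']) ?_ hbig ?_ (hp'.symm ▸ hq) ?_ hτ (hcard.trans hp'.symm)
      · intro g _ j hj
        rcases hj with ⟨-, h⟩ | ⟨h1, h2⟩
        · have := Nat.le_of_ble_eq_true hng; omega
        · omega
      · intro g hg
        have := low_of hg three_chain three_size
        rw [hn']
        rwa [hp'] at this ⊢
      · rw [hn', hp']; decide
    · obtain ⟨hbig, hn, hp, hng⟩ := five_facts
      have hn' := Nat.eq_of_beq_eq_true hn
      have hp' := Nat.eq_of_beq_eq_true hp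
      refine no_prime five_dvalid five_valid (Nat.eq_of_beq_eq_true five_ng) five_rels (m := 3) (skip := 999)
        five_parity (by rw [hn']) ?_ hbig ?_ (hp'.symm ▸ hq) ?_ hτ (hcard.trans hp'.symm)
      · intro g _ j hj
        rcases hj with ⟨-, h⟩ | ⟨h1, h2⟩
        · have := Nat.le_of_ble_eq_true hng; omega
        · omega
      · intro g hg
        have := low_of hg five_chain five_size
        rw [hn']
        rwa [hp'] at this ⊢
      · rw [hn', hp']; decide
  · refine CentralTable.ker_no_torsion hσ hq (fun h => ?_) z hz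
    rw [dcov_card, show (291852288000 : ℕ) = 2 ^ 15 * 3 ^ 3 * 5 ^ 3 * 7 * 13 * 29 by norm_num] at h
    have hdvd : q ∣ 2 ^ 15 * 3 ^ 3 * 5 ^ 3 * 7 * 13 * 29 := (dvd_pow_self q two_ne_zero).trans h
    simp only [hq.dvd_mul] at hdvd
    have key : ∀ p : ℕ, p.Prime → q ∣ p → q = p := fun p hp e => (Nat.prime_dvd_prime_iff_eq hq hp).1 e
    rcases hdvd with ((((e | e) | e) | e) | e) | e
    · exact h235 (Or.inl (key 2 Nat.prime_two (hq.dvd_of_dvd_pow e)))
    · exact h235 (Or.inr (Or.inl (key 3 Nat.prime_three (hq.dvd_of_dvd_pow e))))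
    · exact h235 (Or.inr (Or.inr (key 5 Nat.prime_five (hq.dvd_of_dvd_pow e))))
    all_goals
      obtain rfl := key _ (by norm_num) e
      norm_num at h

theorem stem_trivial {Γ : Type} [Group Γ] [Finite Γ] {σ : Γ →* dcov} (hσ : Cfsg.IsStemExtension σ) : σ.ker = ⊥ := by
  refine Subgroup.eq_bot_of_card_eq _ ?_
  by_contra hne
  obtain ⟨q, hq, hd⟩ := Nat.exists_prime_and_dvd hne
  haveI : Fact q.Prime := ⟨hq⟩
  obtain ⟨z, hz⟩ := exists_prime_orderOf_dvd_card' q hd
  have h := no_torsion hσ q hq z (hz ▸ pow_orderOf_eq_one z)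
  rw [h, orderOf_one] at hz
  exact hq.one_lt.ne hz

theorem gru_multiplier : Cfsg.HasSchurMultiplier Gru (Multiplicative (ZMod 2)) := by
  have hperf := commutator_gru
  refine CoverUniversal.hasSchur_of hperf
    ⟨dcov, inferInstance, inferInstance, dψ, dψ_stem, ⟨?_⟩⟩ ?_
  · exact mulEquivOfPrimeCardEq (p := 2) dψ_ker_card (by simp)
  intro Γ _ _ σ hσ
  obtain ⟨E, _, _, ψ', φ', hE, hψ', hcomm, hc⟩ := Solv.exists_common_cover (Group.isPerfect_def.2 hperf)
    (Group.isPerfect_def.2 dcov_perfect) dψ dψ_stem.1 dψ_stem.2.1 σ hσ.1 hσ.2.1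
  have hψs : Cfsg.IsStemExtension ψ' := ⟨hψ', fun x hx => hc (by
    rw [MonoidHom.mem_ker] at hx
    rw [MonoidHom.mem_ker, MonoidHom.comp_apply, hx, map_one]), by
    rw [Group.IsPerfect.commutator_eq_top]; exact le_top⟩
  have hEle : Nat.card E ≤ Nat.card dcov :=
    Nat.card_le_card_of_injective ψ' ((MonoidHom.ker_eq_bot_iff ψ').1 (stem_trivial hψs))
  have hφ : Function.Surjective φ' := by
    rw [← MonoidHom.range_eq_top, ← top_le_iff, ← CoverUniversal.perfect_of_stem hperf hσ, commutator_def,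
      Subgroup.commutator_le]
    intro a _ b _
    obtain ⟨x, hx⟩ := (dψ_stem.1.comp hψ') (σ a)
    obtain ⟨y, hy⟩ := (dψ_stem.1.comp hψ') (σ b)
    have e : ∀ d, σ (φ' d) = dψ (ψ' d) := fun d => (DFunLike.congr_fun hcomm d).symm
    obtain ⟨z, hz, rfl⟩ := CentralTable.exists_central hσ.2.1 (x := a) (y := φ' x) (by rw [e]; exact hx.symm)
    obtain ⟨w, hw, rfl⟩ := CentralTable.exists_central hσ.2.1 (x := b) (y := φ' y) (by rw [e]; exact hy.symm)
    refine ⟨⁅x, y⁆, ?_⟩
    rw [map_commutatorElement, commutatorElement_def, commutatorElement_def, mul_inv_rev, mul_inv_rev]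
    symm
    calc φ' x * z * (φ' y * w) * (z⁻¹ * (φ' x)⁻¹) * (w⁻¹ * (φ' y)⁻¹)
        = φ' x * (z * (φ' y * w) * z⁻¹) * (φ' x)⁻¹ * (w⁻¹ * (φ' y)⁻¹) := by group
      _ = φ' x * (φ' y * w) * (φ' x)⁻¹ * (w⁻¹ * (φ' y)⁻¹) := by rw [hz, mul_inv_cancel_right]
      _ = φ' x * φ' y * (w * (φ' x)⁻¹ * w⁻¹) * (φ' y)⁻¹ := by group
      _ = φ' x * φ' y * (φ' x)⁻¹ * (φ' y)⁻¹ := by rw [hw, mul_inv_cancel_right]
  have hΓ := (Nat.card_le_card_of_surjective φ' hφ).trans hEle
  rw [← Subgroup.card_mul_index σ.ker, Subgroup.index_ker, MonoidHom.range_eq_top.2 hσ.1, Subgroup.card_top,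
    card_G, dcov_card] at hΓ
  rw [show Nat.card (Multiplicative (ZMod 2)) = 2 by simp]
  omega

theorem multiplier : Cfsg.HasCyclicSchurMultiplier Cfsg.Spor.Ru 2 := by
  obtain ⟨⟨E, iG, iF', π, hπ, ⟨e2⟩⟩, hall⟩ := gru_multiplier
  have e := RuAut.ruEquiv
  refine ⟨⟨E, iG, iF', e.symm.toMonoidHom.comp π, ?_, ⟨?_⟩⟩, fun Γ _ _ σ hσ => ?_⟩
  · have hk : (e.symm.toMonoidHom.comp π).ker = π.ker := by ext y; simp [MonoidHom.mem_ker]
    exact ⟨e.symm.surjective.comp hπ.1, hk ▸ hπ.2.1, hk ▸ hπ.2.2⟩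
  · have hk : (e.symm.toMonoidHom.comp π).ker = π.ker := by ext y; simp [MonoidHom.mem_ker]
    exact (MulEquiv.subgroupCongr hk).trans e2
  · have hk : (e.toMonoidHom.comp σ).ker = σ.ker := by ext y; simp [MonoidHom.mem_ker]
    obtain ⟨f, hf⟩ := hall Γ (e.toMonoidHom.comp σ) ⟨e.surjective.comp hσ.1, hk ▸ hσ.2.1, hk ▸ hσ.2.2⟩
    exact ⟨(MulEquiv.subgroupCongr hk).toMonoidHom.comp f, (MulEquiv.subgroupCongr hk).surjective.comp hf⟩

end Cfsg.Agent.Spor.RuMult
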