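import Cfsg.Agent.Lib.Spor.RuMult.Defs
import Cfsg.Agent.Lib.Lie.CentralRewrite.Main

/-!
Data at the prime five for the multiplier of the Rudvalis group: letters, derivations and images.
-/

set_option autoImplicit false
set_option maxRecDepth 100000
set_option maxHeartbeats 4000000

namespace Cfsg.Agent.Spor.RuMult

open Cfsg.Agent.Lie.CentralRewrite (Rule Step Pair)

/-- a block of letters -/
def fiveLetters0 : List ((ℕ × ℕ × ℕ × ℕ × ℕ) × ℕ × ℕ) := [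
  ((3316, 1, 1259, 218, 11), 0x98ac6cb4cfa22085ae542ce3a49a55ff7c955e83e078d0bace093fc1a970b1baacf7b013876a8b305692482798a8b5ecf10d6cdfb7efbe63b10b499c11c10a31160f001ddcf1092374333016c8ebd862007ee9eb29b2c18ce4ff91881bfeb00ad1a2, 1),
  ((1662, 0, 1713, 305, 19), 0x7625de97d464eebb15ad976da0eb6df621eb7f1cd15254f7ec6685aff9384e2568382c5e6d33e4fce79efec8775172d78c67c93caf1e3263c3034129b4d610c29f7385753301aec59439485f9f9c831b23e40976212277405eeab1954a8e671b8162, 2),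
  ((2711, 0, 653, 100, 0), 0x88e4bbf2a745c5e55fe92817ad6495503b4869e3dd0ee6fe4c02190929de2968011a96a4a151b8fbe8e7cc13ea56206dcae94f1a6a389f832d79efbc8374e52ff79f7c9f3159230b99dce32b87ac526bb87adbdbccf7d3cc40740b41f847d65f9de4, 3),
  ((359, 1, 560, 188, 12), 0x5a4cb481042ab2a9fc0c27282c304f68ff4fac00b1dcce0da03ba07e5050e1228433cbfa90cc39b1d2496c590c4dd7c02b6cda78970067079bd68a3dde7137ea4eb0f14ee803d70b7b5eefb4ac6b4ae5db71c0bc7eca90189427c57089ae274f5eb6, 4)]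

/-- all of letters -/
def fiveLetters : List ((ℕ × ℕ × ℕ × ℕ × ℕ) × ℕ × ℕ) := fiveLetters0

/-- a block of nodes -/
def fiveNodes0 : List (ℕ × ℕ × ℕ) := [
  (0, 0, 1),
  (7, 118, 12),
  (13, 75, 14),
  (12, 74, 10),
  (6, 119, 6),
  (10, 72, 11),
  (9, 115, 15),
  (10, 82, 5),
  (14, 24, 23),
  (9, 98, 1),
  (9, 110, 13),
  (13, 79, 8),
  (6, 57, 3),
  (13, 32, 4),
  (2, 90, 24),
  (8, 110, 4),
  (13, 56, 3),
  (5, 96, 6),
  (12, 21, 31),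
  (8, 111, 5),
  (13, 7, 14),
  (10, 33, 0),
  (13, 32, 10),
  (13, 62, 12),
  (4, 97, 8),
  (13, 119, 3),
  (4, 78, 1),
  (7, 20, 10),
  (12, 101, 2),
  (8, 92, 4),
  (10, 47, 4),
  (8, 12, 6),
  (7, 119, 6),
  (13, 74, 10),
  (12, 63, 15),
  (6, 118, 3),
  (9, 114, 11),
  (10, 83, 9),
  (9, 99, 9),
  (0, 0, 3),
  (9, 111, 4),
  (6, 60, 14),
  (13, 78, 14),
  (14, 17, 29),
  (8, 111, 14),
  (5, 93, 0),
  (13, 53, 0),
  (2, 79, 29),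
  (13, 6, 8),
  (13, 29, 10),
  (13, 63, 4),
  (13, 29, 4),
  (12, 20, 16),
  (14, 10, 29),
  (4, 79, 15),
  (8, 110, 0),
  (12, 104, 15),
  (7, 17, 14),
  (8, 89, 6),
  (10, 69, 12),
  (10, 36, 15),
  (4, 100, 4),
  (8, 9, 7)]

/-- all of nodes -/
def fiveNodes : List (ℕ × ℕ × ℕ) := fiveNodes0

/-- a block of reds -/
def fiveReds0 : List (ℕ) := [
  0xedd5a73,
  0x23ff1c9,
  0x798abf4,
  0xb09c354,
  0x5cddb0a,
  0x1cdeb9d,
  0xd8df611,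
  0xb88e2d1,
  0xe78d38e,
  0xdeaf107,
  0xc05f352,
  0xdf18485,
  0x7fc7757,
  0x2f9698d,
  0xdaba9f4,
  0xd377afd,
  0xdf37d27,
  0xd1a4cf3,
  0xcb4fcb9,
  0xe6af7bd,
  0x5869e3a,
  0x3d66ba2,
  0xde1ec3f,
  0xb08cdb2,
  0xd9712c4,
  0x9dd5be7,
  0x8f28dae,
  0xd7b3fae,
  0xd55fbd7,
  0xe5ceff9,
  0xfeaffbc,
  0xbb6bd2f]

/-- all of reds -/
def fiveReds : List (ℕ) := fiveReds0

/-- a block of steps -/
def fiveSteps0 : List (ℕ × ℕ × ℕ × ℕ × ℕ) := [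
  (0, 0, 1, 32, 0),
  (1, 0, 2, 33, 0),
  (2, 0, 3, 34, 0),
  (3, 0, 4, 35, 0),
  (0, 5, 6, 36, 0),
  (0, 6, 7, 37, 0),
  (0, 8, 9, 38, 0),
  (0, 7, 0, 39, 4),
  (0, 3, 10, 40, 0),
  (0, 11, 12, 41, 0),
  (0, 13, 11, 42, 0),
  (0, 12, 8, 43, 4),
  (0, 14, 15, 44, 4),
  (1, 16, 17, 45, 1),
  (1, 18, 16, 46, 1),
  (1, 1, 15, 44, 14),
  (1, 19, 14, 47, 1),
  (1, 20, 0, 39, 1),
  (1, 21, 20, 48, 13),
  (1, 3, 22, 49, 1),
  (1, 2, 23, 50, 1),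
  (1, 17, 13, 51, 15),
  (1, 4, 18, 52, 17),
  (1, 24, 25, 53, 14),
  (2, 19, 0, 39, 2),
  (2, 3, 26, 54, 2),
  (2, 2, 22, 49, 2),
  (2, 27, 19, 55, 24),
  (2, 4, 28, 56, 26),
  (2, 26, 27, 57, 25),
  (3, 3, 28, 56, 3),
  (3, 2, 9, 38, 3),
  (0, 25, 29, 58, 4),
  (0, 1, 5, 59, 5),
  (1, 23, 21, 60, 14),
  (1, 28, 24, 61, 21),
  (2, 1, 10, 40, 29),
  (3, 30, 31, 62, 3),
  (3, 1, 29, 58, 37)]

/-- all of steps -/
def fiveSteps : List (ℕ × ℕ × ℕ × ℕ × ℕ) := fiveSteps0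

/-- a block of paths -/
def fivePaths0 : List (List ℕ × List ℕ) := [
  ([0, 33, 4, 5, 7], []),
  ([0, 15], [2, 25, 29, 27, 16, 12]),
  ([1, 20, 34, 18, 17], []),
  ([0, 36], [2, 8]),
  ([1, 26], [2, 19]),
  ([2, 25, 29, 27, 24], []),
  ([0, 38], [3, 28, 35, 23, 32]),
  ([1, 31], [3, 22, 14, 13, 21, 10, 9, 11, 6]),
  ([2, 30], [3, 28])]

/-- all of paths -/
def fivePaths : List (List ℕ × List ℕ) := fivePaths0

/-- a block of rels -/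
def fiveRels0 : List (Rule) := [
  ([0, 0, 0, 0, 0], []),
  ([1, 0], [0, 1, 2, 2, 2, 2]),
  ([1, 1, 1, 1, 1], []),
  ([2, 0], [0, 2]),
  ([2, 1], [1, 2]),
  ([2, 2, 2, 2, 2], []),
  ([3, 0], [0, 1, 1, 2, 3]),
  ([3, 1], [0, 0, 0, 0, 1, 1, 1, 1, 3]),
  ([3, 2], [2, 3])]

/-- all of rels -/
def fiveRels : List (Rule) := fiveRels0

/-- a block of eqs -/
def fiveEqs0 : List (Pair) := [
  ([1, 1, 1, 1, 1, 0], [(4, 1, true), (3, 1, true), (2, 1, true), (1, 1, true), (0, 1, true), (5, 4, true), (4, 4, true), (3, 4, true), (2, 4, true), (3, 5, true), (5, 4, true), (4, 4, true), (3, 4, true), (4, 5, true), (5, 4, true), (4, 4, true), (5, 5, true), (5, 4, true), (1, 2, true), (1, 5, true)], [(0, 2, true)]),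
  ([3, 2, 0], [(0, 8, true), (1, 6, true), (0, 3, true), (1, 4, true), (2, 4, true)], [(1, 3, true), (0, 6, true), (4, 8, true)]),
  ([3, 2, 1], [(0, 8, true), (1, 7, true), (0, 3, true), (1, 3, true), (2, 3, true), (3, 3, true), (4, 4, true), (5, 4, true), (6, 4, true), (7, 4, true)], [(1, 4, true), (0, 7, true), (8, 8, true)]),
  ([3, 0, 0, 0, 0, 0], [(0, 6, true), (4, 6, true), (8, 6, true), (12, 6, true), (16, 6, true), (3, 3, true), (2, 1, true), (1, 1, true), (6, 4, true), (5, 4, true), (4, 4, true), (3, 4, true), (4, 5, true), (7, 4, true), (6, 4, true), (5, 4, true), (4, 4, true), (8, 4, true), (7, 4, true), (6, 4, true), (5, 4, true), (6, 5, true), (5, 1, true), (4, 1, true), (3, 1, true), (2, 1, true), (7, 4, true), (6, 4, true), (5, 4, true), (4, 4, true), (5, 5, true), (7, 4, true), (6, 4, true), (5, 4, true), (6, 5, true), (7, 4, true), (6, 4,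 true), (7, 5, true), (7, 4, true), (3, 2, true), (3, 4, true), (5, 3, true), (4, 3, true), (3, 1, true), (5, 5, true), (5, 4, true), (6, 4, true), (8, 3, true), (7, 3, true), (6, 1, true), (5, 1, true), (4, 1, true), (0, 0, true), (4, 4, true), (3, 4, true), (2, 4, true), (1, 4, true), (2, 5, true), (4, 4, true), (3, 4, true), (2, 4, true), (3, 5, true), (6, 4, true), (5, 4, true), (4, 4, true), (3, 4, true), (7, 4, true), (6, 4, true), (5, 4, true), (4, 4, true), (0, 2, true), (0, 5, true)], [(1, 0, true)]),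
  ([3, 1, 1, 1, 1, 1], [(0, 7, true), (8, 7, true), (16, 7, true), (24, 7, true), (32, 7, true), (7, 1, true), (6, 1, true), (5, 1, true), (4, 1, true), (0, 0, true), (4, 4, true), (3, 4, true), (2, 4, true), (1, 4, true), (2, 5, true), (4, 4, true), (3, 4, true), (2, 4, true), (3, 5, true), (4, 4, true), (3, 4, true), (4, 5, true), (4, 3, true), (3, 1, true), (2, 1, true), (1, 1, true), (0, 1, true), (5, 4, true), (4, 4, true), (3, 4, true), (2, 4, true), (3, 5, true), (5, 4, true), (4, 4, true), (3, 4, true), (4, 5, true), (5, 4, true), (4, 4, true), (5, 5, true), (6, 3, true), (5, 3, true), (4, 1, true), (3, 1, true), (2, 1, true), (1, 1, true), (6, 4, true), (5, 4, true), (4, 4, true), (3, 4, true), (4, 5, true), (6, 4, true), (5, 4, true), (4, 4, true), (5, 5, true), (6, 4, true), (5, 4, true), (6, 5, true), (8, 3, true), (7, 3, true), (6, 3, true),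 (5, 1, true), (4, 1, true), (3, 1, true), (2, 1, true), (7, 4, true), (6, 4, true), (5, 4, true), (4, 4, true), (5, 5, true), (7, 4, true), (6, 4, true), (5, 4, true), (6, 5, true), (7, 4, true), (6, 4, true), (7, 5, true), (10, 4, true), (9, 4, true), (8, 4, true), (7, 4, true), (3, 2, true), (6, 4, true), (5, 4, true), (4, 4, true), (3, 4, true), (7, 4, true), (6, 4, true), (5, 4, true), (4, 4, true), (8, 4, true), (7, 4, true), (6, 4, true), (5, 4, true), (9, 3, true), (8, 3, true), (7, 3, true), (6, 3, true), (5, 1, true), (4, 1, true), (3, 1, true), (8, 4, true), (7, 4, true), (6, 4, true), (5, 4, true), (6, 5, true), (8, 4, true), (7, 4, true), (6, 4, true), (7, 5, true), (7, 5, true), (7, 3, true), (6, 1, true), (5, 1, true), (4, 1, true), (0, 0, true), (4, 4, true), (3, 4, true), (2, 4, true), (1, 4, true), (2, 5, true), (4, 4, true), (3, 4, true),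 (2, 4, true), (3, 5, true), (5, 3, true), (4, 3, true), (3, 3, true), (2, 1, true), (1, 1, true), (0, 1, true), (5, 4, true), (4, 4, true), (3, 4, true), (2, 4, true), (3, 5, true), (5, 4, true), (4, 4, true), (3, 4, true), (4, 5, true), (4, 5, true), (3, 1, true), (2, 1, true), (1, 1, true), (6, 4, true), (5, 4, true), (4, 4, true), (3, 4, true), (4, 5, true), (6, 4, true), (5, 4, true), (4, 4, true), (5, 5, true), (6, 4, true), (5, 4, true), (7, 4, true), (6, 4, true), (2, 2, true), (3, 4, true), (2, 4, true), (4, 4, true), (3, 4, true), (5, 3, true), (4, 3, true), (3, 1, true), (2, 1, true), (7, 4, true), (6, 4, true), (5, 4, true), (4, 4, true), (5, 5, true), (5, 5, true), (4, 1, true), (3, 1, true), (8, 4, true), (7, 4, true), (6, 4, true), (5, 4, true), (6, 5, true), (8, 3, true), (7, 3, true), (6, 3, true), (5, 1, true), (4, 1, true), (0, 0, true),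 (4, 4, true), (3, 4, true), (2, 4, true), (1, 4, true), (2, 5, true), (2, 5, true), (2, 3, true), (1, 1, true), (0, 1, true), (5, 4, true), (4, 4, true), (3, 4, true), (2, 4, true), (3, 5, true), (6, 4, true), (5, 4, true), (4, 4, true), (3, 4, true), (7, 4, true), (6, 4, true), (5, 4, true), (4, 4, true), (8, 4, true), (7, 4, true), (6, 4, true), (5, 4, true), (1, 2, true), (4, 4, true), (3, 4, true), (2, 4, true), (1, 4, true), (5, 3, true), (4, 3, true), (3, 3, true), (2, 3, true), (1, 1, true), (3, 5, true), (5, 3, true), (4, 3, true), (3, 3, true), (2, 1, true), (4, 5, true), (5, 3, true), (4, 3, true), (3, 1, true), (5, 5, true), (5, 3, true), (4, 1, true), (0, 0, true), (1, 5, true), (0, 2, true)], [(1, 2, true)])]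

/-- all of eqs -/
def fiveEqs : List (Pair) := fiveEqs0

/-- a block of vecs -/
def fiveVecs0 : List (List ℤ) := [
  [0, 0, 0, 0, 0, 4, 0, 0, 0],
  [0, 0, 0, 0, 2, 0, 0, 0, 0],
  [0, 0, 0, 4, 3, 0, 0, 0, 0],
  [0, 0, 2, 0, 0, 4, 0, 0, 0],
  [4, 0, 3, 0, 0, 2, 0, 0, 0]]

/-- all of vecs -/
def fiveVecs : List (List ℤ) := fiveVecs0

/-- a block of gauge -/
def fiveGauge0 : List (List (ℕ × ℤ)) := [
  [],
  [],
  [(1, 4)],
  []]

/-- all of gauge -/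
def fiveGauge : List (List (ℕ × ℤ)) := fiveGauge0

/-- a block of combs -/
def fiveCombs0 : List (List (ℕ × ℤ)) := [
  [(0, 4), (3, 4), (4, 4)],
  [],
  [(0, 2), (3, 3)],
  [(1, 4), (2, 4)],
  [(1, 3)],
  [(0, 4)]]

/-- all of combs -/
def fiveCombs : List (List (ℕ × ℤ)) := fiveCombs0

/-- a block of parity -/
def fiveParity0 : List (List ℕ) := [
  [0],
  [2],
  [5]]

/-- all of parity -/
def fiveParity : List (List ℕ) := fiveParity0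

/-- a block of lvl0w -/
def fiveLvl0W0 : List (List ℕ) := [
  [0, 0, 1, 1, 1, 2, 2, 2],
  [0, 0, 0, 0, 1, 1, 1, 1, 2],
  [0, 0, 2, 2, 2],
  [0, 0, 1, 1, 2, 2],
  [0, 0, 0],
  [0, 0, 0, 2],
  [0, 0, 2, 2],
  [0, 0, 0, 2, 2],
  [0, 0, 0, 0, 1, 1, 1, 1, 2, 2, 2, 2],
  [0, 0, 0, 2, 2, 2],
  [0, 1],
  [1, 1, 1, 2, 2],
  [0, 0, 1, 2, 2, 2],
  [0, 0, 1, 1, 1, 2, 2, 2, 2],
  [0, 0, 0, 1, 1, 1, 1, 2],
  [0, 0, 0, 1, 1],
  [0, 0, 2],
  [0, 0, 2, 2, 2, 2],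
  [0, 0, 0, 1, 2, 2, 2],
  [0, 0, 1, 2, 2, 2, 2],
  [0, 1, 2, 2, 2],
  [0, 0, 0, 1, 1, 2, 2, 2, 2],
  [1, 1, 2, 2, 2, 2],
  [0, 0, 0, 1, 1, 1, 1, 2, 2],
  [0, 0, 1, 1, 1, 1, 2, 2, 2],
  [0, 0, 0, 1, 1, 1, 2, 2, 2, 2],
  [0, 0, 0, 0, 1, 1, 2],
  [0, 0, 1, 1],
  [1, 1, 1, 2, 2, 2, 2],
  [0, 1, 2, 2],
  [1, 1, 2, 2],
  [1, 1, 2],
  [0, 0, 0, 0, 1, 1, 2, 2, 2],
  [0, 0, 0, 0],
  [0, 1, 1, 1, 2, 2, 2, 2],
  [0, 0, 1, 1, 1],
  [0, 1, 1, 2, 2],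
  [0, 0, 0, 1, 1, 1, 2, 2],
  [0, 0, 0, 1, 1, 2],
  [0, 0, 1, 1, 1, 2, 2],
  [0, 0, 0, 0, 1, 1, 1, 2, 2],
  [0, 2, 2, 2],
  [2],
  [0, 1, 1, 1, 1, 2, 2],
  [0, 0, 0, 0, 1],
  [0, 0, 0, 0, 1, 1, 1],
  [1, 1, 1],
  [0, 0, 0, 0, 1, 1, 1, 1, 2, 2, 2],
  [0, 1, 1],
  [0, 0, 0, 1, 1, 2, 2, 2]]

/-- a block of lvl0w -/
def fiveLvl0W1 : List (List ℕ) := [
  [0, 1, 1, 1, 2, 2],
  [0, 0, 0, 0, 1, 1, 2, 2],
  [0, 2],
  [0, 0, 0, 0, 2, 2],
  [1, 2, 2],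
  [0, 0, 0, 0, 1, 1, 2, 2, 2, 2],
  [0, 0, 1, 1, 1, 1, 2, 2],
  [0, 0, 0, 1, 1, 2, 2],
  [0, 0, 0, 0, 1, 1, 1, 2, 2, 2, 2],
  [0, 1, 1, 1, 2],
  [0, 1, 1, 1, 1],
  [0, 0],
  [1, 1, 1, 2],
  [1, 1, 1, 1, 2],
  [0, 0, 1, 1, 1, 2],
  [1, 1, 2, 2, 2],
  [0, 0, 0, 2, 2, 2, 2],
  [0, 0, 0, 1, 1, 1, 2],
  [0, 0, 0, 1],
  [0, 1, 1, 1, 1, 2, 2, 2],
  [0, 0, 1, 1, 1, 1],
  [0, 1, 1, 2, 2, 2, 2],
  [0, 2, 2],
  [0, 0, 0, 0, 1, 2],
  [0, 0, 0, 0, 2, 2, 2],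
  [0, 0, 0, 0, 2, 2, 2, 2],
  [0, 1, 1, 1, 2, 2, 2],
  [2, 2, 2, 2],
  [0, 0, 1, 1, 2, 2, 2, 2],
  [0, 0, 0, 0, 1, 1],
  [0, 0, 0, 1, 2, 2],
  [0, 1, 1, 1],
  [1],
  [0],
  [0, 0, 0, 0, 1, 2, 2, 2],
  [1, 1, 1, 1, 2, 2, 2, 2],
  [0, 0, 0, 0, 2],
  [1, 1, 1, 2, 2, 2],
  [0, 0, 0, 1, 1, 1, 2, 2, 2],
  [0, 0, 0, 1, 2],
  [1, 1, 1, 1, 2, 2],
  [1, 2, 2, 2, 2],
  [0, 1, 2],
  [0, 0, 0, 0, 1, 1, 1, 1, 2, 2],
  [0, 0, 1, 1, 1, 1, 2, 2, 2, 2],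
  [0, 0, 0, 1, 1, 1, 1, 2, 2, 2],
  [0, 0, 0, 0, 1, 1, 1, 1],
  [0, 0, 1, 2],
  [0, 0, 0, 0, 1, 2, 2],
  [0, 0, 0, 1, 1, 1]]

/-- a block of lvl0w -/
def fiveLvl0W2 : List (List ℕ) := [
  [0, 0, 0, 0, 1, 2, 2, 2, 2],
  [1, 1, 1, 1, 2, 2, 2],
  [0, 0, 1],
  [0, 0, 0, 0, 1, 1, 1, 2],
  [0, 1, 2, 2, 2, 2],
  [0, 1, 1, 1, 1, 2, 2, 2, 2],
  [0, 0, 0, 1, 1, 1, 1, 2, 2, 2, 2],
  [1, 2],
  [0, 0, 0, 1, 1, 1, 1],
  [0, 0, 0, 0, 1, 1, 1, 2, 2, 2],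
  [0, 0, 1, 2, 2],
  [0, 2, 2, 2, 2],
  [0, 0, 1, 1, 2, 2, 2],
  [0, 0, 1, 1, 2],
  [],
  [2, 2],
  [0, 1, 1, 2],
  [0, 0, 0, 1, 2, 2, 2, 2],
  [1, 2, 2, 2],
  [0, 1, 1, 2, 2, 2],
  [0, 0, 1, 1, 1, 1, 2],
  [0, 1, 1, 1, 1, 2],
  [1, 1],
  [2, 2, 2],
  [1, 1, 1, 1]]

/-- all of lvl0w -/
def fiveLvl0W : List (List ℕ) := fiveLvl0W0 ++ fiveLvl0W1 ++ fiveLvl0W2

/-- the levels -/
def fiveChain : List (ℕ × List (List ℕ)) := [(0xeeba634, fiveLvl0W)]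

/-- the images -/
def fiveData : Data where
  letters := fiveLetters
  nodes := fiveNodes
  reds := fiveReds
  steps := fiveSteps

/-- the derivations -/
def fiveCert : Cfsg.Agent.Lie.CentralRewrite.Cert where
  p := 5
  n := 3
  ng := 4
  M := 6
  rels := fiveRels
  eqs := fiveEqs
  vecs := fiveVecs
  gauge := fiveGauge
  combs := fiveCombs

end Cfsg.Agent.Spor.RuMult
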