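import Cfsg.Agent.Lib.Spor.RuMult.Extra
import Cfsg.Agent.Lib.Spor.RuMult.FiveData

/-!
The checks at the prime five for the multiplier of the Rudvalis group.
-/

set_option autoImplicit false
set_option maxRecDepth 100000
set_option Elab.async false

namespace Cfsg.Agent.Spor.RuMult

open Cfsg.Agent Cfsg.Agent.Spor.RuCert

theorem five_base : Nat.blt 0 fiveData.reds.length = true ∧ fiveData.nodes.getD 0 (0, 0, 0) = (0, 0, 1) ∧
    Nat.ble fiveData.reds.length fiveData.nodes.length = true := by decide +kernel

theorem five_letters : (List.range fiveData.letters.length).all fiveData.letterOK = true := by decide +kernel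

theorem five_nodes : (List.range fiveData.nodes.length).all fiveData.nodeOK = true := by decide +kernel

theorem five_reds : (List.range fiveData.reds.length).all fiveData.redOK = true := by decide +kernel

theorem five_steps : (List.range fiveData.steps.length).all fiveData.stepOK = true := by decide +kernel

theorem five_dvalid : fiveData.Valid := ⟨five_base, five_letters, five_nodes, five_reds, five_steps⟩

theorem five_rels : (List.range fiveCert.rels.length).all (fun b =>
    fiveData.relOK (fiveCert.rels.getD b ([], [])) (fivePaths.getD b ([], []))) = true := by decide +kernel

theorem five_chain : chainOK fiveData 3 fiveChain [] = true := by decide +kernel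

theorem five_size : Nat.beq (chainSize fiveChain) (fiveCert.p ^ 3) = true := by decide +kernel

theorem five_parity : (List.range 3).all (fun k =>
    parityOK fiveCert.rels fiveCert.ng 999 k (fiveParity.getD k [])) = true := by decide +kernel

theorem five_ng : Nat.beq fiveCert.ng fiveData.letters.length = true := by decide +kernel

theorem five_series : Lie.CentralRewrite.seriesOK fiveCert.p fiveCert.n fiveCert.M fiveCert.rels = true := by decide +kernel

theorem five_pairs : (List.range fiveCert.eqs.length).all
    (fun i => Lie.CentralRewrite.pairOK fiveCert.rels (fiveCert.eqs.getD i ([], [], []))) = true := by decide +kernel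

theorem five_vec : Lie.CentralRewrite.vecOK fiveCert.p fiveCert.rels.length fiveCert.eqs fiveCert.vecs = true := by
  decide +kernel

theorem five_kill0 : ((List.range' 0 6).all fun b =>
    Lie.CentralRewrite.killOK fiveCert.p fiveCert.rels.length fiveCert.ng fiveCert.rels fiveCert.gauge fiveCert.vecs fiveCert.combs b) = true := by
  decide +kernel

theorem five_valid : fiveCert.Valid where
  series := five_series
  pairs := five_pairs
  vec := five_vec
  veclen := by decide +kernel
  letters := by decide +kernel
  gaugeOK := by decide +kernel
  nng := by decide +kernel
  kill := fun b hb => by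
    change b < 6 at hb
    obtain ⟨j, hj, h1, h2⟩ : ∃ j < 1, 6 * j ≤ b ∧ b < 6 * j + 6 := ⟨b / 6, by omega, by omega, by omega⟩
    interval_cases j
    · exact List.all_eq_true.1 five_kill0 b (List.mem_range'_1.2 ⟨by omega, by omega⟩)

end Cfsg.Agent.Spor.RuMult
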