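import Cfsg.Agent.Lib.Spor.RuMult.Defs
import Cfsg.Agent.Lib.Lie.CentralRewrite.Main

/-!
Data at the prime three for the multiplier of the Rudvalis group: letters, derivations and images.
-/

set_option autoImplicit false
set_option maxRecDepth 100000
set_option maxHeartbeats 4000000

namespace Cfsg.Agent.Spor.RuMult

open Cfsg.Agent.Lie.CentralRewrite (Rule Step Pair)

/-- a block of letters -/
def threeLetters0 : List ((ℕ × ℕ × ℕ × ℕ × ℕ) × ℕ × ℕ) := [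
  ((1971, 0, 1134, 389, 16), 0xbea721b755facbdc7ca81734b412d118f99c4d40bce8d6d9a86abb957a66af46e73228ae1757edd51411181d4d40ca1c2b04461745768b38f5e65b747545b2d77b56ecb5ef1e263f986be0afb4c5f2f66dcace04790e47e9d8909895246ea5c20a3b, 1),
  ((1160, 1, 504, 399, 18), 0xd4cf4937dc893a894220042c0cd82b9288847014606c5b59b05dbe335d8276283525091947e8a2bf3f5bca596f08440a0b82512793fce0580506210f1510301685035f046c80971a1f2360130b5bd5593b9c53c1a545dd8f288c1ae4d41085203698, 2),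
  ((1400, 0, 1636, 480, 16), 0xa2e305322a8820ee591d149398536e12df31fb96daa39a41f87fc58f9dedcb1ab35205085bc5256d0d4821dc41ebcef7392f3ac0fd91c48294d41665f83d3796a7a8dc10a2549333bf032f4a60270419c2954dcb3bc968e64093fb013f6e72736cc, 3),
  ((680, 1, 315, 266, 10), 0xaf18369b2b2dbaa7a744acb9b5ff28fe8b100131301897bcc7e609f3fd436982ffbd724a3a8780912973cbd0c2c9cab1bc42840773ecc69d0e98418d2de9d2061c5c4300d9ef0e56f322028572fccd4bf3ce5732802438093f593fb586ef26e7ad5c, 4)]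

/-- all of letters -/
def threeLetters : List ((ℕ × ℕ × ℕ × ℕ × ℕ) × ℕ × ℕ) := threeLetters0

/-- a block of nodes -/
def threeNodes0 : List (ℕ × ℕ × ℕ) := [
  (0, 0, 1),
  (5, 93, 6),
  (5, 110, 3),
  (12, 26, 21),
  (7, 37, 3),
  (8, 80, 11),
  (13, 61, 10),
  (12, 26, 9),
  (6, 9, 8),
  (2, 90, 6),
  (8, 100, 8),
  (7, 49, 7),
  (9, 20, 13),
  (9, 21, 7),
  (12, 62, 29),
  (8, 11, 7),
  (12, 114, 3),
  (8, 99, 15),
  (7, 1, 12),
  (5, 96, 15),
  (5, 111, 15),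
  (12, 15, 24),
  (7, 40, 13),
  (13, 64, 5),
  (6, 12, 1),
  (2, 79, 3),
  (8, 77, 13),
  (12, 15, 4),
  (7, 52, 9),
  (0, 0, 3),
  (9, 17, 9),
  (9, 24, 10),
  (8, 97, 14),
  (8, 10, 6),
  (12, 75, 6),
  (8, 98, 9),
  (7, 4, 4)]

/-- all of nodes -/
def threeNodes : List (ℕ × ℕ × ℕ) := threeNodes0

/-- a block of reds -/
def threeReds0 : List (ℕ) := [
  0xedd5a73,
  0x5aa3fe1,
  0x76e5afd,
  0x485600b,
  0xa635bde,
  0xb8fbcfd,
  0x6796db2,
  0xeb789da,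
  0x3bc2c5f,
  0xaf8869b,
  0xcd9f211,
  0xb44f17f,
  0x33f4ad0,
  0x39520ef,
  0x1def479,
  0xd4ef170,
  0xc5f9341,
  0x5faea59,
  0x17f5006]

/-- all of reds -/
def threeReds : List (ℕ) := threeReds0

/-- a block of steps -/
def threeSteps0 : List (ℕ × ℕ × ℕ × ℕ × ℕ) := [
  (0, 0, 1, 19, 0),
  (1, 0, 2, 20, 0),
  (2, 0, 3, 21, 0),
  (3, 0, 4, 22, 0),
  (0, 5, 6, 23, 0),
  (0, 7, 8, 24, 0),
  (0, 3, 9, 25, 0),
  (1, 10, 5, 26, 1),
  (1, 3, 7, 27, 1),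
  (1, 2, 11, 28, 8),
  (1, 11, 0, 29, 7),
  (2, 12, 0, 29, 2),
  (2, 3, 12, 30, 2),
  (2, 2, 7, 27, 11),
  (3, 3, 13, 31, 3),
  (3, 2, 6, 23, 14),
  (1, 14, 10, 32, 9),
  (1, 13, 15, 33, 10),
  (1, 1, 8, 24, 9),
  (2, 14, 13, 31, 13),
  (2, 4, 14, 34, 13),
  (2, 1, 9, 25, 13),
  (3, 1, 15, 33, 15),
  (0, 16, 17, 35, 5),
  (0, 1, 18, 36, 23),
  (0, 18, 0, 29, 23)]

/-- all of steps -/
def threeSteps : List (ℕ × ℕ × ℕ × ℕ × ℕ) := threeSteps0

/-- a block of paths -/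
def threePaths0 : List (List ℕ × List ℕ) := [
  ([0, 24, 25], []),
  ([0, 18], [2, 8, 5]),
  ([1, 9, 10], []),
  ([0, 21], [2, 6]),
  ([1, 13], [2, 8]),
  ([2, 12, 11], []),
  ([0, 22], [3, 20, 19, 17]),
  ([1, 15], [3, 20, 16, 7, 4]),
  ([2, 14], [3, 20, 19])]

/-- all of paths -/
def threePaths : List (List ℕ × List ℕ) := threePaths0

/-- a block of rels -/
def threeRels0 : List (Rule) := [
  ([0, 0, 0], []),
  ([1, 0], [0, 1, 2]),
  ([1, 1, 1], []),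
  ([2, 0], [0, 2]),
  ([2, 1], [1, 2]),
  ([2, 2, 2], []),
  ([3, 0], [1, 2, 2, 3]),
  ([3, 1], [0, 1, 1, 2, 3]),
  ([3, 2], [2, 2, 3])]

/-- all of rels -/
def threeRels : List (Rule) := threeRels0

/-- a block of eqs -/
def threeEqs0 : List (Pair) := [
  ([1, 1, 1, 0], [(2, 1, true), (1, 1, true), (0, 1, true), (2, 4, true), (4, 4, true), (3, 4, true), (1, 2, true), (1, 5, true)], [(0, 2, true)]),
  ([3, 2, 0], [(0, 8, true), (2, 6, true), (1, 4, true), (0, 4, true), (1, 5, true)], [(1, 3, true), (0, 6, true), (3, 8, true), (1, 5, true)]),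
  ([3, 2, 1], [(0, 8, true), (2, 7, true), (1, 3, true), (0, 3, true), (2, 4, true), (1, 4, true), (3, 4, true), (2, 4, true), (3, 5, true)], [(1, 4, true), (0, 7, true), (4, 8, true), (3, 5, true)]),
  ([3, 0, 0, 0], [(0, 6, true), (3, 6, true), (6, 6, true), (2, 4, true), (1, 4, true), (2, 5, true), (2, 4, true), (0, 2, true), (0, 5, true)], [(1, 0, true)]),
  ([3, 1, 1, 1], [(0, 7, true), (4, 7, true), (8, 7, true), (3, 3, true), (2, 1, true), (1, 1, true), (3, 4, true), (4, 5, true), (2, 2, true), (3, 3, true), (2, 1, true), (0, 0, true), (2, 4, true), (1, 4, true), (3, 4, true), (2, 4, true), (0, 2, true), (0, 5, true)], [(1, 2, true)])]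

/-- all of eqs -/
def threeEqs : List (Pair) := threeEqs0

/-- a block of vecs -/
def threeVecs0 : List (List ℤ) := [
  [0, 0, 0, 0, 0, 1, 0, 0, 0],
  [0, 0, 0, 2, 2, 0, 0, 0, 0],
  [0, 0, 0, 2, 0, 0, 0, 0, 0],
  [2, 0, 1, 0, 0, 2, 0, 0, 0],
  [1, 0, 1, 2, 2, 2, 0, 0, 0]]

/-- all of vecs -/
def threeVecs : List (List ℤ) := threeVecs0

/-- a block of gauge -/
def threeGauge0 : List (List (ℕ × ℤ)) := [
  [],
  [],
  [(1, 1)],
  []]

/-- all of gauge -/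
def threeGauge : List (List (ℕ × ℤ)) := threeGauge0

/-- a block of combs -/
def threeCombs0 : List (List (ℕ × ℤ)) := [
  [(1, 1), (3, 1), (4, 2)],
  [],
  [(0, 1), (1, 1), (3, 2), (4, 2)],
  [(2, 2)],
  [(1, 2), (2, 1)],
  [(0, 1)]]

/-- all of combs -/
def threeCombs : List (List (ℕ × ℤ)) := threeCombs0

/-- a block of parity -/
def threeParity0 : List (List ℕ) := [
  [0],
  [2],
  [1]]

/-- all of parity -/
def threeParity : List (List ℕ) := threeParity0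

/-- a block of lvl0w -/
def threeLvl0W0 : List (List ℕ) := [
  [0, 0, 1, 1, 2, 2],
  [2],
  [0, 2],
  [0, 1, 1, 2, 2],
  [0, 0, 1, 2],
  [1, 1],
  [2, 2],
  [1, 1, 2],
  [0, 0, 1],
  [0, 0, 2, 2],
  [0, 1],
  [0, 1, 2, 2],
  [0, 0, 1, 2, 2],
  [0, 0, 1, 1, 2],
  [1, 2, 2],
  [0, 1, 1],
  [1, 1, 2, 2],
  [0, 0],
  [0, 0, 1, 1],
  [0, 0, 2],
  [0, 2, 2],
  [0, 1, 1, 2],
  [0, 1, 2],
  [0],
  [1, 2],
  [],
  [1]]

/-- all of lvl0w -/
def threeLvl0W : List (List ℕ) := threeLvl0W0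

/-- the levels -/
def threeChain : List (ℕ × List (List ℕ)) := [(0xeeba634, threeLvl0W)]

/-- the images -/
def threeData : Data where
  letters := threeLetters
  nodes := threeNodes
  reds := threeReds
  steps := threeSteps

/-- the derivations -/
def threeCert : Cfsg.Agent.Lie.CentralRewrite.Cert where
  p := 3
  n := 3
  ng := 4
  M := 6
  rels := threeRels
  eqs := threeEqs
  vecs := threeVecs
  gauge := threeGauge
  combs := threeCombs

end Cfsg.Agent.Spor.RuMult
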