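import Cfsg.Agent.Lib.Spor.RuMult.Extra
import Cfsg.Agent.Lib.Spor.RuMult.ThreeData

/-!
The checks at the prime three for the multiplier of the Rudvalis group.
-/

set_option autoImplicit false
set_option maxRecDepth 100000
set_option Elab.async false

namespace Cfsg.Agent.Spor.RuMult

open Cfsg.Agent Cfsg.Agent.Spor.RuCert

theorem three_base : Nat.blt 0 threeData.reds.length = true ∧ threeData.nodes.getD 0 (0, 0, 0) = (0, 0, 1) ∧
    Nat.ble threeData.reds.length threeData.nodes.length = true := by decide +kernel

theorem three_letters : (List.range threeData.letters.length).all threeData.letterOK = true := by decide +kernel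

theorem three_nodes : (List.range threeData.nodes.length).all threeData.nodeOK = true := by decide +kernel

theorem three_reds : (List.range threeData.reds.length).all threeData.redOK = true := by decide +kernel

theorem three_steps : (List.range threeData.steps.length).all threeData.stepOK = true := by decide +kernel

theorem three_dvalid : threeData.Valid := ⟨three_base, three_letters, three_nodes, three_reds, three_steps⟩

theorem three_rels : (List.range threeCert.rels.length).all (fun b =>
    threeData.relOK (threeCert.rels.getD b ([], [])) (threePaths.getD b ([], []))) = true := by decide +kernel

theorem three_chain : chainOK threeData 3 threeChain [] = true := by decide +kernel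

theorem three_size : Nat.beq (chainSize threeChain) (threeCert.p ^ 3) = true := by decide +kernel

theorem three_parity : (List.range 3).all (fun k =>
    parityOK threeCert.rels threeCert.ng 999 k (threeParity.getD k [])) = true := by decide +kernel

theorem three_ng : Nat.beq threeCert.ng threeData.letters.length = true := by decide +kernel

theorem three_series : Lie.CentralRewrite.seriesOK threeCert.p threeCert.n threeCert.M threeCert.rels = true := by decide +kernel

theorem three_pairs : (List.range threeCert.eqs.length).all
    (fun i => Lie.CentralRewrite.pairOK threeCert.rels (threeCert.eqs.getD i ([], [], []))) = true := by decide +kernel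

theorem three_vec : Lie.CentralRewrite.vecOK threeCert.p threeCert.rels.length threeCert.eqs threeCert.vecs = true := by
  decide +kernel

theorem three_kill0 : ((List.range' 0 6).all fun b =>
    Lie.CentralRewrite.killOK threeCert.p threeCert.rels.length threeCert.ng threeCert.rels threeCert.gauge threeCert.vecs threeCert.combs b) = true := by
  decide +kernel

theorem three_valid : threeCert.Valid where
  series := three_series
  pairs := three_pairs
  vec := three_vec
  veclen := by decide +kernel
  letters := by decide +kernel
  gaugeOK := by decide +kernel
  nng := by decide +kernel
  kill := fun b hb => by
    change b < 6 at hb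
    obtain ⟨j, hj, h1, h2⟩ : ∃ j < 1, 6 * j ≤ b ∧ b < 6 * j + 6 := ⟨b / 6, by omega, by omega, by omega⟩
    interval_cases j
    · exact List.all_eq_true.1 three_kill0 b (List.mem_range'_1.2 ⟨by omega, by omega⟩)

end Cfsg.Agent.Spor.RuMult
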