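import Cfsg.Agent.Lib.Spor.RuMult.TwoCheck
import Cfsg.Agent.Lib.Spor.RuMult.ThreeCheck
import Cfsg.Agent.Lib.Spor.RuMult.FiveCheck
import Cfsg.Agent.Lib.Lie.CoverUniversal
import Cfsg.Agent.Lib.Lie.CentralStage

/-!
The Schur multiplier of the Rudvalis group has order two: the derived group of the fourfold cover is a double
cover, and it has no stem extension with nontrivial kernel.
-/

set_option autoImplicit false
set_option maxRecDepth 100000
set_option maxHeartbeats 400000

namespace Cfsg.Agent.Spor.RuMult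

open Cfsg Cfsg.Spor Cfsg.Agent.Spor.RuMin Cfsg.Agent.Spor.RuCert Cfsg.Agent.Spor.RuAut
open Cfsg.Agent.Lie
open scoped commutatorElement
open Cfsg.Agent.Lie.CentralRewrite (lval lval_cons lval_append Rule)

instance fourRu_finite : Finite fourRu := card_le.2

instance gru_finite : Finite Gru := Nat.finite_of_card_ne_zero (by rw [card_G]; norm_num)

theorem fourRu_card : Nat.card fourRu = 583704576000 := all_compat.2.2.2

theorem commutator_gru : commutator Gru = ⊤ := by
  haveI := ru_simple
  rcases (inferInstance : (commutator Gru).Normal).eq_bot_or_eq_top with h | h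
  · have hc : Subgroup.center Gru = ⊤ := eq_top_iff.2 fun a _ => Subgroup.mem_center_iff.2 fun b => by
      refine commutatorElement_eq_one_iff_mul_comm.1 (Subgroup.mem_bot.1 (h ▸ ?_))
      rw [commutator_def]
      exact Subgroup.commutator_mem_commutator (Subgroup.mem_top b) (Subgroup.mem_top a)
    rw [center_bot] at hc
    have := congrArg (fun H : Subgroup Gru => Nat.card H) hc
    simp only [Subgroup.card_bot, Subgroup.card_top, card_G] at this
    norm_num at this
  · exact h

theorem rels_hold {D : Data} (hD : D.Valid) {g : ℕ → fourRu} (hg : Acts D g) {rels : List Rule}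
    {paths : List (List ℕ × List ℕ)}
    (h : (List.range rels.length).all (fun b => D.relOK (rels.getD b ([], [])) (paths.getD b ([], []))) = true) :
    ∀ u ∈ rels, lval g u.1 = lval g u.2 := by
  intro u hu
  obtain ⟨b, hb, rfl⟩ := List.mem_iff_getElem.1 hu
  have := List.all_eq_true.1 h b (List.mem_range.2 hb)
  rw [List.getD_eq_getElem _ _ hb] at this
  exact rel_true hD hg this

theorem letters_lt {C : CentralRewrite.Cert} (hC : C.Valid) :
    ∀ u ∈ C.rels, (∀ j ∈ u.1, j < C.ng) ∧ ∀ j ∈ u.2, j < C.ng := by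
  intro u hu
  have h := List.all_eq_true.1 hC.letters u hu
  simp only [Bool.and_eq_true, List.all_eq_true, Nat.blt_eq] at h
  exact h

theorem iF_center : iF ∈ Subgroup.center fourRu := Subgroup.mem_center_iff.2 iF_comm

theorem neg_ne : iF ^ 2 ≠ (1 : fourRu) := fun e => by
  have := free_x0 (show 2 < 4 by norm_num) (by rw [e]; rfl)
  omega

theorem neg_psi (k : ℕ) : ψ (iF ^ k) = 1 := by
  rw [← MonoidHom.mem_ker, ψ_ker]
  exact Subgroup.pow_mem _ iF_center _

/-- the checked facts about the last letter -/
theorem two_top : Nat.beq (twoData.lmat 14 % 2 ^ 784) idB = true ∧ decide (coL (gI • gI • emb (vL (bAt 0))) =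
    vL (twoData.vec (twoData.limg 14))) = true ∧ Nat.blt 14 twoData.letters.length = true := by
  decide +kernel

theorem idB_psi {f : fourRu} {A : ℕ} (hA : matR f = matB A) (h : Nat.beq (A % 2 ^ 784) idB = true) : ψ f = 1 := by
  refine Subtype.ext (Units.ext ?_)
  show matR f = _
  have hmm : matB (A % 2 ^ 784) = matB A := by
    funext i j
    simp only [matB, Matrix.of_apply, Nat.testBit_mod_two_pow]
    rw [decide_eq_true (show 28 * (j : ℕ) + i < 784 by omega), Bool.true_and]
  rw [hA, ← hmm, Nat.eq_of_beq_eq_true h, matB_id]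
  rfl

theorem top_letter {g : ℕ → fourRu} (hg : Acts twoData g) : g 14 = iF ^ 2 := by
  obtain ⟨hm, hv, hl⟩ := two_top
  have hl' : 14 < twoData.letters.length := Nat.le_of_ble_eq_true hl
  have h1 : ψ (g 14) = 1 := idB_psi (hg.mat 14 hl') hm
  refine (inv_mul_eq_one (a := iF ^ 2) (b := g 14)).1 (eq_one_of ?_ ?_) |>.symm
  · rw [map_mul, map_inv, neg_psi, h1, inv_one, one_mul]
  · rw [Subgroup.coe_mul, Equiv.Perm.mul_apply, hg.img 14 hl', Subgroup.coe_inv, Equiv.Perm.inv_eq_iff_eq]
    refine Subtype.ext ?_
    have hlt : twoData.limg 14 < twoData.reds.length := by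
      have h := List.all_eq_true.1 two_dvalid.letters 14 (List.mem_range.2 hl')
      simp only [Data.letterOK, Bool.and_eq_true, Nat.blt_eq] at h
      exact h.2.2.1
    rw [(pnt_coe two_dvalid (lt_of_lt_of_le hlt (red_lt two_dvalid).2)).1, ← of_decide_eq_true hv, emb_coL, sq]
    rfl

/-- the signed count of a letter in a combination of relations, with the sign written as a positive residue -/
def cnt (q : ℕ) (rels : List Rule) (c : List (ℕ × ℕ)) (j : ℕ) : ℕ :=
  (c.map fun t => t.2 * ((rels.getD t.1 ([], [])).1.count j + q * (rels.getD t.1 ([], [])).2.count j)).sum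

theorem count_kill {G A : Type*} [Group G] [AddCommGroup A] (V : G →* Multiplicative A) (g : ℕ → G) {q : ℕ}
    (hq : ∀ x, (q + 1) • (V x).toAdd = 0) {rels : List Rule} {ng k : ℕ} (hk : k < ng) {c : List (ℕ × ℕ)}
    (hlet : ∀ u ∈ rels, (∀ j ∈ u.1, j < ng) ∧ ∀ j ∈ u.2, j < ng)
    (hrel : ∀ u ∈ rels, lval g u.1 = lval g u.2) (hc : ∀ t ∈ c, t.1 < rels.length)
    (h : ∀ j < ng, cnt q rels c j % (q + 1) = if j = k then 1 else 0) : V (g k) = 1 := by
  have sum_count : ∀ w : List ℕ, (∀ j ∈ w, j < ng) →
      (V (lval g w)).toAdd = ∑ j ∈ Finset.range ng, w.count j • (V (g j)).toAdd := by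
    intro w hw
    rw [hom_word]
    induction w with
    | nil => simp
    | cons i w ih =>
      rw [List.map_cons, List.sum_cons, ih fun j hj => hw j (List.mem_cons_of_mem _ hj)]
      have e : ∀ j, (i :: w).count j • (V (g j)).toAdd =
          w.count j • (V (g j)).toAdd + (if i = j then (V (g j)).toAdd else 0) := fun j => by
        rw [List.count_cons, add_nsmul]
        by_cases hij : i = j <;> simp [hij]
      rw [Finset.sum_congr rfl fun j _ => e j, Finset.sum_add_distrib, Finset.sum_ite_eq,
        if_pos (Finset.mem_range.2 (hw i List.mem_cons_self)), add_comm]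
  have rel0 : ∀ b < rels.length, ∑ j ∈ Finset.range ng,
      ((rels.getD b ([], [])).1.count j + q * (rels.getD b ([], [])).2.count j) • (V (g j)).toAdd = 0 := by
    intro b hb
    have hm : rels.getD b ([], []) ∈ rels := by
      rw [List.getD_eq_getElem _ _ hb]; exact List.getElem_mem _
    rw [Finset.sum_congr rfl fun j _ => add_nsmul _ _ _, Finset.sum_add_distrib,
      Finset.sum_congr rfl fun j _ => mul_nsmul' (V (g j)).toAdd q ((rels.getD b ([], [])).2.count j),
      ← Finset.smul_sum, ← sum_count _ (hlet _ hm).1, ← sum_count _ (hlet _ hm).2, hrel _ hm, ← succ_nsmul']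
    exact hq _
  have h1 : ∑ j ∈ Finset.range ng, cnt q rels c j • (V (g j)).toAdd = 0 := by
    clear h
    induction c with
    | nil => simp [cnt]
    | cons t c ih =>
      have e : ∀ j, cnt q rels (t :: c) j = t.2 * ((rels.getD t.1 ([], [])).1.count j +
          q * (rels.getD t.1 ([], [])).2.count j) + cnt q rels c j := fun j => rfl
      rw [Finset.sum_congr rfl fun j _ => by rw [e j, add_nsmul, mul_nsmul'], Finset.sum_add_distrib,
        ← Finset.smul_sum, rel0 _ (hc t List.mem_cons_self), nsmul_zero, zero_add,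
        ih fun x hx => hc x (List.mem_cons_of_mem _ hx)]
  have red_mod : ∀ j, cnt q rels c j • (V (g j)).toAdd = (cnt q rels c j % (q + 1)) • (V (g j)).toAdd := fun j => by
    conv_lhs => rw [← Nat.mod_add_div (cnt q rels c j) (q + 1)]
    rw [add_nsmul, mul_comm, mul_nsmul', hq, nsmul_zero, add_zero]
  rw [Finset.sum_eq_single k (fun j hj hne => by
      rw [red_mod, h j (Finset.mem_range.1 hj), if_neg hne, zero_nsmul])
    (fun hn => absurd (Finset.mem_range.2 hk) hn), red_mod, h k hk, if_pos rfl, one_nsmul] at h1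
  exact h1

theorem four_check : (List.range twoCert.ng).all (fun j => Nat.beq
    (Nat.mod (cnt 3 twoCert.rels [(8, 1), (12, 3)] j) 4) (bif Nat.beq j 14 then 1 else 0)) = true ∧
    Nat.blt 12 twoCert.rels.length = true ∧ Nat.blt 14 twoCert.ng = true := by
  decide +kernel

/-- the scalar minus one is a product of commutators -/
theorem neg_comm : iF ^ 2 ∈ commutator fourRu := by
  obtain ⟨g, hg⟩ := exists_acts two_dvalid
  obtain ⟨h4, h12, h14⟩ := four_check
  let V : fourRu →* Multiplicative (Additive (Abelianization fourRu)) :=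
    MonoidHom.mk' (fun x => Multiplicative.ofAdd (Additive.ofMul (Abelianization.of x))) fun a b => by
      simp only [map_mul, ofMul_mul, ofAdd_add]
  have a4 : ∀ x : fourRu, (Abelianization.of x) ^ 4 = 1 := by
    intro x
    obtain ⟨y, hy, e⟩ : ψ x ∈ (commutator fourRu).map ψ := by
      rw [commutator_def, Subgroup.map_commutator, ← MonoidHom.range_eq_map,
        MonoidHom.range_eq_top.2 ψ_surjective, ← commutator_def, commutator_gru]
      trivial
    have hk : y⁻¹ * x ∈ ψ.ker := by rw [MonoidHom.mem_ker, map_mul, map_inv, e, inv_mul_cancel]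
    have h1 : Abelianization.of x = Abelianization.of (y⁻¹ * x) := by
      have hy' : Abelianization.of y = 1 := by
        rw [← MonoidHom.mem_ker, Abelianization.ker_of]; exact hy
      rw [map_mul, map_inv, hy', inv_one, one_mul]
    rw [h1, ← map_pow]
    have hc : (y⁻¹ * x) ^ 4 = 1 := by
      rw [ψ_ker] at hk
      have := congrArg Subtype.val (pow_card_eq_one' (x := (⟨_, hk⟩ : Subgroup.center fourRu)))
      rwa [card_center] at this
    rw [hc, map_one]
  have hv : V (g 14) = 1 := count_kill V g (q := 3) (fun x => by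
      exact congrArg Additive.ofMul (a4 x))
    (Nat.le_of_ble_eq_true h14) (c := [(8, 1), (12, 3)]) (letters_lt two_valid)
    (rels_hold two_dvalid hg two_rels) (fun t ht => by
      simp only [List.mem_cons, List.not_mem_nil, or_false] at ht
      have h12' : 12 < twoCert.rels.length := Nat.le_of_ble_eq_true h12
      rcases ht with rfl | rfl
      · exact lt_trans (by norm_num : 8 < 12) h12'
      · exact h12') fun j hj => by
      have h := Nat.eq_of_beq_eq_true (List.all_eq_true.1 h4 j (List.mem_range.2 hj))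
      refine h.trans ?_
      by_cases he : j = 14
      · subst he; rfl
      · rw [if_neg he, show Nat.beq j 14 = false by rw [← Bool.not_eq_true, Nat.beq_eq]; exact he]; rfl
  rw [← top_letter hg, ← Abelianization.ker_of, MonoidHom.mem_ker]
  exact hv

/-- the reduction of the first letters -/
theorem image_le {g : ℕ → fourRu} (m n : ℕ) (h : m ≤ n) :
    (Subgroup.closure (g '' Set.Ico 0 m)).map ψ ≤ (Subgroup.closure (g '' Set.Ico 0 n)).map ψ :=
  Subgroup.map_mono (Subgroup.closure_mono (Set.image_mono fun j hj => ⟨hj.1, lt_of_lt_of_le hj.2 h⟩))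

theorem card_split (T : Subgroup fourRu) :
    Nat.card T = Nat.card (ψ.ker ⊓ T : Subgroup fourRu) * Nat.card (T.map ψ) := by
  have e := Subgroup.card_mul_index (ψ.comp T.subtype).ker
  rw [Subgroup.index_ker, show (ψ.comp T.subtype).range = T.map ψ from by
    rw [MonoidHom.range_comp, Subgroup.range_subtype]] at e
  rw [← e]
  congr 1
  refine Nat.card_congr
    { toFun := fun x => ⟨((x : T) : fourRu), ⟨x.2, (x : T).2⟩⟩
      invFun := fun x => ⟨⟨(x : fourRu), x.2.2⟩, x.2.1⟩
      left_inv := fun _ => rfl
      right_inv := fun _ => rfl }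

theorem card_two_sylow {g : ℕ → fourRu} (hg : Acts twoData g) :
    Nat.card (Subgroup.closure (g '' Set.Ico 0 15)) = 2 ^ 15 := by
  set T := Subgroup.closure (g '' Set.Ico 0 15)
  have hup : Nat.card T ≤ 2 ^ 15 := by
    have hrel := rels_hold two_dvalid hg two_rels
    have hM : twoCert.M ≤ twoCert.rels.length := by
      have h := two_valid.series
      unfold CentralRewrite.seriesOK at h
      rw [Bool.and_eq_true, Nat.ble_eq] at h
      exact h.1
    exact CentralRewrite.card_tail (show 0 < twoCert.p from Nat.succ_pos _) two_valid.series (fun r hr => hrel _ (by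
      rw [List.getD_eq_getElem _ _ (lt_of_lt_of_le hr hM)]; exact List.getElem_mem _)) 15 0 rfl
  refine le_antisymm hup ?_
  have h14 : 2 ^ 14 ≤ Nat.card (T.map ψ) := by
    refine ((Nat.eq_of_beq_eq_true two_size).symm.le.trans (chain_le hg two_chain)).trans ?_
    exact Subgroup.card_le_of_le (image_le 14 15 (by norm_num))
  have hk : 2 ≤ Nat.card (ψ.ker ⊓ T : Subgroup fourRu) := by
    rw [Nat.succ_le_iff, Subgroup.one_lt_card_iff_ne_bot]
    refine fun e => neg_ne (Subgroup.mem_bot.1 (e ▸ ⟨MonoidHom.mem_ker.2 (neg_psi 2), ?_⟩))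
    rw [← top_letter hg]
    exact Subgroup.subset_closure ⟨14, ⟨by norm_num, by norm_num⟩, rfl⟩
  rw [card_split]
  calc 2 ^ 15 = 2 * 2 ^ 14 := by norm_num
    _ ≤ _ := Nat.mul_le_mul hk h14

/-- a homomorphism to the group of order two nontrivial on the scalar -/
theorem exists_char : ∃ V : fourRu →* Multiplicative (ZMod 2), V iF ≠ 1 := by
  classical
  obtain ⟨g, hg⟩ := exists_acts two_dvalid
  set T := Subgroup.closure (g '' Set.Ico 0 15) with hTdef
  have hT := card_two_sylow hg
  have hnot : iF ∉ T := by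
    intro h
    have h4 : Nat.card (Subgroup.zpowers iF) = 4 := by
      rw [Nat.card_zpowers]
      refine orderOf_eq_prime_pow (p := 2) (n := 1) (fun e => neg_ne (by simpa using e)) iF_four
    have hle : Subgroup.zpowers iF ≤ ψ.ker ⊓ T :=
      le_inf (Subgroup.zpowers_le.2 (by simpa using MonoidHom.mem_ker.2 (neg_psi 1))) (Subgroup.zpowers_le.2 h)
    have h4' := Subgroup.card_le_of_le hle
    rw [h4] at h4'
    have h14 : 2 ^ 14 ≤ Nat.card (T.map ψ) := by
      refine ((Nat.eq_of_beq_eq_true two_size).symm.le.trans (chain_le hg two_chain)).trans ?_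
      exact Subgroup.card_le_of_le (image_le 14 15 (by norm_num))
    have e := (card_split T).symm
    rw [hT] at e
    have := Nat.mul_le_mul h4' h14
    rw [e] at this
    norm_num at this
  let S : Subgroup fourRu :=
    { carrier := {x | x ∈ T ∨ iF * x ∈ T}
      one_mem' := Or.inl T.one_mem
      mul_mem' := by
        have hsq : iF * iF ∈ T := by
          rw [← sq, ← top_letter hg]
          exact Subgroup.subset_closure ⟨14, ⟨by norm_num, by norm_num⟩, rfl⟩
        intro a b ha hb
        rcases ha with ha | ha <;> rcases hb with hb | hb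
        · exact Or.inl (T.mul_mem ha hb)
        · refine Or.inr ?_
          rw [← mul_assoc, ← iF_comm a, mul_assoc]
          exact T.mul_mem ha hb
        · exact Or.inr (by rw [← mul_assoc]; exact T.mul_mem ha hb)
        · refine Or.inl ?_
          have e : a * b = (iF * iF)⁻¹ * ((iF * a) * (iF * b)) := by
            rw [show iF * a * (iF * b) = iF * (a * iF) * b by group, iF_comm a]
            group
          rw [e]
          exact T.mul_mem (T.inv_mem hsq) (T.mul_mem ha hb)
      inv_mem' := by
        intro a ha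
        rcases ha with ha | ha
        · exact Or.inl (T.inv_mem ha)
        · refine Or.inr ?_
          have hsq : iF * iF ∈ T := by
            rw [← sq, ← top_letter hg]
            exact Subgroup.subset_closure ⟨14, ⟨by norm_num, by norm_num⟩, rfl⟩
          have e : iF * a⁻¹ = (iF * a)⁻¹ * (iF * iF) := by
            rw [mul_inv_rev, show a⁻¹ * iF⁻¹ * (iF * iF) = a⁻¹ * iF by group]
            exact (iF_comm a⁻¹).symm
          rw [e]
          exact T.mul_mem (T.inv_mem ha) hsq }
  have hTS : T ≤ S := fun x hx => Or.inl hx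
  let χ : S →* Multiplicative (ZMod 2) :=
    MonoidHom.mk' (fun x => if (x : fourRu) ∈ T then 1 else Multiplicative.ofAdd 1) fun a b => by
      have hsq : iF * iF ∈ T := by
        rw [← sq, ← top_letter hg]
        exact Subgroup.subset_closure ⟨14, ⟨by norm_num, by norm_num⟩, rfl⟩
      have two : ∀ z : Multiplicative (ZMod 2), z * z = 1 := by decide
      by_cases ha : (a : fourRu) ∈ T
      · rw [if_pos ha, one_mul]
        exact if_congr (T.mul_mem_cancel_left ha) rfl rfl
      · have ha' : iF * (a : fourRu) ∈ T := a.2.resolve_left ha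
        rw [if_neg ha]
        by_cases hb : (b : fourRu) ∈ T
        · rw [if_pos hb, mul_one, if_neg]
          intro h
          exact ha ((T.mul_mem_cancel_right hb).1 h)
        · have hb' : iF * (b : fourRu) ∈ T := b.2.resolve_left hb
          rw [if_neg hb, two, if_pos]
          have e : (a : fourRu) * b = (iF * iF)⁻¹ * ((iF * a) * (iF * b)) := by
            rw [show iF * (a : fourRu) * (iF * b) = iF * ((a : fourRu) * iF) * b by group, iF_comm (a : fourRu)]
            group
          show (a : fourRu) * b ∈ T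
          rw [e]
          exact T.mul_mem (T.inv_mem hsq) (T.mul_mem ha' hb')
  have hiS : iF ∈ S := Or.inr (by
    rw [← sq, ← top_letter hg]
    exact Subgroup.subset_closure ⟨14, ⟨by norm_num, by norm_num⟩, rfl⟩)
  have hodd : Odd S.index := by
    have hle : T < S := lt_of_le_of_ne hTS fun e => hnot (e.symm ▸ hiS)
    have hd := Subgroup.card_mul_index S
    rw [fourRu_card] at hd
    have h2 : 2 ^ 15 ∣ Nat.card S := hT ▸ Subgroup.card_dvd_of_le hTS
    have hne : Nat.card S ≠ 2 ^ 15 := fun e =>
      hle.ne (Subgroup.eq_of_le_of_card_ge hTS (by rw [e, hT]))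
    obtain ⟨c, hc⟩ := h2
    have hub : Nat.card S ≤ 2 ^ 16 := by
      have hinj : Function.Injective (fun x : S => if h : (x : fourRu) ∈ T then (Sum.inl ⟨_, h⟩ : T ⊕ T)
          else Sum.inr ⟨_, x.2.resolve_left h⟩) := by
        intro x y e
        dsimp only at e
        by_cases hx : (x : fourRu) ∈ T <;> by_cases hy : (y : fourRu) ∈ T <;>
          simp only [hx, hy, dite_true, dite_false, Sum.inl.injEq, Sum.inr.injEq, Subtype.mk.injEq,
            mul_right_inj, reduceCtorEq] at e
        · exact Subtype.ext e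
        · exact Subtype.ext e
      refine (Nat.card_le_card_of_injective _ hinj).trans ?_
      rw [Nat.card_sum, hT]
      norm_num
    have hc2 : c = 2 := by
      rcases Nat.lt_or_ge c 2 with h | h
      · interval_cases c
        · exact absurd hc (by rw [mul_zero]; exact Nat.card_pos.ne')
        · exact absurd hc (by rw [mul_one]; exact hne)
      · rw [hc] at hub; omega
    rw [hc, hc2] at hd
    have : S.index = 8906625 := by omega
    rw [this]
    decide
  refine ⟨MonoidHom.transfer χ, ?_⟩
  have key : ∀ (k : ℕ) (g₀ : fourRu), g₀⁻¹ * iF ^ k * g₀ ∈ S → g₀⁻¹ * iF ^ k * g₀ = iF ^ k := fun k g₀ _ => by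
    rw [mul_assoc, show iF ^ k * g₀ = g₀ * iF ^ k from
      (((show Commute g₀ iF from iF_comm g₀).pow_right k).eq).symm, inv_mul_cancel_left]
  rw [MonoidHom.transfer_eq_pow χ iF key]
  obtain ⟨j, hj⟩ := hodd
  have hmem : ∀ h : iF ^ S.index ∈ S, χ ⟨iF ^ S.index, h⟩ = Multiplicative.ofAdd 1 := fun h => by
    rw [show (⟨iF ^ S.index, h⟩ : S) = ⟨iF, hiS⟩ ^ S.index from rfl, map_pow,
      show χ ⟨iF, hiS⟩ = Multiplicative.ofAdd 1 from if_neg hnot, hj, pow_succ, pow_mul,
      show (Multiplicative.ofAdd (1 : ZMod 2)) ^ 2 = 1 by decide, one_pow, one_mul]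
  rw [hmem]
  decide

theorem scal_cases (x : fourRu) (hx : ψ x = 1) : ∃ k < 4, x = iF ^ k := by
  obtain ⟨k, hk, e⟩ := short_fibre (x := x0) (y := (x : Equiv.Perm ruLattice) x0) x0_norm
    ((x.2.2.2 _).trans x0_norm) (by rw [red_app, matR, hx, OneMemClass.coe_one, Units.val_one, Matrix.one_mulVec])
  refine ⟨k, hk, ((inv_mul_eq_one (a := iF ^ k) (b := x)).1 (eq_one_of ?_ ?_)).symm⟩
  · rw [map_mul, map_inv, neg_psi, hx, inv_one, one_mul]
  · rw [Subgroup.coe_mul, Equiv.Perm.mul_apply, e, Subgroup.coe_inv]
    exact Equiv.symm_apply_apply _ _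

/-- the double cover -/
noncomputable def dcov : Subgroup fourRu := (exists_char.choose).ker

theorem dcov_char : ∀ x, x ∈ dcov ↔ exists_char.choose x = 1 := fun _ => Iff.rfl

theorem comm_le : commutator fourRu ≤ dcov := Abelianization.commutator_subset_ker _

theorem iF_notin : iF ∉ dcov := exists_char.choose_spec

theorem dcov_cover : ∀ x : fourRu, x ∈ dcov → ψ x = 1 → x = 1 ∨ x = iF ^ 2 := by
  intro x hx h1
  obtain ⟨k, hk, rfl⟩ := scal_cases x h1
  interval_cases k
  · left; rw [pow_zero]
  · exact absurd (by simpa using hx) iF_notin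
  · exact Or.inr rfl
  · refine absurd ?_ iF_notin
    have h2 : iF ^ 2 ∈ dcov := comm_le neg_comm
    have e : iF = (iF ^ 2)⁻¹ * iF ^ 3 := by group
    rw [e]
    exact dcov.mul_mem (dcov.inv_mem h2) hx

theorem dcov_eq : commutator fourRu = dcov := by
  refine le_antisymm comm_le fun x hx => ?_
  obtain ⟨y, hy, e⟩ : ψ x ∈ (commutator fourRu).map ψ := by
    rw [commutator_def, Subgroup.map_commutator, ← MonoidHom.range_eq_map,
      MonoidHom.range_eq_top.2 ψ_surjective, ← commutator_def, commutator_gru]
    trivial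
  rcases dcov_cover (y⁻¹ * x) (dcov.mul_mem (dcov.inv_mem (comm_le hy)) hx)
    (by rw [map_mul, map_inv, e, inv_mul_cancel]) with h | h
  · rwa [inv_mul_eq_one.1 h] at hy
  · rw [show x = y * iF ^ 2 by rw [← h]; group]
    exact mul_mem hy neg_comm

/-- the projection of the double cover -/
noncomputable def dψ : dcov →* Gru := ψ.comp dcov.subtype

theorem dψ_surjective : Function.Surjective dψ := by
  intro y
  have hy : y ∈ (commutator fourRu).map ψ := by
    rw [commutator_def, Subgroup.map_commutator, ← MonoidHom.range_eq_map,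
      MonoidHom.range_eq_top.2 ψ_surjective, ← commutator_def, commutator_gru]
    trivial
  obtain ⟨x, hx, e⟩ := hy
  exact ⟨⟨x, comm_le hx⟩, e⟩

theorem dψ_ker_card : Nat.card dψ.ker = 2 := by
  have h2 : iF ^ 2 ∈ dcov := comm_le neg_comm
  refine Nat.card_eq_two_iff.2 ⟨1, ⟨⟨_, h2⟩, MonoidHom.mem_ker.2 (neg_psi 2)⟩, fun e =>
    neg_ne (congrArg (fun z : dψ.ker => ((z : dcov) : fourRu)) e).symm, ?_⟩
  refine Set.eq_univ_of_forall fun z => ?_
  rcases dcov_cover _ (z : dcov).2 (MonoidHom.mem_ker.1 z.2) with h | h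
  · exact Or.inl (Subtype.ext (Subtype.ext h))
  · exact Or.inr (Subtype.ext (Subtype.ext h))

theorem dcov_card : Nat.card dcov = 291852288000 := by
  have e := Subgroup.card_mul_index dψ.ker
  rw [Subgroup.index_ker, MonoidHom.range_eq_top.2 dψ_surjective, Subgroup.card_top, dψ_ker_card, card_G] at e
  omega

theorem dcov_perfect : commutator dcov = ⊤ := by
  refine top_le_iff.1 fun x _ => ?_
  have hx : (x : fourRu) ∈ (commutator dcov).map dcov.subtype := by
    have hle : commutator fourRu ≤ (commutator dcov).map dcov.subtype := by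
      rw [commutator_def fourRu, Subgroup.commutator_le]
      intro a _ b _
      have split : ∀ u : fourRu, ∃ d : dcov, ∃ z ∈ Subgroup.center fourRu, u = d * z := by
        intro u
        obtain ⟨d, hd⟩ := dψ_surjective (ψ u)
        have hd' : ψ (d : fourRu) = ψ u := hd
        refine ⟨d, (d : fourRu)⁻¹ * u, ?_, (mul_inv_cancel_left _ _).symm⟩
        rw [← ψ_ker, MonoidHom.mem_ker, map_mul, map_inv, hd', inv_mul_cancel]
      obtain ⟨c, z, hz, rfl⟩ := split a
      obtain ⟨d, w, hw, rfl⟩ := split b
      have e : ⁅(c : fourRu) * z, (d : fourRu) * w⁆ = ⁅(c : fourRu), (d : fourRu)⁆ := by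
        have hc1 := fun y => Subgroup.mem_center_iff.1 hz y
        have hc2 := fun y => Subgroup.mem_center_iff.1 hw y
        simp only [commutatorElement_def, mul_inv_rev]
        calc (c : fourRu) * z * ((d : fourRu) * w) * (z⁻¹ * (c : fourRu)⁻¹) * (w⁻¹ * (d : fourRu)⁻¹)
            = c * (z * ((d : fourRu) * w)) * z⁻¹ * (c : fourRu)⁻¹ * (w⁻¹ * (d : fourRu)⁻¹) := by group
          _ = c * (((d : fourRu) * w) * z) * z⁻¹ * (c : fourRu)⁻¹ * (w⁻¹ * (d : fourRu)⁻¹) := by rw [hc1]
          _ = c * d * (w * (c : fourRu)⁻¹) * w⁻¹ * (d : fourRu)⁻¹ := by group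
          _ = c * d * ((c : fourRu)⁻¹ * w) * w⁻¹ * (d : fourRu)⁻¹ := by rw [hc2]
          _ = _ := by group
      rw [e]
      exact ⟨⁅c, d⁆, Subgroup.commutator_mem_commutator (Subgroup.mem_top c) (Subgroup.mem_top d),
        map_commutatorElement dcov.subtype c d⟩
    exact hle (dcov_eq.symm ▸ x.2)
  obtain ⟨y, hy, e⟩ := hx
  rwa [← Subtype.ext e.symm]  at hy

theorem dψ_stem : Cfsg.IsStemExtension dψ := by
  refine ⟨dψ_surjective, fun x hx => Subgroup.mem_center_iff.2 fun y => Subtype.ext ?_, by
    rw [dcov_perfect]; exact le_top⟩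
  have hc : (x : fourRu) ∈ Subgroup.center fourRu := ψ_ker ▸ (show (x : fourRu) ∈ ψ.ker from hx)
  exact Subgroup.mem_center_iff.1 hc y

theorem no_prime {D : Data} (hD : D.Valid) {C : CentralRewrite.Cert} (hC : C.Valid) (hng : C.ng = D.letters.length)
    {paths : List (List ℕ × List ℕ)}
    (hrels : (List.range C.rels.length).all (fun b => D.relOK (C.rels.getD b ([], [])) (paths.getD b ([], []))) = true)
    {m skip : ℕ} {par : List (List ℕ)}
    (hpar : (List.range m).all (fun k => parityOK C.rels C.ng skip k (par.getD k [])) = true) (hm : m ≤ C.n)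
    (hskip : ∀ g, Acts D g → ∀ j, (j = skip ∧ skip < C.ng) ∨ (m ≤ j ∧ j < C.n) → g j ∈ dcov)
    (hbig : C.rels.all (fun u => (u.1.filter fun j => Nat.ble C.n j) == (u.2.filter fun j => Nat.ble C.n j)) = true)
    (hlow : ∀ g, Acts D g → C.p ^ C.n ≤ Nat.card (Subgroup.closure (g '' Set.Ico 0 C.n)))
    (hp : C.p.Prime) (hidx : ¬ C.p ∣ 291852288000 / C.p ^ C.n) {Δ : Type} [Group Δ] [Finite Δ]
    {τ : Δ →* dcov} (hτ : Cfsg.IsStemExtension τ) (hcard : Nat.card τ.ker = C.p) : False := by
  classical
  obtain ⟨g, hg⟩ := exists_acts hD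
  have hrel := rels_hold hD hg hrels
  have hlet := letters_lt hC
  have hser : ∀ j < C.n, g j ∈ dcov := by
    intro j hj
    by_cases hjm : j < m
    · rw [dcov_char]
      exact parity_kill _ g hlet hrel (fun h => (dcov_char _).1 (hskip g hg skip (Or.inl ⟨rfl, h⟩)))
        (List.all_eq_true.1 hpar j (List.mem_range.2 hjm))
    · exact hskip g hg j (Or.inr ⟨not_lt.1 hjm, hj⟩)
  let e : ℕ → ℕ := fun j => if g j ∈ dcov then 0 else 1
  have hmem : ∀ j, g j * iF ^ e j ∈ dcov := by
    intro j
    by_cases h : g j ∈ dcov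
    · simp only [e, if_pos h, pow_zero, mul_one]; exact h
    · simp only [e, if_neg h, pow_one]
      rw [dcov_char, map_mul]
      have two : ∀ a b : Multiplicative (ZMod 2), a ≠ 1 → b ≠ 1 → a * b = 1 := by decide
      exact two _ _ h iF_notin
  let g' : ℕ → dcov := fun j => ⟨g j * iF ^ e j, hmem j⟩
  have hval : ∀ w : List ℕ, ((lval g' w : dcov) : fourRu) = lval g w * iF ^ (w.map e).sum := by
    intro w
    induction w with
    | nil => simp [lval]
    | cons j w ih =>
      rw [lval_cons, lval_cons, Subgroup.coe_mul, ih, List.map_cons, List.sum_cons, pow_add]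
      show g j * iF ^ e j * (lval g w * iF ^ (w.map e).sum) = _
      rw [mul_assoc, ← mul_assoc (iF ^ e j), ← ((show Commute (lval g w) iF from iF_comm _).pow_right (e j)).eq]
      group
  have hrel' : ∀ u ∈ C.rels, lval g' u.1 = lval g' u.2 := by
    intro u hu
    refine Subtype.ext ?_
    have h1 := hval u.1
    have h2 := hval u.2
    rw [hrel u hu] at h1
    set d := lval g u.2
    have hd1 := (lval g' u.1).2
    have hd2 := (lval g' u.2).2
    rw [h1] at hd1 ⊢
    rw [h2] at hd2 ⊢
    congr 1
    have hA : ∀ j ∈ u.1 ++ u.2, e j = 0 ∨ C.n ≤ j := fun j _ => by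
      by_cases h : j < C.n
      · exact Or.inl (if_pos (hser j h))
      · exact Or.inr (not_lt.1 h)
    have hsum : ∀ w : List ℕ, (w.map e).sum = ((w.filter fun j => Nat.ble C.n j).map e).sum := by
      intro w
      induction w with
      | nil => rfl
      | cons j w ih =>
        rw [List.map_cons, List.sum_cons, List.filter_cons, ih]
        by_cases h : C.n ≤ j
        · simp [Nat.ble_eq_true_of_le h]
        · simp [show Nat.ble C.n j = false by rw [← Bool.not_eq_true, Nat.ble_eq]; exact h,
            show e j = 0 from if_pos (hser j (not_le.1 h))]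
    rw [hsum u.1, hsum u.2, beq_iff_eq.1 (List.all_eq_true.1 hbig u hu)]
  have hind : ¬ C.p ∣ Nat.card dcov / C.p ^ C.n := by rwa [dcov_card]
  refine CentralRewrite.no_prime hC hp τ hτ.1 hτ.2.1 hτ.2.2 hcard g' hrel' ?_ hind
  refine (hlow g hg).trans (le_of_eq ?_)
  have him : (Subgroup.closure (g' '' Set.Ico 0 C.n)).map dcov.subtype = Subgroup.closure (g '' Set.Ico 0 C.n) := by
    rw [MonoidHom.map_closure, Set.image_image]
    congr 1
    refine Set.image_congr fun j hj => ?_
    show g j * iF ^ e j = g j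
    rw [show e j = 0 from if_pos (hser j hj.2), pow_zero, mul_one]
  rw [← him]
  exact (Nat.card_congr (Subgroup.equivMapOfInjective _ _ dcov.subtype_injective).symm.toEquiv)

end Cfsg.Agent.Spor.RuMult
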