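import Cfsg.Agent.Lib.Spor.RuAutMain

/-!
The short vectors of the Rudvalis lattice form one orbit, and two of them with the same reduction differ by a scalar.
-/

set_option autoImplicit false
set_option maxRecDepth 100000
set_option maxHeartbeats 400000

namespace Cfsg.Agent.Spor.RuMult

open Cfsg.Spor Cfsg.Agent.Spor.RuMin Cfsg.Agent.Spor.RuCert Cfsg.Agent.Spor.RuAut
open Matrix

/-- the scalar as an element of the lattice group -/
def iF : fourRu := ⟨sI, sI_mem⟩

/-- the matrix of the reduction -/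
noncomputable abbrev matR (f : fourRu) : Matrix (Fin 28) (Fin 28) (ZMod 2) :=
  ((ψ f : G28) : Matrix (Fin 28) (Fin 28) (ZMod 2))

theorem red_app (f : fourRu) (x : ruLattice) :
    red (((f : Equiv.Perm ruLattice) x : ruLattice) : RuVec) = matR f *ᵥ red (x : RuVec) :=
  φ_spec ((MulEquiv.subgroupCongr all_compat.1).symm f) x

theorem iF_comm (f : fourRu) : f * iF = iF * f := Subtype.ext (Equiv.ext fun x => f.2.2.1 x)

theorem red_iF (k : ℕ) (x : ruLattice) :
    red ((((iF ^ k : fourRu) : Equiv.Perm ruLattice) x : ruLattice) : RuVec) = red (x : RuVec) := by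
  induction k with
  | zero => rw [pow_zero]; rfl
  | succ k ih =>
    rw [pow_succ', Subgroup.coe_mul, Equiv.Perm.mul_apply]
    have h := sI_compat (((iF ^ k : fourRu) : Equiv.Perm ruLattice) x)
    rw [Units.val_one, Matrix.one_mulVec] at h
    rw [show ((iF : fourRu) : Equiv.Perm ruLattice) = sI from rfl, h, ih]

theorem iF_four : iF ^ 4 = 1 := Subtype.ext (Equiv.ext fun x => Subtype.ext (gI_four (x : RuVec)))

theorem beta0_mem : beta 0 ∈ ruLattice := (beta_spec (show 0 < 5 by norm_num)).1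

/-- the base point -/
def x0 : ruLattice := ⟨beta 0, beta0_mem⟩

theorem x0_norm : ruNorm (x0 : RuVec) = 16 := (beta_spec (show 0 < 5 by norm_num)).2.1

theorem x0_red_check : Nat.beq (redN (vL (bAt 0))) v0N = true := by decide +kernel

theorem x0_red : red (x0 : RuVec) = vecB v0N := by
  show red (emb (vL (bAt 0))) = _
  rw [red_list (vL_len _), Nat.eq_of_beq_eq_true x0_red_check]

theorem scal_check : decide (coL (gI • emb (vL (bAt 0))) ≠ vL (bAt 0)) = true ∧
    decide (coL (gI • gI • emb (vL (bAt 0))) ≠ vL (bAt 0)) = true ∧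
    decide (coL (gI • gI • gI • emb (vL (bAt 0))) ≠ vL (bAt 0)) = true := by
  decide +kernel

theorem free_x0 {k : ℕ} (hk : k < 4) (h : ((iF ^ k : fourRu) : Equiv.Perm ruLattice) x0 = x0) : k = 0 := by
  have e := congrArg (fun y : ruLattice => coL (y : RuVec)) h
  have hl : coL (x0 : RuVec) = vL (bAt 0) := coL_vL _
  simp only [hl] at e
  interval_cases k
  · rfl
  · exact absurd e (of_decide_eq_true scal_check.1)
  · exact absurd e (of_decide_eq_true scal_check.2.1)
  · exact absurd e (of_decide_eq_true scal_check.2.2)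

theorem free_pow {j k : ℕ} (hj : j < 4) (hk : k < 4)
    (h : ((iF ^ j : fourRu) : Equiv.Perm ruLattice) x0 = ((iF ^ k : fourRu) : Equiv.Perm ruLattice) x0) : j = k := by
  have key : ∀ a b : ℕ, a ≤ b → b < 4 →
      ((iF ^ a : fourRu) : Equiv.Perm ruLattice) x0 = ((iF ^ b : fourRu) : Equiv.Perm ruLattice) x0 → a = b := by
    intro a b hab hb e
    rw [show b = a + (b - a) by omega, pow_add, Subgroup.coe_mul, Equiv.Perm.mul_apply] at e
    have := free_x0 (show b - a < 4 by omega) ((Equiv.injective _ e).symm)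
    omega
  rcases le_total j k with hjk | hjk
  · exact key j k hjk hk h
  · exact (key k j hjk hj h.symm).symm

/-- an element over a point -/
theorem exists_over (j : Fin 4060) : ∃ f : fourRu,
    red (((f : Equiv.Perm ruLattice) x0 : ruLattice) : RuVec) = vecB (rVec j) := by
  obtain ⟨u, hu, eu⟩ := rtab_in (j : ℕ) j.2
  obtain ⟨f, hf⟩ := ψ_surjective ⟨u, hu⟩
  refine ⟨f, ?_⟩
  rw [red_app, matR, hf, x0_red, eu, ← mulB_vec, (rtab_facts j.2).1]

/-- the chosen element over a point -/
noncomputable def over_ (j : Fin 4060) : fourRu := (exists_over j).choose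

theorem over_red (j : Fin 4060) :
    red ((((over_ j : fourRu) : Equiv.Perm ruLattice) x0 : ruLattice) : RuVec) = vecB (rVec j) :=
  (exists_over j).choose_spec

/-- the listed images -/
noncomputable def img (q : Fin 4060 × Fin 4) : ruLattice :=
  ((iF ^ (q.2 : ℕ) : fourRu) : Equiv.Perm ruLattice) (((over_ q.1 : fourRu) : Equiv.Perm ruLattice) x0)

theorem img_norm (q : Fin 4060 × Fin 4) : ruNorm (img q : RuVec) = 16 := by
  rw [img, (iF ^ (q.2 : ℕ) : fourRu).2.2.2, (over_ q.1).2.2.2, x0_norm]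

theorem img_red (q : Fin 4060 × Fin 4) : red (img q : RuVec) = vecB (rVec q.1) := by rw [img, red_iF, over_red]

theorem img_inj : Function.Injective img := by
  rintro ⟨a, k⟩ ⟨b, l⟩ h
  have hab : a = b := Fin.ext (rvec_uniq a.2 b.2 (by rw [← img_red (a, k), ← img_red (b, l), h]))
  subst hab
  simp only [img] at h
  have hc : ∀ n : ℕ, ((iF ^ n : fourRu) : Equiv.Perm ruLattice) (((over_ a : fourRu) : Equiv.Perm ruLattice) x0) =
      ((over_ a : fourRu) : Equiv.Perm ruLattice) (((iF ^ n : fourRu) : Equiv.Perm ruLattice) x0) := fun n => by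
    have e : iF ^ n * over_ a = over_ a * iF ^ n := ((show Commute (over_ a) iF from iF_comm _).pow_right n).eq.symm
    rw [← Equiv.Perm.mul_apply, ← Subgroup.coe_mul, e, Subgroup.coe_mul, Equiv.Perm.mul_apply]
  rw [hc, hc] at h
  exact Prod.ext rfl (Fin.ext (free_pow k.2 l.2 (Equiv.injective _ h)))

theorem allVecs_len : (RuShort.allVecs).length = 16240 := by
  have h := Nat.eq_of_beq_eq_true cands0
  rwa [cands, List.filter_eq_self.2 fun v _ => by simp] at h

theorem img_onto : ∀ l ∈ RuShort.allVecs.map vL, ∃ q, coL (img q : RuVec) = l := by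
  classical
  set T := (RuShort.allVecs.map vL).toFinset
  have hmem : ∀ q, coL (img q : RuVec) ∈ T := fun q => by
    obtain ⟨v, hv, e⟩ := short_vectors (img q).2 (img_norm q)
    exact List.mem_toFinset.2 (List.mem_map.2 ⟨v, hv, e.symm⟩)
  have hinj : Function.Injective fun q => coL (img q : RuVec) := fun a b e =>
    img_inj (Subtype.ext (by rw [← emb_coL (img a : RuVec), ← emb_coL (img b : RuVec)]; exact congrArg emb e))
  have hT : T.card ≤ 16240 := by
    refine (List.toFinset_card_le _).trans ?_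
    rw [List.length_map, allVecs_len]
  intro l hl
  obtain ⟨q, -, hq⟩ := Finset.surj_on_of_inj_on_of_card_le (s := (Finset.univ : Finset (Fin 4060 × Fin 4))) (t := T)
    (fun q _ => coL (img q : RuVec)) (fun q _ => hmem q) (fun a b _ _ e => hinj e)
    (by rw [Finset.card_univ, Fintype.card_prod, Fintype.card_fin, Fintype.card_fin]; omega)
    l (List.mem_toFinset.2 hl)
  exact ⟨q, hq.symm⟩

/-- a listed vector is a short vector of the lattice -/
theorem listed_short {v : RuShort.SV} (hv : v ∈ RuShort.allVecs) :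
    ∃ h : emb (vL v) ∈ ruLattice, ruNorm ((⟨_, h⟩ : ruLattice) : RuVec) = 16 := by
  obtain ⟨q, hq⟩ := img_onto _ (List.mem_map.2 ⟨v, hv, rfl⟩)
  have e : emb (vL v) = (img q : RuVec) := by rw [← hq, emb_coL]
  exact ⟨e ▸ (img q).2, by show ruNorm (emb (vL v)) = 16; rw [e]; exact img_norm q⟩

/-- two short vectors with one reduction differ by a scalar -/
theorem short_fibre {x y : ruLattice} (hx : ruNorm (x : RuVec) = 16) (hy : ruNorm (y : RuVec) = 16)
    (h : red (x : RuVec) = red (y : RuVec)) : ∃ k < 4, y = ((iF ^ k : fourRu) : Equiv.Perm ruLattice) x := by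
  have hor : ∀ z : ruLattice, ruNorm (z : RuVec) = 16 → ∃ q, img q = z := fun z hz => by
    obtain ⟨v, hv, e⟩ := short_vectors z.2 hz
    obtain ⟨q, hq⟩ := img_onto _ (List.mem_map.2 ⟨v, hv, rfl⟩)
    exact ⟨q, Subtype.ext (by rw [← emb_coL (img q : RuVec), hq, ← e, emb_coL])⟩
  obtain ⟨⟨a, k⟩, rfl⟩ := hor x hx
  obtain ⟨⟨b, l⟩, rfl⟩ := hor y hy
  have hab : a = b := Fin.ext (rvec_uniq a.2 b.2 (by rw [← img_red (a, k), ← img_red (b, l), h]))
  subst hab
  refine ⟨((l : ℕ) + 4 - k) % 4, Nat.mod_lt _ (by norm_num), ?_⟩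
  simp only [img]
  have e : ∀ m n : ℕ, ∀ z : ruLattice, m % 4 = n % 4 →
      ((iF ^ m : fourRu) : Equiv.Perm ruLattice) z = ((iF ^ n : fourRu) : Equiv.Perm ruLattice) z := fun m n z h => by
    rw [pow_eq_pow_mod m iF_four, pow_eq_pow_mod n iF_four, h]
  refine (e (l : ℕ) (((l : ℕ) + 4 - k) % 4 + k) _ (by omega)).trans ?_
  rw [pow_add, Subgroup.coe_mul, Equiv.Perm.mul_apply]

end Cfsg.Agent.Spor.RuMult
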