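import Cfsg.Agent.Lib.Spor.RuMult.Short
import Cfsg.Agent.Lib.Spor.RuMult.Defs
import Cfsg.Agent.Lib.Lie.CentralRewrite.Tail

/-!
The certified letters are elements of the lattice group satisfying the checked relations.
-/

set_option autoImplicit false
set_option maxRecDepth 100000
set_option maxHeartbeats 400000

namespace Cfsg.Agent.Spor.RuMult

open Cfsg.Spor Cfsg.Agent.Spor.RuMin Cfsg.Agent.Spor.RuCert Cfsg.Agent.Spor.RuAut
open Cfsg.Agent.Lie.CentralRewrite (lval lval_cons lval_append Rule)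
open Matrix

theorem decB_in {d : ℕ × ℕ × ℕ × ℕ × ℕ} (ha : d.1 < 4060) (hu : d.2.2.1 < 1755) (hv : d.2.2.2.1 < 512)
    (hm : d.2.2.2.2 < 20) : InB Gru (decB d) := by
  obtain ⟨a, a', ea⟩ := rtab_in _ ha
  obtain ⟨t, t', et⟩ := tauPow_in (f := d.2.1)
  obtain ⟨u, u', eu⟩ := utab_in _ hu
  obtain ⟨v, v', ev⟩ := vtab_in _ hv
  obtain ⟨m, m', em⟩ := mtab_in _ hm
  refine ⟨a * (t * (u * (v * m))), mul_mem a' (K_le_G (mul_mem t' (T_le_K (mul_mem u' (L_le_T (mul_mem v' (M_le_L m'))))))), ?_⟩
  simp only [Units.val_mul, ea, et, eu, ev, em, decB, mulB_mat]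

theorem svAt_mem {p : ℕ × ℕ × ℕ} (h : posOK p = true) : svAt p ∈ RuShort.allVecs := by
  obtain ⟨f, i, k⟩ := p
  simp only [posOK, Bool.and_eq_true, Nat.blt_eq] at h
  obtain ⟨hf, hi, hk⟩ := h
  have hl : (leafs f).getD i (.zero 0) ∈ RuShort.allLeaves := by
    have hm : (leafs f).getD i (.zero 0) ∈ leafs f := by
      rw [List.getD_eq_getElem _ _ hi]; exact List.getElem_mem _
    revert hm
    interval_cases f <;> · intro hm; simp only [RuShort.allLeaves, List.mem_append]; simp only [leafs, List.getD_cons_zero, List.getD_cons_succ] at hm ⊢; tauto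
  refine List.mem_flatMap.2 ⟨_, hl, ?_⟩
  rw [svAt, List.getD_eq_getElem _ _ hk]
  exact List.getElem_mem _

theorem dig_ip {a b : RuShort.SV} (ha : RuShort.maskOK a.2.1 = true) :
    (dig a b : ℤ) = max 0 (ip (emb (vL a)) (emb (vL b)) + 2000) := by
  rw [dig_val ha, ip_list a b (coL_vL b)]

theorem ip_smul2 (a b : RuVec) : ip a (gI • gI • b) = -ip a b := by
  rw [show gI • gI • b = -b from funext fun p => by
    simp only [Pi.smul_apply, smul_eq_mul, Pi.neg_apply, ← mul_assoc, show gI * gI = -1 by decide, neg_one_mul],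
    ip, ip, ← Finset.sum_neg_distrib]
  refine Finset.sum_congr rfl fun k _ => ?_
  have hc : co (-b) k = -co b k := by
    have := co_add (-b) b k
    rw [neg_add_cancel, co_zero] at this
    linarith
  rw [hc, mul_neg]

variable {D : Data}

theorem node_short (hD : D.Valid) {i : ℕ} (hi : i < D.nodes.length) :
    ∃ h : emb (vL (D.vec i)) ∈ ruLattice, ruNorm ((⟨_, h⟩ : ruLattice) : RuVec) = 16 := by
  have h := List.all_eq_true.1 hD.nodes i (List.mem_range.2 hi)
  rw [Data.nodeOK, Bool.and_eq_true] at h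
  exact listed_short (svAt_mem h.1)

/-- a listed vector in the lattice -/
noncomputable def pnt (D : Data) (i : ℕ) : ruLattice := by
  classical exact if h : emb (vL (D.vec i)) ∈ ruLattice then ⟨_, h⟩ else 0

theorem pnt_coe (hD : D.Valid) {i : ℕ} (hi : i < D.nodes.length) :
    (pnt D i : RuVec) = emb (vL (D.vec i)) ∧ ruNorm (pnt D i : RuVec) = 16 := by
  obtain ⟨h, hn⟩ := node_short hD hi
  rw [pnt, dif_pos h]
  exact ⟨rfl, hn⟩

theorem red_lt (hD : D.Valid) : 0 < D.reds.length ∧ D.reds.length ≤ D.nodes.length :=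
  ⟨Nat.le_of_ble_eq_true hD.base.1, Nat.le_of_ble_eq_true hD.base.2.2⟩

theorem pnt_zero (hD : D.Valid) : pnt D 0 = x0 := by
  obtain ⟨h, -⟩ := pnt_coe hD (lt_of_lt_of_le (red_lt hD).1 (red_lt hD).2)
  refine Subtype.ext (h.trans ?_)
  have e : D.vec 0 = bAt 0 := by
    rw [Data.vec, hD.base.2.1]
    decide +kernel
  rw [e]
  rfl

theorem pnt_red (hD : D.Valid) {i : ℕ} (hi : i < D.reds.length) :
    red (pnt D i : RuVec) = vecB (D.reds.getD i 0) := by
  rw [(pnt_coe hD (lt_of_lt_of_le hi (red_lt hD).2)).1, red_list (vL_len _),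
    Nat.eq_of_beq_eq_true (List.all_eq_true.1 hD.reds i (List.mem_range.2 hi))]

/-- a family of elements for the letters -/
structure Acts (D : Data) (g : ℕ → fourRu) : Prop where
  mat : ∀ j < D.letters.length, matR (g j) = matB (D.lmat j)
  img : ∀ j < D.letters.length, ((g j : Equiv.Perm ruLattice)) x0 = pnt D (D.limg j)

theorem exists_acts (hD : D.Valid) : ∃ g, Acts D g := by
  classical
  have h : ∀ j, ∃ f : fourRu, j < D.letters.length →
      matR f = matB (D.lmat j) ∧ ((f : Equiv.Perm ruLattice)) x0 = pnt D (D.limg j) := by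
    intro j
    by_cases hj : j < D.letters.length
    swap
    · exact ⟨1, fun h => absurd h hj⟩
    have h := List.all_eq_true.1 hD.letters j (List.mem_range.2 hj)
    simp only [Data.letterOK, Bool.and_eq_true, Nat.blt_eq] at h
    obtain ⟨⟨ha, -, hu, hv, hm⟩, hdec, hc, hred⟩ := h
    obtain ⟨u, hu', eu⟩ := decB_in ha hu hv hm
    rw [Nat.eq_of_beq_eq_true hdec] at eu
    obtain ⟨f, hf⟩ := ψ_surjective ⟨u, hu'⟩
    have hmat : matR f = matB (D.lmat j) := by rw [matR, hf, eu]; rfl
    obtain ⟨-, hn⟩ := pnt_coe hD (lt_of_lt_of_le hc (red_lt hD).2)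
    have e0 := x0_red
    rw [← pnt_zero hD, pnt_red hD (red_lt hD).1] at e0
    obtain ⟨k, -, hk⟩ := short_fibre (x := (f : Equiv.Perm ruLattice) x0) ((f.2.2.2 _).trans x0_norm) hn (by
      rw [red_app, hmat, ← pnt_zero hD, pnt_red hD (red_lt hD).1, ← mulB_vec, pnt_red hD hc,
        ← Nat.eq_of_beq_eq_true hred]
      rfl)
    refine ⟨iF ^ k * f, fun _ => ⟨?_, ?_⟩⟩
    · have hk1 : ψ (iF ^ k) = 1 := by
        rw [← MonoidHom.mem_ker, ψ_ker]
        exact Subgroup.pow_mem _ (Subgroup.mem_center_iff.2 iF_comm) _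
      rw [matR, map_mul, hk1, one_mul]
      exact hmat
    · rw [Subgroup.coe_mul, Equiv.Perm.mul_apply]
      exact hk.symm
  choose g hg using h
  exact ⟨g, fun j hj => (hg j hj).1, fun j hj => (hg j hj).2⟩

theorem step_spec (hD : D.Valid) {g : ℕ → fourRu} (hg : Acts D g) : ∀ s < D.steps.length,
    ((g (D.step s).1 : Equiv.Perm ruLattice)) (pnt D (D.step s).2.1) = pnt D (D.step s).2.2.1 := by
  intro s
  induction s using Nat.strong_induction_on with
  | _ s ih =>
    intro hs
    have h := List.all_eq_true.1 hD.steps s (List.mem_range.2 hs)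
    simp only [Data.stepOK, Bool.and_eq_true, Nat.blt_eq] at h
    obtain ⟨⟨hj, hv, hw, hi⟩, h⟩ := h
    cases hb : Nat.beq (D.step s).2.1 0 <;> rw [hb] at h
    swap
    · rw [cond_true] at h
      rw [Nat.eq_of_beq_eq_true hb, pnt_zero hD, hg.img _ hj, Nat.eq_of_beq_eq_true h]
    simp only [cond_false, Bool.and_eq_true, Nat.blt_eq, decide_eq_true_eq, Bool.not_eq_true'] at h
    obtain ⟨hred, hq, hqj, hI, hR, ⟨h0, hlo, hhi⟩, h1, h3⟩ := h
    set q := (D.step s).2.2.2.2
    have hqs := ih q hq (hq.trans hs)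
    have hqb := List.all_eq_true.1 hD.steps q (List.mem_range.2 (hq.trans hs))
    simp only [Data.stepOK, Bool.and_eq_true, Nat.blt_eq] at hqb
    obtain ⟨⟨-, hu, hfu, -⟩, -⟩ := hqb
    rw [Nat.eq_of_beq_eq_true hqj] at hqs
    set j := (D.step s).1
    set v := (D.step s).2.1
    set w := (D.step s).2.2.1
    set i := (D.step s).2.2.2.1
    set a := (D.step q).2.1
    set b := (D.step q).2.2.1
    have hn : D.reds.length ≤ D.nodes.length := (red_lt hD).2
    obtain ⟨cv, nv⟩ := pnt_coe hD (lt_of_lt_of_le hv hn)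
    obtain ⟨cw, nw⟩ := pnt_coe hD (lt_of_lt_of_le hw hn)
    obtain ⟨ca, -⟩ := pnt_coe hD (lt_of_lt_of_le hu hn)
    obtain ⟨cb, -⟩ := pnt_coe hD (lt_of_lt_of_le hfu hn)
    have mk : ∀ x, x < D.nodes.length → RuShort.maskOK (D.vec x).2.1 = true := fun x hx => by
      have h := List.all_eq_true.1 hD.nodes x (List.mem_range.2 hx)
      rw [Data.nodeOK, Bool.and_eq_true] at h
      exact h.2
    have hip := pres_ip (g j).2 (pnt D a) (pnt D v)
    rw [hqs] at hip
    obtain ⟨k, hk, ek⟩ := short_fibre nw (((g j).2.2.2 _).trans nv) (by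
      rw [red_app, hg.mat j hj, pnt_red hD hv, ← mulB_vec, Nat.eq_of_beq_eq_true hred, pnt_red hD hw])
    have pa := dig_ip (a := D.vec a) (b := D.vec v) (mk _ (lt_of_lt_of_le hu hn))
    have pb := dig_ip (a := D.vec b) (b := D.vec w) (mk _ (lt_of_lt_of_le hfu hn))
    have pi := dig_ip (a := D.vec b) (b := D.vec i) (mk _ (lt_of_lt_of_le hfu hn))
    rw [← ca, ← cv] at pa
    rw [← cb, ← cw] at pb
    have e1 : emb (vL (D.vec i)) = gI • (pnt D w : RuVec) := by rw [← hI, emb_coL, cw]
    rw [e1, ← cb] at pi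
    rw [ek] at hip
    have hR' := Nat.eq_of_beq_eq_true hR
    have h0' : D.pr a v ≠ 2000 := fun e => by rw [e, Nat.beq_refl] at h0; exact absurd h0 (by decide)
    have h1' : D.pr b i ≠ D.pr a v := fun e => by rw [e, Nat.beq_refl] at h1; exact absurd h1 (by decide)
    have h3' : Nat.add (D.pr b i) (D.pr a v) ≠ 4000 := fun e => by rw [e, Nat.beq_refl] at h3; exact absurd h3 (by decide)
    change (D.pr a v : ℤ) = _ at pa
    change (D.pr b w : ℤ) = _ at pb
    change (D.pr b i : ℤ) = _ at pi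
    change D.pr b i + D.pr a v ≠ 4000 at h3'
    rw [ek]
    interval_cases k
    · rw [pow_zero]; rfl
    · exfalso
      have e : ((((iF ^ 1 : fourRu) : Equiv.Perm ruLattice) (pnt D w) : ruLattice) : RuVec) = gI • (pnt D w : RuVec) := by
        rw [pow_one]; rfl
      rw [e] at hip
      omega
    · exfalso
      have e : ((((iF ^ 2 : fourRu) : Equiv.Perm ruLattice) (pnt D w) : ruLattice) : RuVec) =
          gI • gI • (pnt D w : RuVec) := by
        rw [sq]; rfl
      rw [e, ip_smul2] at hip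
      omega
    · exfalso
      have e : ((((iF ^ 3 : fourRu) : Equiv.Perm ruLattice) (pnt D w) : ruLattice) : RuVec) =
          gI • gI • gI • (pnt D w : RuVec) := by
        rw [pow_succ, sq]; rfl
      rw [e, ip_smul2] at hip
      omega

theorem walk_spec (hD : D.Valid) {g : ℕ → fourRu} (hg : Acts D g) : ∀ (w t : List ℕ) (c e : ℕ),
    D.walkOK w t c = some e → ((lval g w.reverse : fourRu) : Equiv.Perm ruLattice) (pnt D c) = pnt D e
  | [], [], c, e, h => by
    rw [Data.walkOK, Option.some.injEq] at h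
    subst h
    rfl
  | j :: w, s :: t, c, e, h => by
    rw [Data.walkOK] at h
    cases hb : Nat.blt s D.steps.length && (Nat.beq (D.step s).1 j && Nat.beq (D.step s).2.1 c) <;> rw [hb] at h
    · exact absurd h (by simp)
    rw [cond_true] at h
    simp only [Bool.and_eq_true, Nat.blt_eq] at hb
    have hs := step_spec hD hg s hb.1
    rw [Nat.eq_of_beq_eq_true hb.2.1, Nat.eq_of_beq_eq_true hb.2.2] at hs
    rw [List.reverse_cons, lval_append, Subgroup.coe_mul, Equiv.Perm.mul_apply,
      show lval g [j] = g j by simp [lval], hs]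
    exact walk_spec hD hg w t _ e h
  | [], _ :: _, _, _, h => by simp [Data.walkOK] at h
  | _ :: _, [], _, _, h => by simp [Data.walkOK] at h

theorem word_mat {g : ℕ → fourRu} (hg : Acts D g) : ∀ w : List ℕ, (∀ j ∈ w, j < D.letters.length) →
    matR (lval g w) = matB (D.wordB w)
  | [], _ => by
    show ((ψ 1 : G28) : Matrix (Fin 28) (Fin 28) (ZMod 2)) = matB idB
    rw [map_one, OneMemClass.coe_one, Units.val_one, matB_id]
  | j :: w, h => by
    show _ = matB (mulB (D.lmat j) (D.wordB w))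
    rw [lval_cons, mulB_mat, ← hg.mat j (h j List.mem_cons_self), ← word_mat hg w fun i hi => h i (List.mem_cons_of_mem _ hi),
      matR, map_mul, Subgroup.coe_mul, Units.val_mul]

/-- an element with trivial reduction fixing the base vector is trivial -/
theorem eq_one_of {f : fourRu} (h1 : ψ f = 1) (h2 : (f : Equiv.Perm ruLattice) x0 = x0) : f = 1 := by
  have hc := all_compat
  have hm : (MulEquiv.subgroupCongr all_compat.1).symm f ∈ φ.ker := h1
  replace hm := (le_of_eq hc.2.1) hm
  obtain ⟨n, e⟩ := Subgroup.mem_zpowers_iff.1 hm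
  obtain ⟨k, hk, hkn⟩ : ∃ k : ℕ, k < 4 ∧ (k : ℤ) = n % 4 := ⟨(n % 4).toNat, by omega, by omega⟩
  have hf : f = iF ^ k := by
    rw [← (MulEquiv.subgroupCongr all_compat.1).apply_symm_apply f, ← e, map_zpow]
    show iF ^ n = _
    rw [← zpow_natCast iF k, hkn]
    conv_lhs => rw [← Int.emod_add_mul_ediv n 4]
    rw [_root_.zpow_add, _root_.zpow_mul, show iF ^ (4 : ℤ) = 1 from iF_four, _root_.one_zpow, mul_one]
  rw [hf] at h2
  rw [hf, free_x0 hk h2, pow_zero]

theorem rel_true (hD : D.Valid) {g : ℕ → fourRu} (hg : Acts D g) {u : Rule} {p : List ℕ × List ℕ}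
    (h : D.relOK u p = true) : lval g u.1 = lval g u.2 := by
  simp only [Data.relOK, Bool.and_eq_true, List.all_eq_true, Nat.blt_eq] at h
  obtain ⟨⟨hu, hw⟩, hm, hwalk⟩ := h
  cases ha : D.walkOK u.1.reverse p.1 0 with
  | none => simp [ha] at hwalk
  | some a =>
    cases hb : D.walkOK u.2.reverse p.2 0 with
    | none => simp [ha, hb] at hwalk
    | some b =>
      simp only [ha, hb] at hwalk
      have e1 := walk_spec hD hg _ _ _ _ ha
      have e2 := walk_spec hD hg _ _ _ _ hb
      rw [List.reverse_reverse, pnt_zero hD] at e1 e2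
      have hmm : ∀ A, matB (A % 2 ^ 784) = matB A := fun A => by
        funext i j
        simp only [matB, of_apply, Nat.testBit_mod_two_pow]
        rw [decide_eq_true (show 28 * (j : ℕ) + i < 784 by omega), Bool.true_and]
      have hψ : ψ (lval g u.1) = ψ (lval g u.2) := by
        refine Subtype.ext (Units.ext ?_)
        show matR _ = matR _
        rw [word_mat hg _ hu, word_mat hg _ hw, ← hmm, Nat.eq_of_beq_eq_true hm, hmm]
      refine (inv_mul_eq_one (a := lval g u.1) (b := lval g u.2)).1 (eq_one_of ?_ ?_)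
      · rw [map_mul, map_inv, hψ, inv_mul_cancel]
      · rw [Subgroup.coe_mul, Equiv.Perm.mul_apply, e2, ← Nat.eq_of_beq_eq_true hwalk, ← e1, Subgroup.coe_inv]
        exact Equiv.symm_apply_apply _ _

end Cfsg.Agent.Spor.RuMult
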