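import Cfsg.Agent.Lib.Spor.RuMult.Defs
import Cfsg.Agent.Lib.Lie.CentralRewrite.Main

/-!
Data at the prime two for the multiplier of the Rudvalis group: letters, derivations and images.
-/

set_option autoImplicit false
set_option maxRecDepth 100000
set_option maxHeartbeats 4000000

namespace Cfsg.Agent.Spor.RuMult

open Cfsg.Agent.Lie.CentralRewrite (Rule Step Pair)

/-- a block of letters -/
def twoLetters0 : List ((ℕ × ℕ × ℕ × ℕ × ℕ) × ℕ × ℕ) := [
  ((1073, 0, 1522, 482, 5), 0xb5238cf70edf17d348dfa7a07253f575291f7012f5bf9980c1c7b50cd3a3b0d24c0c29eb826a5c61223ced24d911e12f06b0ce412ac32fb9aba81eb6fdd3c112547eb0c0867a793fd843bf1ca522dd36dc5032599a7499179daa3ab591823230e2da, 1),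
  ((3803, 0, 655, 260, 3), 0x798e6bdb79ea577740e8132b789c3eba1d48703a46f99115c9e44778efb55ff76cd62c3ed3e31d5ee43e2ae74d0fb53f3c5158e40a65660c2ee2873ad01e0e330684ce8126070c90a4f7813ce7e6cebe72fa8ebd0fa9dd349c3ba4629ca116a43ad, 2),
  ((1504, 0, 1494, 3, 16), 0xd08ad29acb2e45b934081dc1b7a9e41ff923bd438348124b7b1df707c34f99c5972840a89a37bd04f5784f8261737944239bfe06ee423f44b0be45db7d43251916d8fbe2a0e58791914a1ec02ac5a4c5cd8d543be4987567124b32c271c05315ea93, 3),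
  ((1207, 1, 1523, 388, 15), 0x68873cd5f214d0ae1d9ed2fba1e8cff855a458a9a5f8e5da489dab36f2e4e2a333eacd295fe377b4af8372f0ea4e9329a3377499fd4fc0b103c3bf140d301f320011ec27ae997be00954924d9e9ac99d4586dfcb78db6454259565689d38a8a7c60, 4),
  ((0, 0, 816, 353, 15), 0xc3835f9219871df5682f36b09d95a8d3874b9ca92561f11ce79226cc8a37f88e8a3c9afdf03a974df4c237f114e25229486203868380ff8fb76929b714a124c1c8ed3f337ec190a22637677ec8b64fbdd93dc2d0985e4493ef2a17cf284e07396383, 0),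
  ((2309, 0, 1381, 145, 15), 0xd6eee6caf5c74e87692383bcaef60dd5df8fcc18f81fdeca86c3b011d89279473ab4cac6a3698401a016d43a6bc437919a44ede2cb41a6c4e45170c9d411d2b1b7c883584ac6cc4413c01c61862b4d2de2a73a5015c2a88e470f60758ebd2cd46c52, 5),
  ((1946, 0, 1368, 352, 8), 0xcd37303929c24967b8c85ca953eb21317b3f43af9dd4bb239378eca24245619346c39cac20835997cc3cc0a7aa060b3cc3ab2a5b08d1fbe4ade07dda231fc278a7e7a52590169398190cdb26fefefc46d6b407c280a1197c060cb411dca5791d16d2, 6),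
  ((1570, 0, 13, 466, 18), 0xcd83cd5d7dad1b41b6070a5e71f6c85bcbe39ec574509709ce4b84a3c6d00922defc048a22d15498191225b41950ee000233cf065fe7884b08584a1a4bd500a3a827c6d958802214934795c8109305502790a4cbe5cbd508c0aca6b5c39a9629bd42, 7)]

/-- a block of letters -/
def twoLetters1 : List ((ℕ × ℕ × ℕ × ℕ × ℕ) × ℕ × ℕ) := [
  ((1155, 0, 1186, 455, 4), 0xd295c7fa41d275f3dc320025051ccefc770a919af55a23a322b761b203ec63f5dd8a27c09fb2d1019a9a4b9afe76be27e4fd4bbdaaa86dc1c09429a39cbec7c1d9c5f06dc63087836518766b6ea54c5cd42ce8a8347b6265f615572c0f7c3a187bd0, 8),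
  ((2449, 0, 536, 207, 16), 0x76673ac83b2f3745c88dba67c9b76a9e1f3b409481408c8cd6ca61d86a2fe669c2764237be419aa4404d94dd51506ffb3ed512cc46d24d1a57143fe7e6a65dafeb2a5de1b291adde3b15efb7e10fe4a5f46bf7a3fc10e792e09d0f08c12890f97ba2, 9),
  ((2745, 1, 1557, 52, 14), 0x91410da5b9e9ba28a94b579eaad0e89cf9754ea296193d3659c39715414c27183db285a62096d832885afbfc26db25ecb58b658af951a2a972b01885a126deb50aa3ecdb44bed96a3118440747d658b93e0c63e6637a853d6d3abe3cc52d00a8a7fe, 10),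
  ((1435, 1, 31, 193, 17), 0x1ce9b5ecf00dabe6013efcfd8a8bee11d9d28f8011ba1997dea1a19e786be78a35ba1c63a12bdd09348f87e383f8c54a6a997abb0ca20f322f237d22eb10cb1b0216184290219042f0176ea99b6dda95f94582bb89f39492450f3d837ad1577a96a0, 11),
  ((2927, 0, 1285, 478, 17), 0x64071b10c51156986d49316309bfe6930de548a1700ce41488030c173f415f4f3a8824ba491896a95c9c4f6b1ab75fe17c596ac60d747582feb6c49acae9180866edbd6e6c5e55888b2210006b503857cc4758ef44a10be0e72c778182839ac46554, 12),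
  ((3694, 0, 1130, 20, 9), 0x83432904d6ce21fa4d29501219a17baeeb22d0a1396f0037e1d502b9368442999810777a8892e2f21c79f78a1998f8e847d7d6b5d7e3249e127f608bcef16328aabe582ff1bbc2c57a063992da2be9b55ab190a6e7acb64af6afd2902f539704644f, 13),
  ((0, 0, 0, 0, 0), 0x8000000400000020000001000000080000004000000200000010000000800000040000002000000100000008000000400000020000001000000080000004000000200000010000000800000040000002000000100000008000000400000020000001, 14),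
  ((1119, 1, 1508, 276, 5), 0x6de9399c4df09f0aa4314cbd7e0ee0e3b9b6d552341a2cc1b42b5902f42869978965c98c06f6458cdb7b5a5ea13d24153cff6bf64c32088954bf4647ea81750cceea7bef9329fa817b61a7e96d1a4adce736163733eb2376555bcf99c709d38522bc, 15)]

/-- a block of letters -/
def twoLetters2 : List ((ℕ × ℕ × ℕ × ℕ × ℕ) × ℕ × ℕ) := [
  ((1327, 0, 196, 90, 5), 0xf074c732fb2917289c4d36af95da5358a06bae4d8065f0349aed4f4265eb69cca7468b19f63c9677dcb4fba246122f130ae2daa08448ecb7784f5ce0c068f03a5892b63ea9018e0f21e7152ec07227cba9d4deb89ba4b13b3e4b77be885348d0cde4, 16),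
  ((3356, 0, 1274, 477, 2), 0x8c986f719aff11e9937da50e11492d1ada943d73ccf25be4d0d3a842fccc189670f364c4f2122c997ef2d94e3e32283cd97ed065dc8c59b11cf4aecaf739aa9577dc5e7446bdd22eee58b832a24637b8a359453fa2eb963416301c2f2af2cfad571a, 17),
  ((502, 0, 1706, 196, 3), 0x8e9c0e856e524fbcf260edbd42491f2640e3df85468cf12e07c2ea83ba6032674dc06182ad2c5717909614a03f9f93318860dc1e5cd61054ebc406c18767180a6c4f2fefe78e10981a7dd2668e99c449d0b896ae9fb82c09c8101873b0535ba076db, 18),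
  ((1363, 1, 155, 12, 7), 0xf85782d7079b6a0f1841f2ff7a3cddd92a413b35f6998502a0bc9e74e36f64660a972cbb7d824c49fc1aeb3f35b19a0a20839d8588d4082f110270a27f7857294c0fb340683bb10f756b926d2c1af840260b740978f45333dd2e20f0d4203a218e0, 19)]

/-- all of letters -/
def twoLetters : List ((ℕ × ℕ × ℕ × ℕ × ℕ) × ℕ × ℕ) := twoLetters0 ++ twoLetters1 ++ twoLetters2

/-- a block of nodes -/
def twoNodes0 : List (ℕ × ℕ × ℕ) := [
  (0, 0, 1),
  (6, 4, 15),
  (6, 64, 14),
  (9, 82, 12),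
  (6, 18, 5),
  (4, 63, 31),
  (8, 45, 13),
  (13, 84, 15),
  (9, 46, 13),
  (5, 42, 15),
  (13, 7, 4),
  (7, 43, 9),
  (7, 107, 15),
  (13, 63, 6),
  (0, 0, 0),
  (6, 107, 8),
  (9, 27, 10),
  (9, 56, 9),
  (6, 39, 5),
  (7, 24, 15),
  (6, 4, 0),
  (9, 61, 13),
  (8, 115, 9),
  (8, 80, 1),
  (8, 100, 4),
  (8, 110, 3),
  (4, 62, 31),
  (13, 8, 7),
  (8, 20, 13),
  (10, 119, 4),
  (5, 0, 0),
  (6, 35, 3),
  (13, 24, 3),
  (8, 40, 12),
  (5, 93, 4),
  (6, 64, 12),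
  (6, 23, 5),
  (13, 57, 9),
  (6, 56, 12),
  (13, 50, 0),
  (6, 69, 5),
  (10, 45, 8),
  (5, 3, 8),
  (13, 60, 12),
  (4, 100, 11),
  (10, 91, 7),
  (5, 39, 7),
  (7, 27, 0),
  (6, 64, 1),
  (8, 82, 15),
  (10, 54, 10),
  (10, 63, 13),
  (0, 0, 5),
  (8, 69, 6),
  (8, 44, 12),
  (9, 87, 8),
  (8, 111, 4),
  (4, 21, 23),
  (12, 112, 1),
  (4, 108, 3),
  (13, 24, 1),
  (5, 43, 6),
  (10, 104, 11),
  (7, 15, 5),
  (9, 9, 15),
  (7, 86, 2),
  (7, 65, 8),
  (6, 29, 5),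
  (9, 45, 10),
  (8, 98, 8),
  (7, 41, 4),
  (4, 118, 8),
  (4, 74, 25),
  (5, 73, 12),
  (4, 72, 20),
  (5, 0, 6),
  (9, 82, 3),
  (7, 110, 10),
  (12, 63, 26),
  (12, 91, 6)]

/-- a block of nodes -/
def twoNodes1 : List (ℕ × ℕ × ℕ) := [
  (12, 92, 3),
  (8, 115, 5),
  (9, 5, 10),
  (12, 91, 0),
  (12, 14, 30),
  (5, 42, 8),
  (10, 94, 4),
  (13, 15, 15),
  (13, 74, 3),
  (12, 69, 22),
  (9, 76, 9),
  (10, 104, 9),
  (5, 52, 12),
  (13, 118, 15),
  (7, 30, 12),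
  (13, 2, 2),
  (5, 91, 4),
  (7, 79, 9),
  (6, 27, 11),
  (6, 22, 12),
  (6, 119, 15),
  (13, 62, 15),
  (5, 72, 11),
  (4, 62, 5),
  (5, 114, 0),
  (2, 84, 13),
  (6, 42, 6),
  (2, 85, 12),
  (10, 108, 3),
  (6, 18, 10),
  (4, 63, 9),
  (14, 8, 0),
  (14, 8, 31),
  (6, 29, 10),
  (13, 43, 15),
  (10, 66, 8),
  (10, 76, 8),
  (8, 42, 6),
  (9, 13, 6),
  (6, 61, 7),
  (10, 22, 14),
  (9, 60, 6),
  (7, 64, 5),
  (6, 82, 0),
  (10, 111, 3),
  (14, 27, 1),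
  (12, 87, 5),
  (2, 78, 11),
  (7, 51, 0),
  (9, 51, 12),
  (7, 27, 4),
  (10, 94, 15),
  (13, 52, 12),
  (6, 17, 6),
  (5, 109, 13),
  (6, 66, 10),
  (6, 58, 14),
  (7, 71, 6),
  (5, 8, 13),
  (8, 85, 3),
  (5, 40, 7),
  (5, 67, 0),
  (4, 93, 13),
  (5, 51, 6),
  (4, 72, 25),
  (14, 27, 16),
  (6, 31, 1),
  (4, 21, 10),
  (8, 47, 4),
  (10, 79, 3),
  (8, 51, 12),
  (8, 63, 8),
  (9, 44, 10),
  (13, 27, 2),
  (10, 28, 14),
  (10, 110, 2),
  (12, 87, 0),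
  (7, 36, 0),
  (7, 17, 14),
  (7, 86, 7)]

/-- a block of nodes -/
def twoNodes2 : List (ℕ × ℕ × ℕ) := [
  (6, 68, 14),
  (6, 75, 9),
  (6, 27, 1),
  (5, 101, 8),
  (6, 13, 13),
  (5, 22, 0),
  (7, 85, 10),
  (5, 18, 12),
  (7, 5, 13),
  (4, 103, 11),
  (4, 89, 15),
  (5, 56, 11),
  (5, 51, 9),
  (2, 78, 12),
  (4, 63, 0),
  (9, 40, 5),
  (7, 76, 6),
  (14, 27, 30),
  (12, 27, 0),
  (13, 81, 10),
  (9, 71, 1),
  (12, 89, 12),
  (8, 113, 5),
  (10, 91, 3),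
  (8, 58, 1),
  (8, 39, 10),
  (7, 116, 13),
  (9, 36, 2),
  (10, 65, 12),
  (9, 41, 4),
  (10, 31, 9),
  (4, 96, 6),
  (12, 15, 29),
  (14, 17, 4),
  (12, 98, 14),
  (10, 114, 10),
  (7, 100, 2),
  (13, 71, 12),
  (5, 96, 8),
  (5, 100, 0),
  (6, 64, 3),
  (9, 117, 8),
  (5, 33, 14),
  (4, 24, 2),
  (4, 15, 0),
  (10, 109, 5),
  (7, 30, 3),
  (8, 45, 2),
  (8, 66, 14),
  (10, 112, 10),
  (11, 0, 8),
  (11, 2, 3),
  (13, 47, 6),
  (12, 78, 11),
  (8, 112, 9),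
  (13, 41, 11),
  (7, 107, 0),
  (8, 6, 8),
  (8, 83, 8),
  (7, 52, 13),
  (13, 18, 5),
  (10, 118, 2),
  (10, 118, 13),
  (7, 12, 14),
  (7, 50, 6),
  (9, 44, 1),
  (6, 51, 12),
  (6, 35, 12),
  (6, 87, 5),
  (6, 62, 14),
  (5, 110, 9),
  (5, 37, 1),
  (5, 47, 6),
  (4, 26, 31),
  (13, 84, 0),
  (8, 29, 0),
  (9, 15, 14),
  (10, 56, 4),
  (12, 111, 9),
  (13, 80, 1)]

/-- a block of nodes -/
def twoNodes3 : List (ℕ × ℕ × ℕ) := [
  (10, 7, 8),
  (10, 9, 3),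
  (5, 92, 4),
  (12, 109, 7),
  (7, 76, 7),
  (5, 96, 12),
  (6, 38, 7),
  (7, 66, 7),
  (7, 34, 10),
  (4, 94, 4),
  (5, 43, 13),
  (5, 47, 9),
  (4, 103, 3),
  (4, 103, 12),
  (5, 38, 12),
  (2, 90, 10),
  (2, 90, 20),
  (9, 46, 2),
  (10, 9, 12),
  (13, 63, 9),
  (13, 43, 0),
  (11, 0, 7),
  (10, 119, 11),
  (8, 63, 4),
  (13, 46, 13),
  (8, 95, 5),
  (9, 15, 1),
  (2, 79, 10),
  (6, 32, 12),
  (6, 50, 10),
  (6, 51, 3),
  (5, 108, 14),
  (6, 74, 12),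
  (7, 96, 3),
  (6, 107, 7),
  (7, 67, 14),
  (4, 27, 29),
  (4, 75, 1),
  (5, 96, 3),
  (4, 75, 30),
  (5, 42, 0),
  (12, 115, 10),
  (13, 66, 1),
  (9, 103, 8),
  (9, 3, 1),
  (9, 39, 6),
  (6, 50, 5),
  (8, 63, 11),
  (12, 20, 26),
  (10, 46, 15),
  (10, 43, 1),
  (7, 43, 6),
  (7, 15, 10),
  (6, 32, 3),
  (6, 87, 7),
  (6, 87, 8),
  (6, 12, 12),
  (12, 118, 7),
  (6, 39, 10),
  (7, 58, 14),
  (4, 110, 2),
  (5, 3, 7),
  (4, 24, 29),
  (13, 7, 11),
  (12, 27, 1),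
  (13, 66, 14),
  (13, 74, 7),
  (7, 107, 1),
  (7, 119, 7),
  (9, 27, 5),
  (12, 112, 14),
  (6, 3, 15),
  (7, 16, 1),
  (7, 16, 14),
  (5, 41, 9),
  (5, 95, 13),
  (12, 90, 7),
  (5, 28, 0),
  (12, 113, 8),
  (9, 56, 6)]

/-- a block of nodes -/
def twoNodes4 : List (ℕ × ℕ × ℕ) := [
  (12, 105, 11),
  (12, 105, 4),
  (7, 24, 0),
  (7, 5, 12),
  (10, 47, 4),
  (5, 33, 15),
  (8, 60, 11),
  (6, 90, 6),
  (8, 67, 8),
  (5, 110, 12),
  (13, 36, 0),
  (12, 68, 1),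
  (6, 1, 11),
  (6, 61, 15),
  (9, 83, 6),
  (6, 19, 11),
  (0, 0, 3),
  (4, 74, 9),
  (8, 48, 2),
  (13, 81, 15),
  (9, 47, 7),
  (5, 43, 0),
  (13, 6, 2),
  (7, 42, 10),
  (7, 106, 10),
  (13, 62, 1),
  (0, 0, 2),
  (6, 106, 13),
  (9, 26, 15),
  (9, 53, 10),
  (6, 38, 2),
  (7, 21, 15),
  (6, 1, 4),
  (9, 64, 2),
  (8, 114, 10),
  (8, 97, 2),
  (4, 75, 8),
  (8, 17, 8),
  (4, 117, 7),
  (13, 21, 0),
  (8, 37, 13),
  (6, 61, 13),
  (13, 60, 4),
  (13, 51, 8),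
  (10, 48, 5),
  (13, 57, 14),
  (10, 90, 2),
  (7, 26, 2),
  (6, 61, 0),
  (8, 83, 4),
  (10, 55, 1),
  (0, 0, 7),
  (5, 38, 5),
  (9, 86, 14),
  (4, 20, 16),
  (4, 105, 6),
  (5, 42, 6),
  (5, 96, 13),
  (9, 12, 6),
  (7, 68, 2),
  (9, 48, 1),
  (8, 99, 1),
  (7, 44, 10),
  (4, 119, 0),
  (5, 76, 7),
  (4, 117, 1),
  (9, 83, 9),
  (7, 111, 4),
  (4, 63, 16),
  (12, 89, 1),
  (9, 8, 5),
  (12, 90, 5),
  (5, 43, 7),
  (10, 95, 12),
  (13, 75, 8),
  (9, 73, 11),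
  (5, 49, 10),
  (8, 41, 13),
  (13, 3, 8),
  (7, 78, 15)]

/-- a block of nodes -/
def twoNodes5 : List (ℕ × ℕ × ℕ) := [
  (6, 23, 6),
  (13, 63, 7),
  (5, 69, 13),
  (5, 115, 10),
  (6, 43, 12),
  (10, 105, 0),
  (6, 19, 4),
  (4, 74, 31),
  (6, 32, 10),
  (6, 32, 5),
  (10, 67, 4),
  (8, 43, 10),
  (6, 64, 9),
  (10, 23, 7),
  (7, 61, 0),
  (6, 83, 11),
  (14, 14, 9),
  (2, 91, 16),
  (9, 50, 15),
  (10, 95, 7),
  (13, 49, 12),
  (5, 112, 0),
  (6, 67, 2),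
  (8, 72, 13),
  (10, 101, 8),
  (8, 88, 12),
  (13, 5, 6),
  (7, 87, 15),
  (10, 62, 12),
  (8, 114, 6),
  (14, 14, 24),
  (6, 30, 5),
  (8, 46, 6),
  (12, 90, 3),
  (9, 41, 10),
  (8, 110, 1),
  (10, 110, 4),
  (13, 14, 10),
  (9, 16, 11),
  (10, 118, 5),
  (10, 101, 10),
  (9, 57, 7),
  (4, 65, 19),
  (4, 96, 3),
  (6, 74, 13),
  (7, 26, 6),
  (6, 16, 4),
  (6, 20, 9),
  (7, 88, 7),
  (7, 8, 6),
  (2, 84, 11),
  (5, 66, 2),
  (4, 97, 8),
  (6, 118, 10),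
  (2, 91, 23),
  (4, 74, 22),
  (9, 37, 3),
  (7, 73, 4),
  (8, 62, 14),
  (10, 78, 2),
  (9, 70, 5),
  (4, 65, 30),
  (4, 20, 13),
  (10, 90, 6),
  (4, 102, 12),
  (5, 104, 7),
  (2, 85, 21),
  (5, 5, 12),
  (9, 44, 11),
  (4, 93, 7),
  (10, 73, 13),
  (12, 99, 6),
  (10, 115, 0),
  (7, 97, 4),
  (13, 70, 9),
  (10, 25, 10),
  (5, 19, 6),
  (10, 0, 7),
  (6, 59, 7),
  (10, 112, 13)]

/-- a block of nodes -/
def twoNodes6 : List (ℕ × ℕ × ℕ) := [
  (7, 31, 14),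
  (8, 48, 13),
  (8, 67, 7),
  (8, 59, 12),
  (11, 3, 15),
  (12, 86, 4),
  (5, 23, 13),
  (14, 14, 22),
  (6, 26, 8),
  (13, 44, 7),
  (7, 106, 5),
  (5, 93, 14),
  (6, 65, 13),
  (7, 49, 12),
  (9, 33, 4),
  (5, 50, 15),
  (5, 50, 0),
  (5, 36, 7),
  (12, 14, 12),
  (7, 70, 6),
  (9, 41, 1),
  (10, 111, 10),
  (14, 24, 17),
  (12, 26, 15),
  (6, 26, 2),
  (7, 113, 14),
  (6, 53, 12),
  (12, 74, 0),
  (10, 30, 11),
  (13, 81, 0),
  (12, 27, 13),
  (14, 1, 29),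
  (14, 1, 2),
  (12, 79, 3),
  (5, 111, 5),
  (13, 19, 14),
  (8, 50, 14),
  (8, 7, 4),
  (4, 15, 26),
  (7, 51, 10),
  (5, 89, 6),
  (13, 84, 5),
  (12, 112, 8),
  (10, 109, 13),
  (4, 92, 5),
  (8, 111, 9),
  (5, 40, 12),
  (8, 82, 12),
  (8, 38, 9),
  (5, 53, 13),
  (4, 95, 10),
  (4, 26, 26),
  (6, 63, 4),
  (10, 119, 3),
  (10, 119, 12),
  (5, 90, 7),
  (7, 20, 5),
  (12, 68, 17),
  (9, 47, 8),
  (10, 12, 7),
  (10, 12, 8),
  (5, 42, 13),
  (10, 118, 10),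
  (6, 61, 2),
  (7, 67, 15),
  (13, 47, 4),
  (7, 35, 7),
  (4, 102, 11),
  (4, 102, 4),
  (13, 62, 14),
  (2, 90, 16),
  (7, 9, 10),
  (12, 92, 1),
  (7, 50, 3),
  (4, 75, 18),
  (2, 79, 15),
  (6, 86, 0),
  (13, 26, 7),
  (10, 6, 14),
  (5, 39, 1)]

/-- a block of nodes -/
def twoNodes7 : List (ℕ × ℕ × ℕ) := [
  (12, 110, 14),
  (8, 116, 8),
  (6, 72, 8),
  (6, 39, 15),
  (5, 93, 5),
  (5, 93, 10),
  (5, 43, 15),
  (10, 117, 6),
  (10, 117, 9),
  (2, 79, 17),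
  (9, 102, 13),
  (9, 38, 1),
  (6, 51, 0),
  (6, 51, 15),
  (8, 32, 14),
  (7, 33, 0),
  (5, 37, 5),
  (5, 97, 0),
  (4, 14, 25),
  (5, 105, 8),
  (8, 109, 13),
  (7, 14, 3),
  (7, 14, 12),
  (9, 14, 2),
  (9, 14, 13),
  (6, 34, 5),
  (6, 34, 10),
  (12, 119, 12),
  (7, 59, 6),
  (10, 53, 0),
  (7, 87, 10),
  (4, 62, 22),
  (4, 62, 9),
  (13, 42, 4),
  (13, 42, 11),
  (13, 6, 13),
  (5, 46, 2),
  (5, 46, 13),
  (6, 9, 10),
  (13, 75, 12),
  (5, 2, 2),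
  (5, 2, 13),
  (7, 66, 9),
  (9, 2, 0),
  (13, 21, 2),
  (10, 47, 2),
  (12, 114, 12),
  (12, 86, 1),
  (6, 29, 3),
  (6, 29, 12),
  (7, 73, 5),
  (10, 68, 0),
  (6, 2, 10),
  (8, 62, 13),
  (8, 62, 2),
  (8, 94, 1),
  (6, 86, 2),
  (6, 86, 13),
  (7, 42, 5),
  (12, 109, 14),
  (12, 109, 1),
  (5, 44, 6),
  (8, 77, 7),
  (10, 42, 7),
  (4, 17, 4),
  (4, 17, 27),
  (12, 14, 13),
  (12, 91, 13),
  (6, 50, 6),
  (6, 50, 9),
  (12, 116, 6),
  (7, 31, 1),
  (7, 13, 10),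
  (7, 13, 5),
  (13, 67, 7),
  (13, 67, 8),
  (7, 106, 4),
  (5, 25, 0),
  (12, 108, 7),
  (12, 108, 8)]

/-- a block of nodes -/
def twoNodes8 : List (ℕ × ℕ × ℕ) := [
  (5, 94, 10),
  (9, 53, 5),
  (9, 26, 0),
  (6, 38, 13),
  (6, 106, 2),
  (7, 21, 0),
  (12, 21, 10),
  (7, 8, 7),
  (6, 22, 0),
  (14, 11, 16),
  (13, 46, 0),
  (13, 77, 0),
  (7, 93, 7),
  (4, 111, 12),
  (6, 75, 7),
  (7, 118, 2),
  (5, 36, 6),
  (6, 91, 14),
  (5, 111, 0),
  (12, 69, 25)]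

/-- all of nodes -/
def twoNodes : List (ℕ × ℕ × ℕ) := twoNodes0 ++ twoNodes1 ++ twoNodes2 ++ twoNodes3 ++ twoNodes4 ++ twoNodes5 ++ twoNodes6 ++ twoNodes7 ++ twoNodes8

/-- a block of reds -/
def twoReds0 : List (ℕ) := [
  0xedd5a73,
  0x7894b85,
  0x2b7091,
  0xd4c7031,
  0x545effa,
  0x9262f11,
  0xd52b7ae,
  0xf33daf5,
  0xaaaf967,
  0xddb2cca,
  0xe7e90d9,
  0x1b563c2,
  0xa88ee78,
  0x37db25a,
  0xedd5a73,
  0x2332f57,
  0xf10429a,
  0x31d264,
  0xd698ea2,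
  0x338c77d,
  0x7894b85,
  0xfe46bdb,
  0x933fbed,
  0xe254fff,
  0x5fd79c1,
  0x75d2e6b,
  0x7081f2c,
  0x8df35b1,
  0xb319e60,
  0x9f77f36,
  0x94b0b73,
  0xb0c51f3,
  0x66a8c6b,
  0xb16b106,
  0x32b55dc,
  0x5d73de6,
  0xaebac79,
  0xd97ffba,
  0x2214373,
  0xe03de35,
  0xaf2daab,
  0x9d8e85b,
  0x9ef35f7,
  0x9d46f8f,
  0xd9712c4,
  0xdae59ef,
  0xd6f0ea5,
  0xfab5f07,
  0x2b7091,
  0x33dd6cd,
  0xaf36c98,
  0x59bd85c,
  0x251143e,
  0x527082c,
  0xe26ffe6,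
  0x8cf80c4,
  0x22314,
  0x6d2f4b2,
  0x7d013dd,
  0xddfd4c5,
  0xf1a8aec,
  0xe27e199,
  0x7a8b6f8,
  0x8f52649,
  0xed667af,
  0x3ec18a9,
  0xf9ba77d,
  0xb4b3234,
  0x6fb5fbe,
  0xeb83f7f,
  0xd1ac96c,
  0x8c2d23e,
  0xe9ceb2f,
  0xd5db79d,
  0x550fee3,
  0xd90a3fe,
  0xd4c7031,
  0x9bdd84f,
  0x6f17e9f,
  0x7f3ae24]

/-- a block of reds -/
def twoReds1 : List (ℕ) := [
  0x65acf67,
  0xfecf62c,
  0xede2eb2,
  0xb57d8ea,
  0xd0d96ac,
  0x38bbeb4,
  0xbedcba7,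
  0xfd6a77,
  0x5720373,
  0xff185d4,
  0x26aed7d,
  0x6f51a85,
  0x30dd27e,
  0xf1f4bf6,
  0x19096de,
  0x25dd5a1,
  0xb131322,
  0x3865972,
  0xdefeb83,
  0x55c6f53,
  0xfceebf5,
  0x7b67167,
  0xe9ad537,
  0x9ca13a5,
  0xf9dfab1,
  0xb389ee6,
  0x6a761dc,
  0xc7379e5,
  0x238ae2e,
  0x545effa,
  0x2adf5d5,
  0xe3f062f,
  0xe3f062f,
  0xb4b3234,
  0xb59ede4,
  0xf6b562a,
  0xfd197f7,
  0x1889ed2,
  0xe8b7bb4,
  0x7f4ac32,
  0x1d57b8f,
  0x4f7d6a1,
  0x593ffc3,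
  0x423ff3c,
  0xdbf67c6,
  0x443fb42,
  0xb8319fb,
  0xd0bd222,
  0x8d7e5fc,
  0x5eef975,
  0xa0eeea3,
  0x2f07185,
  0xa829fdf,
  0xf7a4bf4,
  0x7f1bd39,
  0x75d9b3e,
  0xeaa476f,
  0x8ff2a53,
  0x419079a,
  0xbdc37b4,
  0x566cbce,
  0xc18ca35,
  0x1e6abd0,
  0x89632bd,
  0xcaaaeff,
  0x3c797f8,
  0x3f3b6f4,
  0x41111ca,
  0xd99b568,
  0xe5b8cc3,
  0x3fd9a18,
  0xa6bade0,
  0xddb442c,
  0xc132634,
  0xffa965a,
  0xcdc3ddf,
  0x86fb8fc,
  0xf7b27da,
  0xd7b3fae,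
  0xabdf7ed]

/-- a block of reds -/
def twoReds2 : List (ℕ) := [
  0x5de6b8b,
  0xcb3bf4e,
  0x44e746e,
  0xe146efe,
  0x6cfa915,
  0x4684e31,
  0x758ed4,
  0x8bfc7a9,
  0x47b9b2,
  0xeca37bf,
  0x1d8bf77,
  0x188fdd8,
  0x89632bd,
  0xaabdc07,
  0x9262f11,
  0x627397,
  0xffba5df,
  0x443fb42,
  0x5d9ab0e,
  0xab9daf9,
  0xd5b8e1f,
  0xf39f80,
  0x3ee5489,
  0x8af36e4,
  0xe5e7b0d,
  0xc8a0f67,
  0xd0d0fd0,
  0x5efeaf7,
  0x6925d3f,
  0x7ccbfa7,
  0xf148735,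
  0x3fc1bab,
  0xef8e753,
  0xe25d69d,
  0x7d8d00,
  0xe5587e6,
  0x4de09fb,
  0x40cb32c,
  0xc4e6d77,
  0x85bb4a1,
  0x5d73de6,
  0x37f9ccb,
  0x1562240,
  0xef8af6f,
  0x63e94bf,
  0x4f2b679,
  0x19096de,
  0xd52b7ae,
  0xfccd7a3,
  0xf47be6c,
  0x484ee4d,
  0xe72bedf,
  0x2e0dc85,
  0x535d908,
  0xe77e767,
  0x6d1cf5c,
  0xa88ee78,
  0x9991f50,
  0xffdddbb,
  0x9cb77d4,
  0x2935c90,
  0xe86a379,
  0xe86a379,
  0xfc372e6,
  0xa3df6,
  0xb10f45,
  0x30c2f7f,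
  0xb0c51f3,
  0xdd8de03,
  0x977f4e6,
  0x5223eff,
  0x743d9a1,
  0xaaa2c5a,
  0x8e74ab9,
  0xf33daf5,
  0x686bdfb,
  0x210dfd1,
  0xc0cac51,
  0x3e7f75f,
  0xf789b22]

/-- a block of reds -/
def twoReds3 : List (ℕ) := [
  0x3c55d16,
  0x67bf64b,
  0xb4e57db,
  0xa064e77,
  0x7995719,
  0x63ee61a,
  0xc83bc76,
  0x1293367,
  0x15eed6b,
  0x3ba8ddd,
  0x6afb9b0,
  0xaaa2c5a,
  0x8fa2f25,
  0x8fa2f25,
  0x865fe7d,
  0xeadfea5,
  0x9fed1ca,
  0xaaaf967,
  0x67bf64b,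
  0x37db25a,
  0xb59ede4,
  0x484ee4d,
  0x9f77f36,
  0x9dcb943,
  0xc6fb94b,
  0x4d7ebbd,
  0x210dfd1,
  0xf57812d,
  0x34eb7f4,
  0x190b56f,
  0x30c2f7f,
  0x3663938,
  0xccbc5eb,
  0x87ff7d6,
  0x2332f57,
  0x7cbf32d,
  0x26abaa8,
  0xae9434e,
  0x63ee61a,
  0xae9434e,
  0xddb2cca,
  0xc5f9341,
  0xd7546f3,
  0x97bf1f6,
  0xde7e056,
  0xb5d37ae,
  0x190b56f,
  0x9dcb943,
  0xa631c1d,
  0x66e2cef,
  0x38dac4f,
  0x1b563c2,
  0x8f52649,
  0x34eb7f4,
  0x6b33ed6,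
  0x6b33ed6,
  0x8156fb7,
  0x6a1bc7f,
  0xd698ea2,
  0xdff4e3f,
  0x2d964bf,
  0x9ef35f7,
  0xef8af6f,
  0xe7e90d9,
  0x6bc4428,
  0xd7546f3,
  0x62956d1,
  0x94f7d46,
  0xfcfa4de,
  0xf10429a,
  0x7d013dd,
  0x12ae927,
  0xe2fbfde,
  0xe2fbfde,
  0x451c714,
  0xaef5e9,
  0xc5b9ae9,
  0x9c12bdc,
  0x336a7a1,
  0x31d264]

/-- a block of reds -/
def twoReds4 : List (ℕ) := [
  0x8924cb5,
  0x8924cb5,
  0x338c77d,
  0xd3fd01c,
  0xfeaffbc,
  0x762b94f,
  0x63eda0b,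
  0x9df3dfc,
  0xfccd7a3,
  0x76e5afd,
  0xbcbf0ce,
  0xfcbc694]

/-- all of reds -/
def twoReds : List (ℕ) := twoReds0 ++ twoReds1 ++ twoReds2 ++ twoReds3 ++ twoReds4

/-- a block of steps -/
def twoSteps0 : List (ℕ × ℕ × ℕ × ℕ × ℕ) := [
  (0, 0, 1, 332, 0),
  (1, 0, 2, 333, 0),
  (2, 0, 3, 334, 0),
  (3, 0, 4, 335, 0),
  (4, 0, 0, 336, 0),
  (5, 0, 5, 337, 0),
  (6, 0, 6, 338, 0),
  (7, 0, 7, 339, 0),
  (8, 0, 8, 340, 0),
  (9, 0, 9, 341, 0),
  (10, 0, 10, 342, 0),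
  (11, 0, 11, 343, 0),
  (12, 0, 12, 344, 0),
  (13, 0, 13, 345, 0),
  (14, 0, 14, 346, 0),
  (15, 0, 15, 347, 0),
  (16, 0, 16, 348, 0),
  (17, 0, 17, 349, 0),
  (18, 0, 18, 350, 0),
  (19, 0, 19, 351, 0),
  (0, 14, 20, 352, 0),
  (0, 13, 21, 353, 0),
  (0, 12, 22, 354, 0),
  (0, 23, 24, 355, 0),
  (0, 25, 26, 356, 21),
  (0, 27, 28, 357, 0),
  (0, 29, 30, 358, 0),
  (0, 31, 32, 359, 21),
  (0, 1, 33, 360, 22),
  (0, 34, 35, 361, 21),
  (0, 36, 37, 362, 27),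
  (0, 38, 39, 363, 26),
  (0, 40, 41, 364, 28),
  (0, 42, 43, 365, 21),
  (0, 44, 45, 366, 24),
  (0, 46, 47, 367, 21),
  (1, 14, 48, 368, 1),
  (1, 13, 49, 369, 1),
  (1, 7, 50, 370, 1),
  (1, 51, 18, 350, 1),
  (1, 12, 52, 371, 1),
  (1, 53, 46, 372, 39),
  (1, 54, 55, 373, 1),
  (1, 56, 57, 374, 1),
  (1, 58, 59, 375, 1),
  (1, 60, 61, 376, 1),
  (1, 62, 34, 377, 1),
  (1, 63, 64, 378, 37),
  (1, 65, 66, 379, 37),
  (1, 67, 68, 380, 46),
  (1, 1, 35, 361, 39),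
  (1, 2, 69, 381, 38),
  (1, 35, 70, 382, 39),
  (1, 38, 71, 383, 43),
  (1, 72, 73, 384, 50),
  (1, 74, 75, 385, 42),
  (2, 14, 76, 386, 2),
  (2, 13, 77, 387, 2),
  (2, 78, 71, 383, 57),
  (2, 79, 72, 388, 2)]

/-- a block of steps -/
def twoSteps1 : List (ℕ × ℕ × ℕ × ℕ × ℕ) := [
  (2, 3, 80, 389, 58),
  (2, 81, 82, 390, 2),
  (2, 10, 83, 391, 2),
  (2, 84, 85, 392, 57),
  (2, 58, 86, 393, 2),
  (2, 87, 88, 394, 2),
  (2, 89, 90, 395, 2),
  (2, 91, 92, 396, 2),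
  (2, 93, 54, 397, 60),
  (2, 94, 95, 398, 57),
  (2, 1, 37, 362, 58),
  (2, 96, 97, 399, 68),
  (2, 98, 99, 400, 58),
  (2, 2, 73, 384, 60),
  (2, 100, 101, 401, 63),
  (2, 9, 102, 402, 57),
  (2, 103, 104, 403, 63),
  (2, 105, 106, 404, 59),
  (2, 107, 108, 405, 67),
  (3, 14, 109, 406, 3),
  (3, 13, 110, 407, 3),
  (3, 111, 67, 408, 3),
  (3, 112, 113, 409, 3),
  (3, 114, 115, 410, 3),
  (3, 116, 117, 411, 3),
  (3, 118, 119, 412, 81),
  (3, 3, 82, 390, 81),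
  (3, 12, 120, 413, 3),
  (3, 121, 122, 414, 3),
  (3, 58, 123, 415, 3),
  (3, 124, 125, 416, 3),
  (3, 126, 127, 417, 3),
  (3, 128, 129, 418, 81),
  (3, 130, 131, 419, 83),
  (3, 1, 28, 357, 87),
  (3, 4, 132, 420, 90),
  (3, 133, 134, 421, 80),
  (3, 2, 68, 380, 86),
  (3, 38, 135, 422, 84),
  (3, 136, 53, 423, 85),
  (3, 137, 91, 424, 85),
  (3, 138, 139, 425, 81),
  (3, 140, 27, 426, 80),
  (3, 141, 65, 427, 80),
  (3, 142, 51, 428, 89),
  (3, 143, 81, 429, 81),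
  (3, 144, 145, 430, 81),
  (3, 5, 146, 431, 80),
  (3, 147, 148, 432, 85),
  (4, 14, 14, 346, 4),
  (4, 13, 13, 345, 4),
  (4, 149, 79, 433, 4),
  (4, 12, 12, 344, 4),
  (4, 150, 7, 339, 4),
  (4, 6, 6, 338, 113),
  (4, 151, 152, 434, 4),
  (4, 56, 56, 435, 4),
  (4, 153, 124, 436, 4),
  (4, 154, 87, 437, 4),
  (4, 155, 118, 438, 116)]

/-- a block of steps -/
def twoSteps2 : List (ℕ × ℕ × ℕ × ℕ × ℕ) := [
  (4, 29, 29, 439, 4),
  (4, 62, 62, 440, 4),
  (4, 156, 121, 441, 4),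
  (4, 126, 10, 342, 4),
  (4, 157, 9, 341, 110),
  (4, 158, 144, 442, 112),
  (4, 11, 11, 343, 110),
  (4, 159, 142, 443, 111),
  (4, 160, 161, 444, 114),
  (4, 1, 30, 358, 112),
  (4, 4, 134, 421, 113),
  (4, 162, 130, 445, 116),
  (4, 163, 164, 446, 110),
  (4, 133, 133, 447, 110),
  (4, 2, 57, 374, 119),
  (4, 165, 166, 448, 112),
  (4, 167, 168, 449, 112),
  (4, 169, 107, 450, 115),
  (4, 170, 141, 451, 110),
  (4, 171, 44, 452, 115),
  (4, 172, 100, 453, 112),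
  (4, 5, 173, 454, 110),
  (4, 173, 5, 337, 110),
  (5, 14, 174, 455, 5),
  (5, 13, 175, 456, 5),
  (5, 114, 176, 457, 5),
  (5, 177, 151, 458, 5),
  (5, 178, 149, 459, 5),
  (5, 179, 180, 460, 144),
  (5, 181, 74, 461, 145),
  (5, 182, 147, 462, 148),
  (5, 3, 106, 404, 145),
  (5, 12, 183, 463, 5),
  (5, 184, 169, 464, 145),
  (5, 185, 163, 465, 5),
  (5, 186, 105, 466, 5),
  (5, 187, 138, 467, 5),
  (5, 188, 189, 468, 149),
  (5, 190, 191, 469, 5),
  (5, 192, 116, 470, 144),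
  (5, 193, 194, 471, 147),
  (5, 126, 195, 472, 5),
  (5, 11, 196, 473, 144),
  (5, 1, 197, 474, 147),
  (5, 198, 154, 475, 144),
  (5, 4, 148, 432, 146),
  (5, 199, 167, 476, 145),
  (5, 2, 75, 385, 146),
  (5, 200, 201, 477, 146),
  (5, 202, 136, 478, 146),
  (5, 203, 173, 454, 144),
  (5, 204, 205, 479, 150),
  (5, 5, 206, 480, 144),
  (6, 14, 207, 481, 6),
  (6, 13, 208, 482, 6),
  (6, 209, 184, 483, 6),
  (6, 210, 211, 484, 6),
  (6, 212, 156, 485, 6),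
  (6, 7, 165, 486, 6),
  (6, 213, 177, 487, 174)]

/-- a block of steps -/
def twoSteps3 : List (ℕ × ℕ × ℕ × ℕ × ℕ) := [
  (6, 214, 98, 488, 6),
  (6, 12, 215, 489, 6),
  (6, 150, 166, 448, 6),
  (6, 6, 216, 490, 175),
  (6, 217, 198, 491, 177),
  (6, 218, 160, 492, 6),
  (6, 10, 219, 493, 6),
  (6, 220, 187, 494, 177),
  (6, 221, 172, 495, 174),
  (6, 222, 143, 496, 174),
  (6, 157, 202, 497, 174),
  (6, 223, 178, 498, 176),
  (6, 224, 137, 499, 178),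
  (6, 11, 225, 500, 174),
  (6, 226, 155, 501, 176),
  (6, 227, 193, 502, 174),
  (6, 228, 192, 503, 174),
  (6, 229, 162, 504, 180),
  (6, 1, 39, 363, 179),
  (6, 4, 135, 422, 175),
  (6, 230, 62, 440, 174),
  (6, 2, 71, 383, 178),
  (6, 200, 33, 360, 176),
  (6, 231, 186, 505, 179),
  (6, 232, 38, 506, 174),
  (6, 233, 78, 507, 178),
  (6, 203, 190, 508, 174),
  (6, 5, 191, 469, 174),
  (7, 14, 234, 509, 7),
  (7, 13, 84, 510, 7),
  (7, 7, 216, 490, 7),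
  (7, 216, 112, 511, 7),
  (7, 12, 111, 512, 7),
  (7, 6, 166, 448, 210),
  (7, 235, 213, 513, 211),
  (7, 236, 230, 514, 7),
  (7, 237, 220, 515, 7),
  (7, 132, 69, 381, 7),
  (7, 58, 150, 516, 7),
  (7, 238, 217, 517, 7),
  (7, 239, 233, 518, 7),
  (7, 240, 224, 519, 7),
  (7, 241, 242, 520, 213),
  (7, 206, 179, 521, 209),
  (7, 11, 243, 522, 209),
  (7, 244, 209, 523, 211),
  (7, 159, 170, 524, 210),
  (7, 1, 26, 356, 211),
  (7, 245, 25, 525, 209),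
  (7, 4, 113, 409, 213),
  (7, 2, 50, 370, 210),
  (7, 35, 231, 526, 214),
  (7, 246, 218, 527, 214),
  (7, 247, 185, 528, 216),
  (7, 248, 171, 529, 214),
  (7, 9, 249, 530, 209),
  (7, 250, 204, 531, 209),
  (7, 251, 229, 532, 209),
  (7, 252, 222, 533, 209),
  (7, 253, 221, 534, 209)]

/-- a block of steps -/
def twoSteps4 : List (ℕ × ℕ × ℕ × ℕ × ℕ) := [
  (7, 254, 96, 535, 216),
  (7, 5, 180, 460, 209),
  (7, 255, 158, 536, 209),
  (7, 256, 89, 537, 209),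
  (8, 14, 257, 538, 8),
  (8, 13, 258, 539, 8),
  (8, 259, 241, 540, 8),
  (8, 260, 250, 541, 8),
  (8, 261, 29, 439, 8),
  (8, 210, 262, 542, 8),
  (8, 7, 242, 520, 8),
  (8, 3, 104, 403, 247),
  (8, 216, 35, 361, 8),
  (8, 12, 200, 543, 8),
  (8, 6, 33, 360, 250),
  (8, 263, 247, 544, 8),
  (8, 23, 264, 545, 8),
  (8, 265, 248, 546, 8),
  (8, 266, 253, 547, 8),
  (8, 236, 252, 548, 8),
  (8, 8, 259, 549, 247),
  (8, 10, 267, 550, 8),
  (8, 58, 223, 551, 8),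
  (8, 126, 181, 552, 8),
  (8, 11, 128, 553, 245),
  (8, 268, 103, 554, 245),
  (8, 269, 56, 435, 245),
  (8, 270, 255, 555, 247),
  (8, 1, 41, 364, 252),
  (8, 271, 228, 556, 252),
  (8, 4, 129, 418, 254),
  (8, 2, 70, 382, 250),
  (8, 272, 153, 557, 247),
  (8, 273, 240, 558, 250),
  (8, 274, 254, 559, 248),
  (8, 275, 238, 560, 251),
  (8, 9, 133, 447, 245),
  (8, 42, 182, 561, 245),
  (8, 232, 40, 562, 245),
  (8, 140, 132, 420, 245),
  (8, 276, 246, 563, 247),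
  (8, 277, 278, 564, 245),
  (8, 279, 245, 565, 245),
  (8, 5, 201, 477, 245),
  (9, 14, 280, 566, 9),
  (9, 13, 261, 567, 9),
  (9, 259, 210, 568, 9),
  (9, 281, 256, 569, 9),
  (9, 7, 249, 530, 9),
  (9, 282, 283, 570, 285),
  (9, 284, 285, 571, 9),
  (9, 216, 269, 572, 9),
  (9, 12, 286, 573, 9),
  (9, 6, 211, 484, 288),
  (9, 287, 235, 574, 9),
  (9, 23, 157, 575, 9),
  (9, 8, 262, 542, 289),
  (9, 10, 140, 576, 9),
  (9, 288, 199, 577, 294),
  (9, 289, 276, 578, 296)]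

/-- a block of steps -/
def twoSteps5 : List (ℕ × ℕ × ℕ × ℕ × ℕ) := [
  (9, 290, 271, 579, 9),
  (9, 60, 80, 389, 9),
  (9, 206, 214, 580, 285),
  (9, 291, 63, 581, 285),
  (9, 11, 292, 582, 285),
  (9, 293, 266, 583, 285),
  (9, 268, 236, 584, 285),
  (9, 294, 31, 585, 285),
  (9, 295, 227, 586, 285),
  (9, 1, 32, 359, 287),
  (9, 4, 115, 410, 293),
  (9, 296, 297, 587, 295),
  (9, 2, 64, 378, 287),
  (9, 298, 299, 588, 311),
  (9, 275, 237, 589, 290),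
  (9, 9, 0, 336, 285),
  (9, 300, 159, 590, 289),
  (9, 301, 279, 591, 285),
  (9, 42, 277, 592, 285),
  (9, 203, 260, 593, 285),
  (9, 302, 114, 594, 285),
  (9, 5, 176, 457, 285),
  (10, 14, 303, 595, 10),
  (10, 13, 232, 596, 10),
  (10, 259, 251, 597, 10),
  (10, 304, 296, 598, 10),
  (10, 7, 229, 532, 10),
  (10, 305, 306, 599, 323),
  (10, 216, 301, 600, 10),
  (10, 12, 42, 601, 10),
  (10, 307, 275, 602, 10),
  (10, 308, 284, 603, 10),
  (10, 6, 219, 493, 326),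
  (10, 23, 60, 604, 10),
  (10, 309, 289, 605, 10),
  (10, 8, 267, 550, 327),
  (10, 10, 0, 336, 10),
  (10, 310, 281, 606, 10),
  (10, 94, 126, 607, 323),
  (10, 291, 293, 608, 323),
  (10, 11, 268, 609, 323),
  (10, 270, 244, 610, 327),
  (10, 1, 43, 365, 325),
  (10, 4, 127, 417, 332),
  (10, 2, 61, 376, 325),
  (10, 298, 188, 611, 325),
  (10, 272, 311, 612, 325),
  (10, 312, 287, 613, 331),
  (10, 313, 263, 614, 331),
  (10, 9, 140, 576, 323),
  (10, 314, 265, 615, 323),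
  (10, 203, 294, 616, 323),
  (10, 302, 295, 617, 323),
  (10, 5, 195, 472, 323),
  (11, 14, 291, 618, 11),
  (11, 13, 310, 619, 11),
  (11, 259, 58, 620, 11),
  (11, 7, 243, 522, 11),
  (11, 282, 314, 621, 355),
  (11, 12, 23, 622, 11)]

/-- a block of steps -/
def twoSteps6 : List (ℕ × ℕ × ℕ × ℕ × ℕ) := [
  (11, 308, 290, 623, 11),
  (11, 6, 225, 500, 357),
  (11, 8, 128, 553, 358),
  (11, 10, 268, 609, 11),
  (11, 206, 203, 624, 355),
  (11, 94, 302, 625, 355),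
  (11, 11, 0, 336, 355),
  (11, 1, 24, 355, 359),
  (11, 4, 123, 415, 361),
  (11, 315, 304, 626, 363),
  (11, 2, 59, 375, 357),
  (11, 298, 316, 627, 360),
  (11, 274, 270, 628, 360),
  (11, 15, 226, 629, 360),
  (11, 9, 292, 582, 355),
  (11, 317, 318, 630, 357),
  (11, 5, 196, 473, 355),
  (12, 14, 216, 490, 12),
  (12, 13, 206, 480, 12),
  (12, 259, 94, 631, 12),
  (12, 7, 111, 512, 12),
  (12, 17, 275, 602, 12),
  (12, 12, 0, 336, 12),
  (12, 6, 215, 489, 380),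
  (12, 8, 200, 543, 381),
  (12, 10, 42, 601, 12),
  (12, 11, 23, 622, 378),
  (12, 1, 22, 354, 382),
  (12, 4, 120, 413, 381),
  (12, 2, 52, 371, 380),
  (12, 18, 313, 632, 381),
  (12, 298, 312, 633, 381),
  (12, 274, 305, 634, 389),
  (12, 15, 282, 635, 389),
  (12, 9, 286, 573, 378),
  (12, 5, 183, 463, 378),
  (13, 14, 259, 549, 13),
  (13, 13, 0, 336, 13),
  (13, 7, 84, 510, 13),
  (13, 319, 307, 636, 13),
  (13, 12, 206, 480, 13),
  (13, 6, 208, 482, 398),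
  (13, 8, 258, 539, 399),
  (13, 10, 232, 596, 13),
  (13, 11, 310, 619, 397),
  (13, 1, 21, 353, 400),
  (13, 4, 110, 407, 399),
  (13, 2, 49, 369, 398),
  (13, 18, 317, 637, 399),
  (13, 274, 320, 638, 407),
  (13, 15, 321, 639, 407),
  (13, 19, 315, 640, 398),
  (13, 9, 261, 567, 397),
  (13, 5, 175, 456, 397),
  (14, 14, 0, 336, 14),
  (14, 13, 259, 549, 14),
  (14, 7, 234, 509, 14),
  (14, 17, 319, 641, 14),
  (14, 12, 216, 490, 14),
  (14, 6, 207, 481, 416)]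

/-- a block of steps -/
def twoSteps7 : List (ℕ × ℕ × ℕ × ℕ × ℕ) := [
  (14, 16, 309, 642, 14),
  (14, 8, 257, 538, 417),
  (14, 10, 303, 595, 14),
  (14, 11, 291, 618, 415),
  (14, 1, 20, 352, 418),
  (14, 4, 109, 406, 417),
  (14, 2, 48, 368, 416),
  (14, 18, 298, 643, 417),
  (14, 15, 274, 644, 426),
  (14, 19, 322, 645, 416),
  (14, 9, 280, 566, 415),
  (14, 5, 174, 455, 415),
  (15, 14, 274, 644, 15),
  (15, 13, 321, 639, 15),
  (15, 7, 108, 405, 15),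
  (15, 12, 306, 599, 15),
  (15, 6, 125, 416, 434),
  (15, 8, 119, 412, 436),
  (15, 10, 283, 570, 15),
  (15, 11, 285, 571, 433),
  (15, 1, 45, 366, 435),
  (15, 146, 97, 399, 433),
  (15, 9, 311, 612, 433),
  (15, 173, 117, 411, 433),
  (16, 14, 309, 642, 16),
  (17, 14, 319, 641, 17),
  (18, 14, 298, 643, 18),
  (18, 13, 317, 637, 18),
  (18, 7, 168, 449, 18),
  (18, 12, 318, 630, 18),
  (18, 6, 164, 446, 448),
  (18, 8, 152, 434, 450),
  (18, 10, 299, 588, 18),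
  (18, 11, 312, 633, 447),
  (18, 4, 55, 373, 450),
  (18, 2, 92, 396, 448),
  (18, 9, 288, 646, 447),
  (18, 5, 66, 379, 447),
  (19, 14, 322, 645, 19),
  (0, 194, 197, 474, 26),
  (0, 205, 323, 647, 25),
  (2, 131, 36, 648, 60),
  (4, 264, 8, 340, 114),
  (4, 189, 93, 649, 113),
  (4, 3, 101, 401, 113),
  (6, 3, 99, 400, 182),
  (7, 297, 212, 650, 213),
  (7, 3, 90, 395, 214),
  (8, 316, 239, 651, 255),
  (9, 318, 273, 652, 290),
  (9, 3, 102, 402, 296),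
  (10, 318, 288, 646, 330),
  (10, 316, 300, 653, 334),
  (10, 3, 83, 391, 334),
  (11, 321, 272, 654, 357),
  (11, 3, 86, 393, 362),
  (12, 320, 308, 655, 380),
  (12, 3, 95, 398, 384),
  (13, 3, 77, 387, 402),
  (14, 3, 76, 386, 420)]

/-- a block of steps -/
def twoSteps8 : List (ℕ × ℕ × ℕ × ℕ × ℕ) := [
  (15, 3, 145, 430, 437),
  (18, 3, 71, 383, 451),
  (16, 324, 325, 656, 16),
  (16, 85, 161, 444, 482),
  (17, 326, 327, 657, 17),
  (17, 47, 139, 425, 484),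
  (17, 278, 88, 394, 484),
  (17, 328, 329, 658, 17),
  (17, 166, 237, 589, 487),
  (19, 330, 331, 659, 19),
  (19, 323, 122, 414, 489)]

/-- all of steps -/
def twoSteps : List (ℕ × ℕ × ℕ × ℕ × ℕ) := twoSteps0 ++ twoSteps1 ++ twoSteps2 ++ twoSteps3 ++ twoSteps4 ++ twoSteps5 ++ twoSteps6 ++ twoSteps7 ++ twoSteps8

/-- a block of paths -/
def twoPaths0 : List (List ℕ × List ℕ) := [
  ([0, 28], [12, 253, 202]),
  ([0, 50], [11, 340, 306, 215, 200, 121, 46, 29]),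
  ([1, 51], [10, 297, 279, 217]),
  ([0, 70], [14, 396, 324, 237, 197, 131, 93, 461, 30]),
  ([1, 73], [14, 396, 356, 262, 191, 147, 111, 59, 54]),
  ([2, 60], [12, 359, 333, 301]),
  ([0, 94], [10, 297, 102, 25]),
  ([1, 97], [12, 212, 81, 49]),
  ([2, 86], [11, 340, 306, 259, 238, 189, 105, 61]),
  ([3, 95], [10, 297, 279]),
  ([0, 129], [13, 285, 248, 120, 26]),
  ([1, 134], [14, 377, 291, 266, 116, 43]),
  ([2, 464], [14, 354, 339, 305, 258, 239, 188, 140, 74]),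
  ([3, 130], [9, 276, 133, 96]),
  ([4, 4], []),
  ([0, 163], [14, 396, 379, 365, 352, 308, 195, 160, 459]),
  ([1, 167], [14, 396, 379, 338, 263, 149, 55]),
  ([2, 151], [14, 377, 252, 231, 203, 155, 77]),
  ([3, 165], [12, 329, 277, 150, 108]),
  ([4, 5], [13, 378, 364, 170, 142]),
  ([5, 172], [13, 378]),
  ([0, 198], [13, 323, 204, 31]),
  ([1, 201], [13, 323, 204, 53]),
  ([2, 465], [13, 378, 302, 180, 72]),
  ([3, 199], [13, 323, 204, 98]),
  ([4, 6], [6, 114]),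
  ([5, 207], [13, 378, 364, 206, 158]),
  ([6, 183], [14, 377]),
  ([0, 227], [14, 377, 328, 317, 282, 228, 24]),
  ([1, 230], [7, 38])]

/-- a block of paths -/
def twoPaths1 : List (List ℕ × List ℕ) := [
  ([2, 467], [13, 355, 337, 287, 243, 66]),
  ([3, 229], [14, 377, 211, 82]),
  ([4, 7], [14, 396, 356, 218, 113]),
  ([5, 241], [13, 378, 223, 148]),
  ([6, 213], [14, 396, 356, 218, 182]),
  ([7, 210], [14, 377]),
  ([0, 268], [13, 323, 278, 32]),
  ([1, 271], [14, 377, 252, 52]),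
  ([2, 251], [11, 340, 265, 76]),
  ([3, 270], [11, 264, 92]),
  ([4, 8], [12, 359, 256, 462]),
  ([5, 283], [12, 253, 168]),
  ([6, 254], [12, 253, 202]),
  ([7, 250], [14, 396, 246, 222]),
  ([8, 260], [14, 396]),
  ([0, 309], [13, 378, 364, 351, 307, 27]),
  ([1, 312], [14, 354, 303, 47]),
  ([2, 470], [9, 75]),
  ([3, 310], [14, 396, 379, 365, 320, 83]),
  ([4, 9], [12, 359, 295, 124]),
  ([5, 321], [14, 396, 379, 365, 320, 145]),
  ([6, 293], [14, 396, 286, 176]),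
  ([7, 288], [9, 235]),
  ([8, 296], [14, 396, 286, 249]),
  ([9, 315], []),
  ([0, 342], [12, 329, 33]),
  ([1, 344], [12, 359, 333, 45]),
  ([2, 473], [10, 62]),
  ([3, 343], [14, 396, 379, 338, 91]),
  ([4, 10], [14, 396, 379, 338, 123])]

/-- a block of paths -/
def twoPaths2 : List (List ℕ × List ℕ) := [
  ([5, 353], [14, 396, 379, 338, 161]),
  ([6, 332], [10, 186]),
  ([7, 326], [14, 396, 324, 237]),
  ([8, 335], [10, 261]),
  ([9, 349], [10, 297]),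
  ([10, 336], []),
  ([0, 367], [12, 359, 23]),
  ([1, 370], [14, 396, 356, 44]),
  ([2, 475], [14, 396, 356, 64]),
  ([3, 368], [14, 396, 356, 89]),
  ([4, 11], [11, 126]),
  ([5, 376], [11, 162]),
  ([6, 361], [11, 193]),
  ([7, 357], [11, 224]),
  ([8, 362], [11, 264]),
  ([9, 374], [11, 304]),
  ([10, 363], [11, 340]),
  ([11, 366], []),
  ([0, 387], [12, 22]),
  ([1, 389], [12, 40]),
  ([2, 477], [14, 396, 379, 69]),
  ([3, 388], [12, 87]),
  ([4, 12], [12, 112]),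
  ([5, 395], [12, 152]),
  ([6, 383], [12, 181]),
  ([7, 380], [12, 212]),
  ([8, 384], [12, 253]),
  ([9, 394], [12, 292]),
  ([10, 385], [12, 329]),
  ([11, 386], [12, 359])]

/-- a block of paths -/
def twoPaths3 : List (List ℕ × List ℕ) := [
  ([12, 382], []),
  ([0, 405], [13, 21]),
  ([1, 407], [13, 37]),
  ([2, 478], [13, 57]),
  ([3, 406], [13, 80]),
  ([4, 13], [13, 110]),
  ([5, 413], [13, 144]),
  ([6, 401], [13, 174]),
  ([7, 398], [13, 209]),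
  ([8, 402], [13, 245]),
  ([9, 412], [13, 285]),
  ([10, 403], [13, 323]),
  ([11, 404], [13, 355]),
  ([12, 400], [13, 378]),
  ([13, 397], []),
  ([0, 424], [14, 20]),
  ([1, 426], [14, 36]),
  ([2, 479], [14, 56]),
  ([3, 425], [14, 79]),
  ([4, 14], [14, 109]),
  ([5, 431], [14, 143]),
  ([6, 419], [14, 173]),
  ([7, 416], [14, 208]),
  ([8, 421], [14, 244]),
  ([9, 430], [14, 284]),
  ([10, 422], [14, 322]),
  ([11, 423], [14, 354]),
  ([12, 418], [14, 377]),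
  ([13, 415], [14, 396]),
  ([14, 414], [])]

/-- a block of paths -/
def twoPaths4 : List (List ℕ × List ℕ) := [
  ([0, 440], [15, 393, 358, 350, 257, 234, 139, 34]),
  ([2, 480], [15, 428, 372, 267, 242, 125, 106]),
  ([5, 107, 441], [15, 428, 274, 240, 71]),
  ([5, 141, 443], [15, 428, 409, 476, 360, 300, 269, 196, 159, 84]),
  ([6, 436], [15, 410, 474, 272, 117, 90]),
  ([7, 434], [15, 428, 372, 341, 225, 175, 153, 137, 78]),
  ([8, 437], [15, 373, 194, 119, 85]),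
  ([9, 442], [15, 410, 474, 346]),
  ([10, 438], [15, 393, 289]),
  ([11, 439], [15, 428, 409, 476, 331, 290]),
  ([12, 435], [15, 428, 392, 327]),
  ([13, 433], [15, 410]),
  ([14, 432], [15, 428]),
  ([13, 209, 63, 483], [16, 420, 334, 299, 280, 232, 185, 128]),
  ([14, 444], [16, 420]),
  ([12, 359, 295, 190, 169, 99, 41, 35, 485], [17, 417, 399, 330, 314, 216, 187, 156, 101]),
  ([7, 178, 135, 488], [17, 417, 399, 330, 314]),
  ([12, 329, 318, 281, 486], [17, 381, 275, 219, 184, 164, 118, 65]),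
  ([14, 445], [17, 417]),
  ([1, 455], [18, 408, 375, 469, 273, 221, 192, 100, 67]),
  ([2, 481], [18, 427, 371, 468, 220, 205, 58]),
  ([3, 454], [18, 427, 345, 157, 463, 68, 42]),
  ([4, 18], [18, 427, 371, 472, 316, 127, 104, 39]),
  ([5, 457], [18, 427, 371, 472, 316, 226, 138, 103, 48]),
  ([6, 450], [18, 390, 348, 255, 233, 154, 132]),
  ([7, 448], [18, 408, 375, 471, 298, 166, 136]),
  ([8, 451], [18, 427, 391, 347, 294, 214, 179, 146, 115]),
  ([9, 456], [18, 408, 375, 471]),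
  ([10, 452], [18, 427, 313]),
  ([11, 453], [18, 427, 391])]

/-- a block of paths -/
def twoPaths5 : List (List ℕ × List ℕ) := [
  ([12, 449], [18, 408, 375]),
  ([13, 447], [18, 408]),
  ([14, 446], [18, 427]),
  ([13, 378, 364, 319, 247, 236, 171, 460, 490], [19, 411, 369, 325, 311, 466, 177, 122, 88]),
  ([14, 458], [19, 429])]

/-- all of paths -/
def twoPaths : List (List ℕ × List ℕ) := twoPaths0 ++ twoPaths1 ++ twoPaths2 ++ twoPaths3 ++ twoPaths4 ++ twoPaths5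

/-- a block of rels -/
def twoRels0 : List (Rule) := [
  ([0, 0], [6, 8, 12]),
  ([1, 0], [0, 1, 4, 6, 7, 9, 10, 11]),
  ([1, 1], [7, 8, 9, 10]),
  ([2, 0], [0, 2, 3, 4, 6, 7, 10, 13, 14]),
  ([2, 1], [1, 2, 4, 5, 6, 8, 11, 13, 14]),
  ([2, 2], [9, 10, 11, 12]),
  ([3, 0], [0, 3, 9, 10]),
  ([3, 1], [1, 3, 7, 12]),
  ([3, 2], [2, 3, 6, 7, 8, 9, 10, 11]),
  ([3, 3], [8, 9, 10]),
  ([4, 0], [0, 4, 8, 9, 13]),
  ([4, 1], [1, 4, 8, 9, 12, 14]),
  ([4, 2], [2, 4, 6, 7, 8, 9, 10, 11, 14]),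
  ([4, 3], [3, 4, 8, 9]),
  ([4, 4], []),
  ([5, 0], [0, 5, 6, 9, 10, 11, 12, 13, 14]),
  ([5, 1], [1, 5, 8, 10, 12, 13, 14]),
  ([5, 2], [2, 5, 6, 7, 8, 12, 14]),
  ([5, 3], [3, 5, 8, 10, 12]),
  ([5, 4], [4, 5, 11, 12, 13])]

/-- a block of rels -/
def twoRels1 : List (Rule) := [
  ([5, 5], [12, 13]),
  ([6, 0], [0, 6, 10, 13]),
  ([6, 1], [1, 6, 10, 13]),
  ([6, 2], [2, 6, 9, 12, 13]),
  ([6, 3], [3, 6, 10, 13]),
  ([6, 4], [4, 6]),
  ([6, 5], [5, 6, 11, 12, 13]),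
  ([6, 6], [12, 14]),
  ([7, 0], [0, 7, 8, 9, 10, 12, 14]),
  ([7, 1], [1, 7]),
  ([7, 2], [2, 7, 9, 10, 11, 13]),
  ([7, 3], [3, 7, 12, 14]),
  ([7, 4], [4, 7, 11, 13, 14]),
  ([7, 5], [5, 7, 12, 13]),
  ([7, 6], [6, 7, 11, 13, 14]),
  ([7, 7], [12, 14]),
  ([8, 0], [0, 8, 10, 13]),
  ([8, 1], [1, 8, 12, 14]),
  ([8, 2], [2, 8, 10, 11]),
  ([8, 3], [3, 8, 11])]

/-- a block of rels -/
def twoRels2 : List (Rule) := [
  ([8, 4], [4, 8, 11, 12]),
  ([8, 5], [5, 8, 12]),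
  ([8, 6], [6, 8, 12]),
  ([8, 7], [7, 8, 13, 14]),
  ([8, 8], [13, 14]),
  ([9, 0], [0, 9, 10, 11, 12, 13]),
  ([9, 1], [1, 9, 11, 14]),
  ([9, 2], [2, 9]),
  ([9, 3], [3, 9, 11, 12, 13, 14]),
  ([9, 4], [4, 9, 11, 12]),
  ([9, 5], [5, 9, 11, 12, 13, 14]),
  ([9, 6], [6, 9, 13, 14]),
  ([9, 7], [7, 9]),
  ([9, 8], [8, 9, 13, 14]),
  ([9, 9], []),
  ([10, 0], [0, 10, 12]),
  ([10, 1], [1, 10, 11, 12]),
  ([10, 2], [2, 10]),
  ([10, 3], [3, 10, 12, 13, 14]),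
  ([10, 4], [4, 10, 12, 13, 14])]

/-- a block of rels -/
def twoRels3 : List (Rule) := [
  ([10, 5], [5, 10, 12, 13, 14]),
  ([10, 6], [6, 10]),
  ([10, 7], [7, 10, 13, 14]),
  ([10, 8], [8, 10]),
  ([10, 9], [9, 10]),
  ([10, 10], []),
  ([11, 0], [0, 11, 12]),
  ([11, 1], [1, 11, 13, 14]),
  ([11, 2], [2, 11, 13, 14]),
  ([11, 3], [3, 11, 13, 14]),
  ([11, 4], [4, 11]),
  ([11, 5], [5, 11]),
  ([11, 6], [6, 11]),
  ([11, 7], [7, 11]),
  ([11, 8], [8, 11]),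
  ([11, 9], [9, 11]),
  ([11, 10], [10, 11]),
  ([11, 11], []),
  ([12, 0], [0, 12]),
  ([12, 1], [1, 12])]

/-- a block of rels -/
def twoRels4 : List (Rule) := [
  ([12, 2], [2, 12, 13, 14]),
  ([12, 3], [3, 12]),
  ([12, 4], [4, 12]),
  ([12, 5], [5, 12]),
  ([12, 6], [6, 12]),
  ([12, 7], [7, 12]),
  ([12, 8], [8, 12]),
  ([12, 9], [9, 12]),
  ([12, 10], [10, 12]),
  ([12, 11], [11, 12]),
  ([12, 12], []),
  ([13, 0], [0, 13]),
  ([13, 1], [1, 13]),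
  ([13, 2], [2, 13]),
  ([13, 3], [3, 13]),
  ([13, 4], [4, 13]),
  ([13, 5], [5, 13]),
  ([13, 6], [6, 13]),
  ([13, 7], [7, 13]),
  ([13, 8], [8, 13])]

/-- a block of rels -/
def twoRels5 : List (Rule) := [
  ([13, 9], [9, 13]),
  ([13, 10], [10, 13]),
  ([13, 11], [11, 13]),
  ([13, 12], [12, 13]),
  ([13, 13], []),
  ([14, 0], [0, 14]),
  ([14, 1], [1, 14]),
  ([14, 2], [2, 14]),
  ([14, 3], [3, 14]),
  ([14, 4], [4, 14]),
  ([14, 5], [5, 14]),
  ([14, 6], [6, 14]),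
  ([14, 7], [7, 14]),
  ([14, 8], [8, 14]),
  ([14, 9], [9, 14]),
  ([14, 10], [10, 14]),
  ([14, 11], [11, 14]),
  ([14, 12], [12, 14]),
  ([14, 13], [13, 14]),
  ([14, 14], [])]

/-- a block of rels -/
def twoRels6 : List (Rule) := [
  ([15, 0], [0, 4, 7, 8, 10, 11, 12, 15]),
  ([15, 2], [3, 4, 7, 8, 11, 14, 15]),
  ([15, 3, 5], [2, 7, 8, 14, 15]),
  ([15, 4, 5], [3, 5, 6, 8, 9, 11, 12, 13, 14, 15]),
  ([15, 6], [3, 4, 8, 11, 13, 15]),
  ([15, 7], [2, 4, 5, 6, 7, 10, 11, 14, 15]),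
  ([15, 8], [3, 4, 6, 11, 15]),
  ([15, 9], [10, 11, 13, 15]),
  ([15, 10], [9, 12, 15]),
  ([15, 11], [9, 10, 12, 13, 14, 15]),
  ([15, 12], [10, 12, 14, 15]),
  ([15, 13], [13, 15]),
  ([15, 14], [14, 15]),
  ([16, 2, 7, 13], [4, 6, 7, 8, 9, 10, 14, 16]),
  ([16, 14], [14, 16]),
  ([17, 0, 1, 3, 5, 6, 9, 11, 12], [3, 5, 6, 7, 9, 10, 13, 14, 17]),
  ([17, 4, 6, 7], [9, 10, 13, 14, 17]),
  ([17, 8, 9, 10, 12], [2, 4, 5, 6, 7, 8, 12, 17]),
  ([17, 14], [14, 17]),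
  ([18, 1], [2, 3, 6, 7, 8, 9, 11, 13, 18])]

/-- a block of rels -/
def twoRels7 : List (Rule) := [
  ([18, 2], [2, 6, 7, 8, 11, 14, 18]),
  ([18, 3], [1, 2, 4, 5, 10, 14, 18]),
  ([18, 4], [1, 3, 4, 9, 10, 11, 14, 18]),
  ([18, 5], [1, 3, 4, 7, 9, 10, 11, 14, 18]),
  ([18, 6], [4, 5, 7, 8, 10, 12, 18]),
  ([18, 7], [4, 5, 9, 10, 11, 13, 18]),
  ([18, 8], [4, 5, 6, 7, 9, 10, 12, 14, 18]),
  ([18, 9], [10, 11, 13, 18]),
  ([18, 10], [9, 14, 18]),
  ([18, 11], [12, 14, 18]),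
  ([18, 12], [11, 13, 18]),
  ([18, 13], [13, 18]),
  ([18, 14], [14, 18]),
  ([19, 0, 5, 7, 8, 9, 11, 12, 13], [3, 4, 6, 7, 9, 10, 11, 13, 19]),
  ([19, 14], [14, 19])]

/-- all of rels -/
def twoRels : List (Rule) := twoRels0 ++ twoRels1 ++ twoRels2 ++ twoRels3 ++ twoRels4 ++ twoRels5 ++ twoRels6 ++ twoRels7

/-- a block of eqs -/
def twoEqs0 : List (Pair) := [
  ([0, 0, 0], [(0, 0, true), (2, 78, true), (1, 36, true), (0, 21, true), (3, 99, true), (2, 63, true), (4, 101, true), (3, 65, true), (3, 104, true)], [(1, 0, true)]),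
  ([1, 0, 0], [(0, 1, true), (7, 66, true), (6, 55, true), (5, 45, true), (4, 28, true), (3, 21, true), (2, 10, true), (1, 1, true), (0, 0, true), (2, 79, true), (1, 37, true), (0, 22, true), (3, 99, true), (2, 63, true), (4, 103, true), (6, 117, true), (5, 103, true), (4, 90, true), (5, 109, true), (4, 95, true), (3, 59, true), (2, 40, true), (1, 25, true), (5, 88, true), (4, 76, true), (6, 90, true), (7, 118, true), (6, 104, true), (6, 119, true), (5, 72, true), (4, 61, true), (3, 42, true), (2, 27, true), (3, 113, true), (2, 86, true), (4, 117, true), (3, 90, true), (3, 115, true), (4, 116, true), (5, 112, true), (4, 73, true), (3, 62, true), (2, 43, true), (5, 115, true), (4, 101, true), (6, 118, true), (5, 104, true), (5, 119, true), (6, 114, true), (5, 75, true), (4, 64, true), (7, 115, true), (6, 76, true), (5, 65, true), (6, 116, true), (5, 77, true), (5, 109, true), (4, 49, true), (3, 40, true),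 (2, 32, true), (1, 14, true), (4, 113, true), (3, 99, true), (2, 74, true), (5, 116, true), (4, 102, true), (3, 77, true), (4, 117, true), (3, 103, true), (5, 114, true), (4, 100, true), (3, 87, true), (6, 116, true), (5, 102, true), (4, 89, true), (7, 117, true), (6, 103, true), (5, 90, true), (6, 119, true), (5, 99, true), (4, 74, true), (3, 53, true), (2, 44, true), (3, 114, true), (2, 100, true), (4, 118, true), (3, 104, true), (3, 119, true), (4, 100, true), (3, 75, true), (2, 54, true), (3, 104, true), (2, 72, true), (1, 34, true), (5, 116, true), (4, 102, true), (3, 77, true), (4, 115, true), (3, 101, true), (5, 118, true), (4, 104, true), (4, 112, true), (3, 62, true), (2, 35, true), (3, 115, true), (2, 88, true), (4, 118, true), (5, 119, true), (5, 113, true), (4, 99, true), (3, 86, true), (2, 63, true), (6, 114, true), (5, 100, true), (4, 87, true), (3, 64, true), (7, 115, true), (6, 101, true),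 (5, 88, true), (4, 65, true), (6, 117, true), (5, 103, true), (4, 90, true), (5, 119, true), (4, 100, true), (3, 54, true), (3, 101, true), (4, 102, true), (5, 103, true), (6, 104, true), (5, 88, true), (4, 76, true), (3, 65, true), (4, 90, true), (3, 77, true)], [(1, 0, true)]),
  ([1, 1, 0], [(0, 2, true), (3, 55, true), (2, 45, true), (1, 36, true), (0, 28, true), (6, 113, true), (5, 86, true), (4, 63, true), (3, 53, true), (2, 44, true), (3, 114, true), (2, 100, true), (4, 118, true), (3, 104, true), (3, 119, true), (5, 115, true), (4, 88, true), (3, 65, true), (4, 118, true), (5, 114, true), (4, 100, true), (3, 87, true), (2, 54, true), (4, 115, true), (3, 101, true), (2, 88, true), (5, 116, true), (4, 102, true), (3, 89, true), (6, 117, true), (5, 103, true), (4, 90, true), (5, 118, true), (4, 104, true), (4, 115, true), (3, 76, true), (2, 65, true), (3, 117, true)], [(1, 1, true), (0, 1, true),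 (7, 67, true), (6, 56, true), (5, 46, true), (4, 29, true), (3, 22, true), (2, 11, true), (1, 2, true), (4, 59, true), (3, 49, true), (2, 40, true), (1, 32, true), (5, 113, true), (4, 99, true), (3, 74, true), (6, 116, true), (5, 102, true), (4, 77, true), (5, 117, true), (4, 103, true), (6, 114, true), (5, 100, true), (4, 87, true), (7, 116, true), (6, 102, true), (5, 89, true), (8, 117, true), (7, 103, true), (6, 90, true), (7, 115, true), (6, 101, true), (5, 76, true), (8, 117, true), (7, 103, true), (9, 118, true), (8, 104, true), (8, 119, true), (7, 86, true), (6, 74, true), (5, 63, true), (4, 53, true), (3, 44, true), (4, 114, true), (3, 100, true), (5, 118, true), (4, 104, true), (4, 119, true), (6, 87, true), (5, 75, true), (4, 64, true), (3, 54, true), (5, 90, true), (5, 111, true), (4, 72, true), (3, 61, true), (2, 34, true), (6, 115, true), (5, 101, true), (4, 76, true), (7, 116, true), (6,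 102, true), (5, 77, true), (6, 119, true), (5, 101, true), (4, 65, true), (4, 104, true), (3, 35, true), (4, 114, true), (3, 87, true), (5, 116, true), (4, 89, true), (6, 119, true), (5, 88, true), (4, 76, true), (6, 89, true), (5, 77, true), (5, 90, true), (7, 109, true), (6, 95, true), (5, 70, true), (4, 59, true), (3, 49, true), (2, 25, true), (1, 14, true), (4, 88, true), (3, 76, true), (5, 90, true), (6, 116, true), (5, 102, true), (4, 77, true), (5, 118, true), (4, 104, true), (4, 119, true), (3, 61, true), (2, 51, true), (1, 27, true), (2, 114, true), (1, 87, true), (3, 118, true), (4, 119, true), (3, 101, true), (2, 88, true), (4, 98, true), (3, 85, true), (2, 62, true), (1, 52, true), (5, 117, true), (4, 103, true), (6, 118, true), (5, 104, true), (5, 114, true), (4, 87, true), (3, 64, true), (2, 54, true), (4, 115, true), (3, 88, true), (2, 65, true), (3, 116, true), (2, 89, true)]),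
  ([1, 1, 1], [(0, 2, true), (3, 56, true), (2, 46, true), (1, 37, true), (0, 29, true), (4, 114, true), (3, 87, true), (5, 116, true), (4, 89, true), (6, 119, true), (5, 88, true), (4, 76, true), (6, 89, true), (5, 77, true), (5, 90, true)], [(1, 2, true)]),
  ([2, 0, 0], [(0, 3, true), (8, 105, true), (7, 91, true), (6, 55, true), (5, 28, true), (4, 21, true), (3, 10, true), (2, 6, true), (1, 3, true), (0, 0, true), (2, 80, true), (1, 38, true), (0, 23, true), (4, 99, true), (3, 86, true), (2, 53, true), (5, 117, true), (4, 103, true), (6, 118, true), (5, 104, true), (5, 115, true), (4, 88, true), (6, 116, true), (5, 89, true), (7, 117, true), (6, 90, true), (6, 118, true), (7, 119, true), (6, 94, true), (5, 69, true), (4, 58, true), (3, 48, true), (2, 39, true), (1, 24, true), (4, 99, true), (3, 63, true), (5, 102, true), (6, 100, true), (5, 75, true), (4, 64, true), (7, 102, true), (6, 77, true),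 (6, 103, true), (7, 104, true), (7, 115, true), (6, 88, true), (5, 65, true), (6, 117, true), (5, 90, true), (5, 118, true), (6, 119, true), (5, 102, true), (6, 104, true), (6, 118, true), (7, 109, true), (6, 95, true), (5, 70, true), (4, 49, true), (3, 40, true), (2, 25, true), (6, 87, true), (5, 75, true), (7, 89, true), (6, 77, true), (6, 90, true), (8, 111, true), (7, 97, true), (6, 72, true), (5, 51, true), (4, 42, true), (3, 27, true), (4, 113, true), (3, 86, true), (5, 117, true), (4, 90, true), (4, 114, true), (5, 118, true), (6, 119, true), (5, 102, true), (6, 104, true), (6, 112, true), (5, 73, true), (4, 52, true), (3, 43, true), (6, 114, true), (5, 100, true), (7, 116, true), (6, 102, true), (8, 119, true), (7, 101, true), (6, 76, true), (8, 104, true), (8, 108, true), (7, 69, true), (6, 58, true), (5, 48, true), (4, 39, true), (3, 31, true), (2, 13, true), (1, 9, true), (3, 59, true), (2,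 49, true), (1, 40, true), (4, 87, true), (3, 75, true), (5, 89, true), (4, 77, true), (4, 90, true), (7, 113, true), (6, 99, true), (5, 86, true), (4, 63, true), (3, 53, true), (2, 44, true), (3, 114, true), (2, 100, true), (4, 118, true), (3, 104, true), (3, 119, true), (6, 114, true), (5, 100, true), (4, 87, true), (3, 64, true), (2, 54, true), (5, 112, true), (4, 98, true), (3, 85, true), (2, 62, true), (5, 117, true), (4, 103, true), (6, 118, true), (5, 104, true), (5, 119, true), (4, 90, true), (4, 113, true), (3, 63, true), (5, 116, true), (6, 114, true), (5, 75, true), (4, 64, true), (7, 116, true), (6, 77, true), (6, 117, true), (7, 118, true), (8, 119, true), (7, 101, true), (6, 88, true), (5, 65, true), (6, 103, true), (5, 90, true), (5, 104, true), (5, 116, true), (6, 118, true), (7, 119, true), (7, 114, true), (6, 100, true), (5, 75, true), (4, 54, true), (6, 115, true), (5, 101, true), (4,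 76, true), (7, 109, true), (6, 95, true), (5, 70, true), (4, 59, true), (3, 40, true), (2, 32, true), (1, 14, true), (4, 113, true), (3, 99, true), (2, 74, true), (5, 116, true), (4, 102, true), (3, 77, true), (4, 117, true), (3, 103, true), (5, 115, true), (4, 101, true), (3, 88, true), (6, 117, true), (5, 103, true), (4, 90, true), (5, 118, true), (4, 104, true), (4, 119, true), (6, 113, true), (5, 99, true), (4, 74, true), (3, 63, true), (2, 44, true), (3, 115, true), (2, 101, true), (4, 116, true), (3, 102, true), (5, 118, true), (4, 104, true), (4, 119, true), (3, 75, true), (2, 64, true), (5, 97, true), (4, 72, true), (3, 61, true), (2, 51, true), (1, 34, true), (5, 114, true), (4, 100, true), (3, 75, true), (6, 118, true), (5, 104, true), (5, 119, true), (4, 76, true), (5, 77, true), (5, 101, true), (4, 65, true), (4, 104, true), (3, 52, true), (2, 35, true), (3, 114, true), (2, 87, true), (4,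 113, true), (3, 86, true), (2, 53, true), (5, 117, true), (4, 103, true), (6, 119, true), (5, 100, true), (4, 87, true), (3, 54, true), (4, 101, true), (3, 88, true), (5, 103, true), (4, 90, true), (5, 115, true), (4, 101, true), (3, 65, true), (4, 117, true), (3, 103, true), (5, 118, true), (4, 104, true), (4, 119, true)], [(1, 0, true)]),
  ([2, 1, 0], [(0, 4, true), (8, 105, true), (7, 91, true), (6, 66, true), (5, 36, true), (4, 21, true), (3, 15, true), (2, 10, true), (1, 3, true), (0, 1, true), (7, 68, true), (6, 57, true), (5, 47, true), (4, 30, true), (3, 23, true), (2, 12, true), (10, 111, true), (9, 72, true), (8, 61, true), (7, 51, true), (6, 42, true), (5, 34, true), (4, 27, true), (5, 112, true), (4, 85, true), (6, 116, true), (5, 89, true), (7, 118, true), (8, 119, true), (7, 99, true), (6, 86, true), (5, 74, true), (8, 103, true), (7, 90, true), (7, 100, true), (6, 75, true), (8, 104, true),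 (8, 115, true), (7, 76, true), (9, 116, true), (8, 77, true), (8, 119, true), (7, 64, true), (6, 54, true), (8, 98, true), (7, 85, true), (6, 62, true), (5, 43, true), (4, 35, true), (5, 113, true), (4, 86, true), (6, 118, true), (7, 119, true), (6, 101, true), (5, 88, true), (7, 104, true), (7, 117, true), (6, 90, true), (6, 118, true), (7, 114, true), (6, 100, true), (5, 64, true), (8, 115, true), (7, 101, true), (6, 65, true), (7, 116, true), (6, 102, true), (8, 118, true), (7, 104, true), (7, 114, true), (6, 75, true), (5, 54, true), (6, 115, true), (5, 76, true), (7, 116, true), (6, 77, true), (6, 118, true), (7, 119, true), (6, 94, true), (5, 58, true), (4, 39, true), (3, 13, true), (6, 53, true), (5, 44, true), (6, 114, true), (5, 100, true), (7, 118, true), (6, 104, true), (6, 119, true), (6, 76, true), (10, 118, true), (9, 104, true), (9, 109, true), (8, 82, true), (7, 70, true), (6, 59, true),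 (5, 49, true), (4, 14, true), (6, 88, true), (5, 76, true), (7, 90, true), (8, 116, true), (7, 102, true), (6, 77, true), (7, 117, true), (6, 103, true), (8, 119, true), (7, 97, true), (6, 84, true), (5, 61, true), (4, 51, true), (7, 115, true), (6, 101, true), (8, 117, true), (7, 103, true), (9, 118, true), (8, 104, true), (8, 112, true), (7, 85, true), (6, 62, true), (5, 52, true), (9, 117, true), (8, 103, true), (10, 119, true), (9, 101, true), (8, 88, true), (7, 65, true), (8, 104, true), (8, 109, true), (7, 82, true), (6, 49, true), (5, 32, true), (4, 25, true), (9, 114, true), (8, 100, true), (7, 75, true), (10, 116, true), (9, 102, true), (8, 77, true), (9, 117, true), (8, 103, true), (10, 117, true), (9, 103, true), (8, 90, true), (9, 119, true), (8, 99, true), (7, 53, true), (10, 118, true), (9, 104, true), (9, 114, true), (8, 54, true), (8, 118, true), (9, 110, true), (8, 96, true), (7, 41,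 true), (6, 33, true), (5, 26, true), (9, 98, true), (8, 85, true), (7, 73, true), (10, 103, true), (9, 90, true), (9, 104, true), (8, 74, true), (12, 111, true), (11, 97, true), (10, 84, true), (9, 72, true), (8, 42, true), (7, 34, true), (6, 27, true), (7, 112, true), (6, 85, true), (8, 116, true), (7, 89, true), (9, 118, true), (10, 119, true), (9, 99, true), (8, 86, true), (7, 74, true), (10, 103, true), (9, 90, true), (9, 102, true), (8, 77, true), (8, 103, true), (9, 104, true), (9, 114, true), (8, 87, true), (10, 115, true), (9, 88, true), (11, 116, true), (10, 89, true), (12, 117, true), (11, 90, true), (11, 118, true), (12, 119, true), (11, 97, true), (10, 72, true), (9, 61, true), (8, 51, true), (7, 42, true), (6, 34, true), (10, 113, true), (9, 99, true), (8, 74, true), (11, 117, true), (10, 103, true), (12, 114, true), (11, 100, true), (10, 87, true), (9, 75, true), (13, 118, true), (12, 104,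 true), (12, 119, true), (11, 88, true), (10, 76, true), (12, 89, true), (11, 77, true), (12, 101, true), (11, 88, true), (10, 65, true), (11, 104, true), (10, 86, true), (9, 53, true), (8, 44, true), (9, 114, true), (8, 100, true), (10, 118, true), (9, 104, true), (9, 119, true), (9, 88, true), (11, 102, true), (10, 89, true), (12, 103, true), (11, 90, true), (11, 104, true)], [(1, 1, true), (0, 3, true), (8, 106, true), (7, 92, true), (6, 56, true), (5, 29, true), (4, 22, true), (3, 11, true), (2, 7, true), (1, 4, true), (9, 108, true), (8, 94, true), (7, 69, true), (6, 39, true), (5, 24, true), (4, 18, true), (3, 13, true), (6, 50, true), (5, 41, true), (7, 87, true), (8, 89, true), (9, 90, true), (10, 113, true), (9, 99, true), (8, 74, true), (7, 53, true), (6, 44, true), (7, 114, true), (6, 100, true), (8, 118, true), (7, 104, true), (7, 119, true), (9, 115, true), (8, 101, true), (7, 76, true), (10,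 117, true), (9, 103, true), (11, 111, true), (10, 97, true), (9, 84, true), (8, 72, true), (7, 61, true), (6, 51, true), (9, 115, true), (8, 101, true), (10, 116, true), (9, 102, true), (11, 117, true), (10, 103, true), (12, 118, true), (11, 104, true), (11, 119, true), (10, 88, true), (9, 76, true), (8, 65, true), (10, 99, true), (9, 86, true), (8, 74, true), (7, 53, true), (10, 116, true), (9, 102, true), (11, 117, true), (10, 103, true), (12, 118, true), (11, 104, true), (11, 116, true), (10, 89, true), (9, 77, true), (10, 116, true), (9, 89, true), (11, 118, true), (12, 119, true), (11, 104, true), (11, 112, true), (10, 85, true), (9, 73, true), (8, 52, true), (7, 43, true), (10, 114, true), (9, 100, true), (11, 116, true), (10, 102, true), (12, 117, true), (11, 103, true), (13, 119, true), (12, 103, true), (11, 90, true), (11, 95, true), (10, 70, true), (9, 49, true), (8, 40, true), (7, 32, true),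 (6, 25, true), (5, 19, true), (4, 14, true), (7, 97, true), (6, 84, true), (5, 72, true), (8, 98, true), (7, 85, true), (6, 73, true), (9, 102, true), (8, 89, true), (7, 77, true), (8, 104, true), (8, 113, true), (7, 86, true), (9, 116, true), (8, 89, true), (10, 117, true), (9, 90, true), (9, 114, true), (8, 75, true), (10, 116, true), (9, 77, true), (9, 117, true), (10, 116, true), (9, 89, true), (11, 118, true), (12, 113, true), (11, 99, true), (10, 86, true), (9, 74, true), (8, 53, true), (7, 44, true), (8, 114, true), (7, 100, true), (9, 118, true), (8, 104, true), (8, 119, true), (11, 114, true), (10, 100, true), (9, 87, true), (8, 75, true), (7, 54, true), (10, 117, true), (9, 103, true), (8, 90, true), (9, 119, true), (8, 97, true), (7, 72, true), (6, 34, true), (5, 27, true), (6, 112, true), (5, 85, true), (7, 116, true), (6, 89, true), (8, 118, true), (9, 119, true), (8, 102, true), (7, 89,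 true), (6, 77, true), (7, 104, true), (6, 88, true), (8, 98, true), (7, 85, true), (6, 62, true), (5, 35, true), (6, 115, true), (5, 88, true), (7, 118, true), (8, 119, true), (7, 103, true), (6, 90, true), (6, 104, true), (5, 65, true), (8, 109, true), (7, 95, true), (6, 82, true), (5, 70, true), (4, 19, true), (8, 102, true), (7, 89, true), (6, 77, true), (7, 103, true), (6, 90, true), (6, 104, true), (6, 111, true), (7, 112, true), (8, 114, true), (9, 115, true), (10, 116, true)])]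

/-- a block of eqs -/
def twoEqs1 : List (Pair) := [
  ([2, 1, 1], [(0, 4, true), (8, 106, true), (7, 92, true), (6, 67, true), (5, 37, true), (4, 22, true), (3, 16, true), (2, 11, true), (1, 4, true), (0, 2, true), (3, 57, true), (2, 47, true), (1, 38, true), (0, 30, true), (5, 99, true), (4, 74, true), (3, 63, true), (2, 53, true), (5, 115, true), (4, 101, true), (6, 116, true), (5, 102, true), (7, 118, true), (6, 104, true), (6, 115, true), (5, 76, true), (4, 65, true), (5, 116, true), (4, 77, true), (4, 114, true), (3, 54, true), (3, 115, true), (4, 109, true), (3, 59, true), (2, 40, true), (1, 32, true), (5, 113, true), (4, 99, true), (3, 74, true), (6, 116, true), (5, 102, true), (4, 77, true), (5, 117, true), (4, 103, true), (6, 115, true), (5, 101, true), (4, 88, true), (7, 117, true), (6, 103, true), (5, 90, true), (6, 118, true), (5, 104, true), (5, 119, true), (5, 110, true), (4, 60, true),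 (3, 41, true), (2, 33, true), (5, 99, true), (4, 86, true), (6, 103, true), (5, 90, true), (5, 101, true), (6, 103, true), (7, 104, true), (7, 119, true), (6, 84, true), (5, 61, true), (4, 42, true), (3, 34, true), (7, 113, true), (6, 99, true), (5, 74, true), (8, 117, true), (7, 103, true), (9, 115, true), (8, 101, true), (7, 88, true), (6, 76, true), (10, 117, true), (9, 103, true), (8, 90, true), (9, 113, true), (8, 99, true), (7, 74, true), (6, 63, true), (5, 44, true), (6, 115, true), (5, 101, true), (7, 116, true), (6, 102, true), (8, 118, true), (7, 104, true), (7, 119, true), (6, 77, true), (7, 109, true), (6, 95, true), (5, 59, true), (4, 32, true), (3, 25, true), (2, 19, true), (1, 14, true), (4, 97, true), (3, 84, true), (2, 72, true), (5, 98, true), (4, 85, true), (3, 73, true), (6, 102, true), (5, 89, true), (4, 77, true), (5, 104, true), (5, 115, true), (4, 88, true), (6, 117, true), (5,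 90, true), (5, 118, true), (6, 119, true), (5, 104, true), (5, 113, true), (4, 63, true), (6, 114, true), (5, 64, true), (7, 117, true), (8, 119, true), (7, 83, true), (6, 60, true), (5, 50, true), (4, 41, true), (3, 33, true), (2, 26, true), (1, 20, true), (2, 97, true), (1, 84, true), (3, 102, true), (2, 89, true), (4, 103, true), (3, 90, true), (3, 104, true), (2, 73, true), (5, 99, true), (4, 86, true), (3, 74, true), (6, 103, true), (5, 90, true), (5, 100, true), (4, 75, true), (6, 102, true), (5, 77, true), (5, 103, true), (6, 104, true), (6, 115, true), (5, 88, true), (7, 117, true), (6, 90, true), (6, 118, true), (7, 119, true), (6, 103, true), (7, 99, true), (6, 86, true), (5, 63, true), (4, 53, true), (3, 44, true), (4, 114, true), (3, 100, true), (5, 118, true), (4, 104, true), (4, 119, true), (6, 101, true), (5, 88, true), (4, 65, true), (5, 103, true), (4, 90, true), (4, 104, true), (4, 111,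 true), (3, 51, true), (2, 34, true), (1, 27, true), (2, 112, true), (1, 85, true), (3, 116, true), (2, 89, true), (4, 118, true), (5, 119, true), (4, 100, true), (3, 87, true), (2, 75, true), (5, 104, true), (5, 119, true), (4, 88, true), (3, 76, true), (6, 99, true), (5, 86, true), (4, 74, true), (3, 63, true), (2, 53, true), (5, 115, true), (4, 101, true), (6, 116, true), (5, 102, true), (7, 117, true), (6, 103, true), (8, 118, true), (7, 104, true), (7, 117, true), (6, 90, true), (6, 119, true), (5, 77, true), (6, 118, true), (5, 104, true), (5, 119, true)], [(1, 2, true)]),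
  ([2, 2, 0], [(0, 5, true), (3, 78, true), (2, 66, true), (1, 55, true), (0, 45, true), (5, 101, true), (4, 88, true), (3, 76, true), (2, 65, true), (4, 103, true), (3, 90, true), (3, 102, true), (2, 77, true), (2, 103, true), (3, 103, true), (2, 90, true)], [(1, 3, true), (0, 3, true), (8, 107, true), (7, 93, true), (6, 57, true), (5, 30, true), (4, 23, true), (3, 12, true), (2, 8, true), (1, 5, true), (4, 81, true), (3, 69, true), (2, 58, true), (1, 48, true), (6, 115, true), (5, 101, true), (4, 88, true), (3, 76, true), (7, 117, true), (6, 103, true), (5, 90, true), (6, 118, true), (5, 104, true), (5, 119, true), (4, 77, true), (5, 117, true), (4, 103, true), (6, 111, true), (5, 97, true), (4, 84, true), (3, 61, true), (2, 51, true), (5, 115, true), (4, 101, true), (6, 117, true), (5, 103, true), (7, 118, true), (6, 104, true), (6, 119, true), (5, 85, true), (4, 62, true), (3, 52, true), (7, 117,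 true), (6, 103, true), (8, 113, true), (7, 99, true), (6, 86, true), (5, 63, true), (4, 53, true), (7, 115, true), (6, 101, true), (8, 117, true), (7, 103, true), (9, 118, true), (8, 104, true), (8, 119, true), (7, 87, true), (6, 64, true), (5, 54, true), (6, 88, true), (5, 65, true), (5, 89, true), (6, 82, true), (5, 70, true), (4, 40, true), (3, 32, true), (2, 25, true), (7, 113, true), (6, 99, true), (5, 74, true), (8, 116, true), (7, 102, true), (6, 77, true), (7, 117, true), (6, 103, true), (8, 116, true), (7, 102, true), (6, 89, true), (9, 117, true), (8, 103, true), (7, 90, true), (8, 111, true), (7, 97, true), (6, 72, true), (5, 42, true), (4, 34, true), (3, 27, true), (4, 112, true), (3, 85, true), (5, 116, true), (4, 89, true), (6, 118, true), (7, 119, true), (6, 99, true), (5, 86, true), (4, 74, true), (7, 103, true), (6, 90, true), (6, 102, true), (5, 77, true), (5, 104, true), (5, 112, true),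 (4, 43, true), (3, 35, true), (4, 113, true), (3, 86, true), (5, 118, true), (6, 119, true), (6, 113, true), (5, 99, true), (4, 86, true), (3, 44, true), (4, 117, true), (3, 103, true), (5, 118, true), (4, 104, true), (4, 119, true), (3, 87, true), (4, 88, true), (5, 89, true), (7, 111, true), (6, 84, true), (5, 72, true), (4, 61, true), (3, 51, true), (6, 115, true), (5, 101, true), (7, 116, true), (6, 102, true), (8, 117, true), (7, 103, true), (9, 119, true), (8, 100, true), (7, 87, true), (6, 75, true), (5, 64, true), (4, 54, true), (7, 103, true), (6, 90, true), (6, 104, true), (5, 73, true), (4, 62, true), (7, 116, true), (6, 102, true), (8, 114, true), (7, 100, true), (6, 75, true), (5, 64, true), (9, 115, true), (8, 101, true), (7, 76, true), (6, 65, true), (8, 116, true), (7, 102, true), (6, 77, true), (7, 118, true), (6, 104, true), (6, 115, true), (7, 118, true), (8, 119, true), (7, 94, true),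 (6, 58, true), (5, 48, true), (4, 31, true), (3, 24, true), (2, 13, true), (1, 9, true), (3, 59, true), (2, 49, true), (1, 40, true), (4, 87, true), (3, 75, true), (5, 89, true), (4, 77, true), (4, 90, true), (7, 113, true), (6, 99, true), (5, 86, true), (4, 63, true), (3, 53, true), (2, 44, true), (3, 114, true), (2, 100, true), (4, 118, true), (3, 104, true), (3, 119, true), (6, 114, true), (5, 100, true), (4, 87, true), (3, 64, true), (2, 54, true), (5, 111, true), (4, 97, true), (3, 84, true), (2, 61, true), (6, 115, true), (5, 101, true), (4, 88, true), (3, 65, true), (5, 118, true), (4, 104, true), (4, 112, true), (3, 85, true), (5, 117, true), (4, 90, true), (4, 119, true), (8, 115, true), (7, 101, true), (6, 88, true), (5, 76, true), (9, 117, true), (8, 103, true), (7, 90, true), (8, 118, true), (7, 104, true), (7, 119, true), (7, 95, true), (6, 70, true), (5, 59, true), (4, 49, true), (3, 32,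 true), (2, 25, true), (1, 14, true), (5, 114, true), (4, 100, true), (3, 75, true), (6, 116, true), (5, 102, true), (4, 77, true), (5, 117, true), (4, 103, true), (6, 115, true), (5, 101, true), (4, 88, true), (7, 117, true), (6, 103, true), (5, 90, true), (6, 118, true), (5, 104, true), (5, 119, true), (6, 97, true), (5, 72, true), (4, 61, true), (3, 51, true), (2, 34, true), (1, 27, true), (2, 112, true), (1, 85, true), (3, 116, true), (2, 89, true), (4, 118, true), (5, 119, true), (4, 100, true), (3, 87, true), (2, 75, true), (5, 104, true), (5, 115, true), (4, 88, true), (3, 76, true), (6, 116, true), (5, 89, true), (4, 77, true), (5, 118, true), (6, 112, true), (5, 98, true), (4, 85, true), (3, 62, true), (2, 52, true), (1, 35, true), (2, 114, true), (1, 87, true), (3, 115, true), (2, 88, true), (4, 118, true), (5, 119, true), (4, 103, true), (3, 90, true), (3, 104, true), (3, 115, true), (2, 65,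 true), (2, 118, true), (3, 119, true)]),
  ([2, 2, 1], [(0, 5, true), (3, 79, true), (2, 67, true), (1, 56, true), (0, 46, true), (3, 115, true), (2, 76, true), (4, 116, true), (3, 77, true), (3, 117, true), (4, 116, true), (3, 89, true), (5, 118, true), (6, 119, true), (5, 103, true), (4, 90, true)], [(1, 4, true), (0, 4, true), (8, 107, true), (7, 93, true), (6, 68, true), (5, 38, true), (4, 23, true), (3, 17, true), (2, 12, true), (1, 5, true), (4, 82, true), (3, 70, true), (2, 59, true), (1, 49, true), (4, 88, true), (3, 76, true), (5, 90, true), (6, 116, true), (5, 102, true), (4, 77, true), (5, 117, true), (4, 103, true), (6, 111, true), (5, 97, true), (4, 84, true), (3, 61, true), (2, 51, true), (5, 115, true), (4, 101, true), (6, 117, true), (5, 103, true), (7, 118, true), (6, 104, true), (6, 119, true), (5, 85, true), (4, 62, true), (3, 52, true), (7, 117, true), (6, 103, true), (8, 113, true),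 (7, 99, true), (6, 86, true), (5, 63, true), (4, 53, true), (7, 115, true), (6, 101, true), (8, 117, true), (7, 103, true), (9, 118, true), (8, 104, true), (8, 119, true), (7, 87, true), (6, 64, true), (5, 54, true), (6, 88, true), (5, 65, true), (5, 89, true), (7, 110, true), (6, 83, true), (5, 71, true), (4, 41, true), (3, 33, true), (2, 26, true), (6, 98, true), (5, 85, true), (4, 73, true), (7, 103, true), (6, 90, true), (6, 104, true), (5, 74, true), (7, 89, true), (6, 77, true), (6, 90, true), (6, 111, true), (5, 42, true), (4, 34, true), (3, 27, true), (4, 112, true), (3, 85, true), (5, 116, true), (4, 89, true), (6, 118, true), (7, 119, true), (6, 99, true), (5, 86, true), (4, 74, true), (7, 103, true), (6, 90, true), (7, 112, true), (6, 98, true), (5, 73, true), (4, 43, true), (3, 35, true), (4, 113, true), (3, 86, true), (5, 118, true), (6, 119, true), (5, 102, true), (4, 89, true), (6, 104,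 true), (6, 113, true), (5, 86, true), (4, 74, true), (3, 44, true), (4, 116, true), (3, 102, true), (5, 117, true), (4, 103, true), (6, 119, true), (5, 103, true), (4, 90, true), (5, 111, true), (4, 97, true), (3, 72, true), (6, 114, true), (5, 100, true), (4, 75, true), (7, 117, true), (6, 103, true), (8, 118, true), (7, 104, true), (7, 113, true), (6, 86, true), (5, 74, true), (4, 53, true), (7, 116, true), (6, 102, true), (8, 117, true), (7, 103, true), (9, 119, true), (8, 101, true), (7, 88, true), (6, 76, true), (9, 102, true), (8, 89, true), (7, 77, true), (8, 102, true), (7, 89, true), (9, 104, true), (9, 118, true), (10, 119, true), (9, 95, true), (8, 82, true), (7, 70, true), (6, 59, true), (5, 49, true), (4, 40, true), (3, 25, true), (2, 19, true), (1, 14, true), (4, 97, true), (3, 84, true), (2, 72, true), (5, 99, true), (4, 86, true), (3, 74, true), (6, 102, true), (5, 89, true), (4, 77, true),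 (5, 103, true), (4, 90, true), (4, 100, true), (5, 102, true), (6, 103, true), (7, 101, true), (6, 88, true), (5, 76, true), (8, 103, true), (7, 90, true), (7, 104, true), (7, 116, true), (6, 77, true), (6, 117, true), (7, 118, true), (8, 110, true), (7, 96, true), (6, 83, true), (5, 60, true), (4, 50, true), (3, 41, true), (2, 26, true), (1, 20, true), (2, 97, true), (1, 84, true), (3, 102, true), (2, 89, true), (4, 103, true), (3, 90, true), (3, 104, true), (2, 74, true), (4, 87, true), (3, 75, true), (5, 89, true), (4, 77, true), (4, 90, true), (5, 115, true), (4, 101, true), (6, 117, true), (5, 103, true), (7, 118, true), (6, 104, true), (6, 119, true), (5, 90, true), (6, 111, true), (5, 97, true), (4, 61, true), (3, 51, true), (2, 42, true), (1, 27, true), (2, 113, true), (1, 86, true), (3, 117, true), (2, 90, true), (2, 114, true), (3, 118, true), (4, 119, true), (3, 101, true), (4, 104, true),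 (4, 113, true), (3, 63, true), (2, 53, true), (1, 44, true), (2, 114, true), (1, 100, true), (3, 118, true), (2, 104, true), (2, 119, true), (3, 116, true), (4, 118, true), (5, 119, true)]),
  ([2, 2, 2], [(0, 5, true), (3, 80, true), (2, 68, true), (1, 57, true), (0, 47, true), (5, 117, true), (4, 103, true), (6, 118, true), (5, 104, true), (5, 119, true)], [(1, 5, true)]),
  ([3, 0, 0], [(0, 6, true), (3, 55, true), (2, 45, true), (1, 6, true), (0, 0, true), (2, 81, true), (1, 39, true), (0, 24, true), (3, 99, true), (2, 63, true), (4, 102, true), (5, 103, true), (6, 100, true), (5, 87, true), (4, 75, true), (3, 64, true), (7, 101, true), (6, 88, true), (5, 76, true), (4, 65, true), (6, 100, true), (5, 87, true), (4, 75, true), (3, 54, true), (5, 101, true), (4, 88, true), (3, 76, true), (6, 102, true), (5, 89, true), (4, 77, true), (5, 103, true), (4, 90, true), (4, 104, true), (3, 65, true)], [(1,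 0, true)]),
  ([3, 1, 0], [(0, 7, true), (3, 78, true), (2, 28, true), (1, 6, true), (0, 1, true), (7, 69, true), (6, 58, true), (5, 48, true), (4, 31, true), (3, 24, true), (2, 13, true), (5, 51, true), (4, 42, true), (6, 87, true), (9, 115, true), (8, 101, true), (7, 88, true), (10, 118, true), (9, 104, true), (9, 112, true), (8, 85, true), (7, 62, true), (6, 52, true), (5, 43, true), (8, 114, true), (7, 100, true), (9, 115, true), (8, 101, true), (10, 118, true), (9, 104, true), (9, 119, true), (10, 117, true), (9, 90, true), (9, 119, true), (8, 64, true), (7, 54, true), (11, 115, true), (10, 101, true), (9, 88, true), (8, 76, true), (7, 65, true), (10, 117, true), (9, 103, true), (8, 90, true), (9, 118, true), (8, 104, true), (8, 119, true), (7, 77, true), (8, 114, true), (7, 100, true), (9, 115, true), (8, 101, true), (10, 112, true), (9, 98, true), (8, 62, true), (7, 52, true), (6, 43, true), (5,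 35, true), (6, 113, true), (5, 86, true), (7, 118, true), (8, 119, true), (7, 100, true), (6, 87, true), (8, 101, true), (7, 88, true), (9, 104, true), (9, 118, true), (10, 119, true), (9, 99, true), (8, 86, true), (7, 63, true), (6, 53, true), (5, 44, true), (6, 114, true), (5, 100, true), (7, 118, true), (6, 104, true), (6, 119, true), (8, 100, true), (7, 87, true), (6, 64, true), (5, 54, true), (7, 101, true), (6, 88, true), (5, 65, true), (6, 103, true), (5, 90, true), (6, 117, true), (5, 103, true)], [(1, 1, true), (0, 6, true), (3, 56, true), (2, 46, true), (1, 7, true), (4, 87, true), (5, 89, true), (7, 115, true), (6, 88, true), (5, 76, true), (8, 116, true), (7, 89, true), (6, 77, true), (7, 117, true), (6, 90, true), (6, 109, true), (5, 59, true), (4, 49, true), (3, 32, true), (7, 114, true), (6, 100, true), (5, 75, true), (8, 116, true), (7, 102, true), (6, 77, true), (7, 117, true), (6, 103,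 true), (8, 115, true), (7, 101, true), (6, 88, true), (9, 117, true), (8, 103, true), (7, 90, true), (8, 118, true), (7, 104, true), (7, 119, true), (7, 111, true), (6, 61, true), (5, 51, true), (4, 34, true), (8, 114, true), (7, 100, true), (6, 75, true), (9, 118, true), (8, 104, true), (8, 119, true), (7, 76, true), (9, 112, true), (8, 73, true), (7, 62, true), (6, 52, true), (5, 35, true), (6, 114, true), (5, 87, true), (7, 115, true), (6, 88, true), (8, 118, true), (9, 119, true), (8, 102, true), (7, 89, true), (10, 114, true), (9, 100, true), (8, 87, true), (7, 75, true), (6, 64, true), (5, 54, true), (9, 115, true), (8, 101, true), (7, 88, true), (6, 76, true), (5, 65, true), (8, 116, true), (7, 102, true), (6, 89, true), (5, 77, true)])]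

/-- a block of eqs -/
def twoEqs2 : List (Pair) := [
  ([3, 3, 0], [(0, 9, true), (2, 55, true), (1, 45, true), (0, 36, true), (3, 100, true), (2, 64, true), (4, 101, true), (3, 65, true), (3, 102, true), (4, 103, true), (5, 104, true), (4, 88, true), (3, 76, true), (5, 90, true)], [(1, 6, true), (0, 6, true), (3, 58, true), (2, 48, true), (1, 9, true), (3, 64, true), (2, 54, true), (6, 115, true), (5, 101, true), (4, 88, true), (3, 76, true), (2, 65, true), (5, 117, true), (4, 103, true), (3, 90, true), (4, 118, true), (3, 104, true), (3, 119, true), (2, 75, true), (3, 76, true)]),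
  ([3, 3, 1], [(0, 9, true), (2, 56, true), (1, 46, true), (0, 37, true), (3, 114, true), (2, 87, true), (4, 116, true), (3, 89, true), (5, 119, true), (4, 88, true), (3, 76, true), (5, 89, true), (4, 77, true), (4, 90, true)], [(1, 7, true), (0, 7, true), (3, 81, true), (2, 31, true), (1, 9, true), (3, 62, true), (2, 52, true), (1, 43, true), (4, 114, true), (3, 100, true), (5, 115, true), (4, 101, true), (6, 118, true), (5, 104, true), (5, 119, true), (6, 117, true), (5, 90, true), (5, 112, true), (4, 62, true), (3, 52, true), (2, 43, true), (1, 35, true), (2, 113, true), (1, 86, true), (3, 118, true), (4, 119, true), (3, 100, true), (2, 87, true), (4, 101, true), (3, 88, true), (5, 104, true), (5, 119, true), (4, 90, true)]),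
  ([3, 3, 2], [(0, 9, true), (2, 57, true), (1, 47, true), (0, 38, true), (3, 75, true), (2, 64, true), (4, 76, true), (3, 65, true)], [(1, 8, true), (0, 8, true), (7, 69, true), (6, 58, true), (5, 48, true), (4, 39, true), (3, 31, true), (2, 24, true), (1, 9, true), (3, 61, true), (2, 51, true), (1, 42, true), (3, 87, true), (6, 115, true), (5, 101, true), (4, 88, true), (7, 115, true), (6, 101, true), (5, 88, true), (4, 65, true), (6, 118, true), (5, 104, true), (5, 112, true), (4, 85, true), (3, 52, true), (2, 43, true), (5, 114, true), (4, 100, true), (6, 117, true), (5, 103, true), (7, 119, true), (6, 103, true), (5, 90, true), (6, 113, true), (5, 99, true), (4, 53, true), (3, 44, true), (4, 114, true), (3, 100, true), (5, 118, true), (4, 104, true), (4, 119, true), (5, 116, true), (4, 102, true), (6, 114, true), (5, 100, true), (4, 75, true), (3, 54, true), (5, 116, true), (4, 102, true), (3, 77,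 true), (4, 117, true), (3, 103, true), (5, 118, true), (4, 104, true), (4, 119, true), (3, 88, true), (4, 90, true), (5, 116, true), (4, 102, true), (6, 118, true), (5, 104, true), (5, 119, true), (4, 72, true), (3, 61, true), (2, 34, true), (1, 27, true), (2, 112, true), (1, 85, true), (3, 116, true), (2, 89, true), (4, 118, true), (5, 119, true), (4, 101, true), (3, 88, true), (2, 76, true), (5, 102, true), (4, 89, true), (3, 77, true), (4, 98, true), (3, 85, true), (2, 62, true), (1, 35, true), (2, 115, true), (1, 88, true), (3, 118, true), (4, 119, true), (3, 103, true), (2, 90, true), (2, 104, true), (1, 63, true), (2, 64, true), (3, 65, true)]),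
  ([3, 3, 3], [(0, 9, true), (2, 58, true), (1, 48, true), (0, 39, true), (2, 75, true), (3, 77, true), (5, 115, true), (4, 101, true), (3, 88, true), (6, 117, true), (5, 103, true), (4, 90, true), (5, 118, true), (4, 104, true), (4, 119, true)], [(1, 9, true)]),
  ([4, 0, 0], [(0, 10, true), (4, 91, true), (3, 45, true), (2, 36, true), (1, 10, true), (0, 0, true), (2, 82, true), (1, 40, true), (0, 25, true), (4, 90, true), (3, 74, true), (2, 44, true), (3, 116, true), (2, 102, true), (4, 114, true), (3, 100, true), (2, 75, true), (5, 118, true), (4, 104, true), (4, 113, true), (3, 74, true), (2, 53, true), (5, 116, true), (4, 102, true), (6, 119, true), (5, 101, true), (4, 76, true), (6, 104, true), (5, 75, true), (4, 64, true), (3, 54, true), (4, 76, true), (3, 65, true), (3, 77, true), (4, 104, true)], [(1, 0, true)]),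
  ([4, 3, 1], [(0, 13, true), (3, 46, true), (2, 37, true), (1, 11, true), (0, 7, true), (3, 82, true), (2, 32, true), (6, 117, true), (5, 103, true), (7, 113, true), (6, 99, true), (5, 86, true), (4, 74, true), (8, 114, true), (7, 100, true), (6, 87, true), (5, 75, true), (9, 117, true), (8, 103, true), (7, 90, true), (8, 119, true), (7, 99, true), (6, 74, true), (5, 53, true), (4, 44, true), (5, 114, true), (4, 100, true), (6, 118, true), (5, 104, true), (5, 119, true), (6, 103, true), (8, 114, true), (7, 100, true), (6, 87, true), (5, 75, true), (4, 54, true), (7, 116, true), (6, 102, true), (5, 89, true), (4, 77, true), (6, 119, true)], [(1, 7, true), (0, 11, true), (5, 108, true), (4, 81, true), (3, 48, true), (2, 39, true), (1, 13, true), (4, 53, true), (3, 44, true), (4, 114, true), (3, 100, true), (5, 118, true), (4, 104, true), (4, 119, true), (4, 75, true), (3, 54, true), (3, 77, true), (5,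 117, true), (4, 103, true), (3, 90, true), (4, 119, true), (3, 98, true), (4, 103, true)])]

/-- a block of eqs -/
def twoEqs3 : List (Pair) := [
  ([4, 4, 3], [(0, 14, true)], [(1, 13, true), (0, 13, true), (3, 49, true), (2, 40, true), (1, 14, true), (3, 87, true), (2, 75, true), (4, 89, true), (3, 77, true), (3, 90, true), (2, 53, true), (1, 44, true), (2, 114, true), (1, 100, true), (3, 118, true), (2, 104, true), (2, 119, true), (1, 54, true)]),
  ([5, 1, 1], [(0, 16, true), (6, 106, true), (5, 92, true), (4, 79, true), (3, 56, true), (2, 37, true), (1, 16, true), (0, 2, true), (3, 60, true), (2, 50, true), (1, 41, true), (0, 33, true), (3, 99, true), (2, 86, true), (4, 103, true), (3, 90, true), (3, 100, true), (4, 102, true), (5, 103, true), (6, 104, true), (6, 115, true), (5, 88, true), (4, 76, true), (7, 117, true), (6, 90, true), (6, 118, true), (7, 119, true), (6, 99, true), (5, 74, true),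 (4, 63, true), (3, 53, true), (2, 44, true), (3, 114, true), (2, 100, true), (4, 118, true), (3, 104, true), (3, 119, true), (5, 101, true), (4, 76, true), (3, 65, true), (4, 103, true), (5, 104, true), (5, 113, true), (4, 86, true), (3, 74, true), (2, 53, true), (5, 116, true), (4, 102, true), (6, 117, true), (5, 103, true), (7, 119, true), (6, 103, true), (5, 90, true), (6, 115, true), (5, 101, true), (4, 76, true), (7, 116, true), (6, 102, true), (5, 77, true), (6, 117, true), (5, 103, true), (7, 117, true), (6, 103, true), (5, 90, true), (6, 118, true), (5, 104, true), (5, 119, true)], [(1, 2, true)]),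
  ([5, 2, 0], [(0, 17, true), (6, 105, true), (5, 78, true), (4, 36, true), (3, 28, true), (2, 21, true), (1, 15, true), (0, 3, true), (8, 110, true), (7, 96, true), (6, 60, true), (5, 33, true), (4, 26, true), (8, 98, true), (7, 85, true), (6, 73, true), (9, 103, true), (8, 90, true), (8, 104, true), (7, 76, true), (11, 118, true), (10, 104, true), (10, 119, true), (9, 84, true), (8, 72, true), (7, 61, true), (6, 34, true), (5, 27, true), (6, 112, true), (5, 85, true), (7, 116, true), (6, 89, true), (8, 118, true), (9, 119, true), (8, 101, true), (7, 88, true), (6, 76, true), (9, 102, true), (8, 89, true), (7, 77, true), (8, 103, true), (7, 90, true), (7, 100, true), (6, 64, true), (8, 101, true), (7, 65, true), (7, 102, true), (8, 103, true), (9, 104, true), (9, 111, true), (8, 84, true), (7, 72, true), (6, 51, true), (5, 34, true), (9, 114, true), (8, 100, true), (7, 75, true), (10, 118, true), (9,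 104, true), (9, 119, true), (8, 77, true), (9, 115, true), (8, 88, true), (10, 118, true), (11, 112, true), (10, 98, true), (9, 85, true), (8, 62, true), (7, 52, true), (6, 35, true), (7, 114, true), (6, 87, true), (8, 115, true), (7, 88, true), (9, 118, true), (10, 119, true), (9, 103, true), (8, 90, true), (8, 104, true), (8, 113, true), (7, 63, true), (6, 53, true), (9, 115, true), (8, 101, true), (10, 119, true), (9, 100, true), (8, 64, true), (7, 54, true), (8, 101, true), (7, 65, true), (7, 103, true), (9, 113, true), (8, 99, true), (7, 86, true), (6, 44, true), (7, 117, true), (6, 103, true), (8, 118, true), (7, 104, true), (7, 119, true), (6, 88, true), (8, 103, true), (7, 90, true)], [(1, 3, true), (0, 15, true), (8, 107, true), (7, 93, true), (6, 80, true), (5, 68, true), (4, 57, true), (3, 47, true), (2, 23, true), (1, 17, true), (7, 111, true), (6, 84, true), (5, 42, true), (4, 34, true),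 (3, 27, true), (4, 112, true), (3, 85, true), (5, 116, true), (4, 89, true), (6, 118, true), (7, 119, true), (6, 99, true), (5, 86, true), (4, 74, true), (7, 103, true), (6, 90, true), (6, 103, true), (8, 114, true), (7, 100, true), (6, 87, true), (5, 75, true), (9, 117, true), (8, 103, true), (7, 90, true), (8, 118, true), (7, 104, true), (7, 114, true), (6, 75, true), (5, 54, true), (6, 115, true), (5, 76, true), (7, 116, true), (6, 77, true), (6, 118, true), (7, 119, true), (6, 103, true), (7, 104, true), (7, 118, true), (8, 119, true), (7, 94, true), (6, 81, true), (5, 58, true), (4, 39, true), (3, 31, true), (2, 18, true), (6, 85, true), (5, 62, true), (4, 43, true), (7, 115, true), (6, 101, true), (8, 118, true), (7, 104, true), (7, 119, true), (7, 90, true), (7, 113, true), (6, 63, true), (5, 44, true), (6, 115, true), (5, 101, true), (7, 119, true), (6, 102, true), (7, 101, true), (6, 76, true),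 (5, 65, true), (6, 103, true), (7, 104, true), (7, 117, true), (6, 90, true), (6, 118, true), (7, 109, true), (6, 95, true), (5, 70, true), (4, 32, true), (3, 19, true), (7, 98, true), (6, 85, true), (5, 73, true), (8, 102, true), (7, 89, true), (6, 77, true), (7, 104, true), (7, 116, true), (6, 89, true), (8, 118, true), (9, 119, true), (8, 97, true), (7, 84, true), (6, 72, true), (5, 34, true), (9, 116, true), (8, 102, true), (7, 77, true), (8, 117, true), (7, 103, true), (9, 118, true), (8, 104, true), (8, 112, true), (7, 85, true), (6, 35, true), (7, 117, true), (6, 90, true), (6, 119, true)]),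
  ([5, 2, 1], [(0, 17, true), (6, 106, true), (5, 79, true), (4, 37, true), (3, 29, true), (2, 22, true), (1, 16, true), (0, 4, true), (8, 110, true), (7, 96, true), (6, 71, true), (5, 41, true), (4, 26, true), (3, 20, true), (4, 97, true), (3, 84, true), (5, 102, true), (4, 89, true), (6, 103, true), (5, 90, true), (5, 104, true), (4, 74, true), (6, 89, true), (5, 77, true), (7, 113, true), (6, 99, true), (5, 86, true), (4, 44, true), (5, 117, true), (4, 103, true), (6, 118, true), (5, 104, true), (5, 119, true), (4, 88, true), (5, 90, true), (6, 111, true), (5, 97, true), (4, 61, true), (3, 27, true), (4, 115, true), (3, 88, true), (5, 118, true), (6, 119, true), (5, 101, true), (4, 88, true), (3, 65, true), (4, 104, true), (3, 85, true), (4, 86, true), (5, 90, true), (5, 117, true), (6, 119, true)], [(1, 4, true), (0, 16, true), (6, 107, true), (5, 93, true), (4, 80, true), (3, 57, true), (2, 38, true),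 (1, 17, true), (7, 113, true), (6, 86, true), (5, 44, true), (6, 117, true), (5, 103, true), (7, 119, true), (6, 101, true), (5, 88, true), (7, 102, true), (6, 89, true), (8, 101, true), (7, 88, true), (6, 76, true), (5, 65, true), (7, 103, true), (6, 90, true), (6, 104, true), (6, 118, true), (7, 119, true), (6, 95, true), (5, 70, true), (4, 32, true), (3, 25, true), (2, 19, true), (6, 97, true), (5, 84, true), (4, 72, true), (7, 98, true), (6, 85, true), (5, 73, true), (8, 102, true), (7, 89, true), (6, 77, true), (7, 104, true), (7, 116, true), (6, 89, true), (8, 118, true), (9, 110, true), (8, 96, true), (7, 83, true), (6, 71, true), (5, 33, true), (4, 26, true), (3, 20, true), (4, 97, true), (3, 84, true), (5, 102, true), (4, 89, true), (6, 103, true), (5, 90, true), (5, 104, true), (4, 73, true), (7, 102, true), (6, 89, true), (5, 77, true), (6, 103, true), (5, 90, true), (5, 104, true), (5, 111,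 true), (4, 34, true), (3, 27, true), (4, 112, true), (3, 85, true), (5, 116, true), (4, 89, true), (6, 118, true), (7, 119, true), (7, 113, true), (6, 99, true), (5, 86, true), (4, 74, true), (8, 116, true), (7, 102, true), (6, 89, true), (5, 77, true), (7, 118, true), (6, 104, true), (6, 119, true)]),
  ([5, 2, 2], [(0, 17, true), (6, 107, true), (5, 80, true), (4, 38, true), (3, 30, true), (2, 23, true), (1, 17, true), (0, 5, true), (3, 83, true), (2, 71, true), (1, 60, true), (0, 50, true), (5, 115, true), (4, 101, true), (3, 88, true), (2, 76, true), (6, 117, true), (5, 103, true), (4, 90, true), (5, 118, true), (4, 104, true), (4, 119, true), (3, 77, true), (3, 84, true), (2, 61, true), (1, 51, true), (4, 115, true), (3, 101, true), (5, 117, true), (4, 103, true), (6, 112, true), (5, 98, true), (4, 85, true), (3, 62, true), (2, 52, true), (6, 117, true), (5, 103, true), (7, 118, true), (6, 104, true),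 (6, 119, true), (5, 86, true), (4, 63, true), (3, 53, true), (6, 115, true), (5, 101, true), (7, 117, true), (6, 103, true), (8, 117, true), (7, 103, true), (6, 90, true), (7, 119, true), (6, 97, true), (5, 61, true), (4, 51, true), (3, 42, true), (2, 34, true), (1, 27, true), (2, 112, true), (1, 85, true), (3, 116, true), (2, 89, true), (4, 118, true), (5, 119, true), (4, 99, true), (3, 86, true), (2, 74, true), (5, 103, true), (4, 90, true), (4, 100, true), (3, 75, true), (5, 104, true), (5, 115, true), (4, 76, true), (6, 118, true), (7, 114, true), (6, 100, true), (5, 75, true), (4, 64, true), (3, 54, true), (6, 117, true), (5, 103, true), (7, 118, true), (6, 104, true), (6, 112, true), (5, 85, true), (4, 73, true), (3, 62, true), (2, 43, true), (1, 35, true), (2, 113, true), (1, 86, true), (3, 118, true), (4, 119, true), (3, 101, true), (2, 88, true), (4, 104, true), (4, 116, true), (3, 89, true),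 (5, 117, true), (4, 90, true), (4, 119, true), (3, 75, true), (2, 64, true), (4, 76, true), (3, 65, true), (3, 77, true), (3, 99, true), (2, 53, true), (1, 44, true), (2, 114, true), (1, 100, true), (3, 118, true), (2, 104, true), (2, 119, true), (2, 101, true), (3, 102, true), (4, 103, true), (5, 104, true), (5, 119, true)], [(1, 5, true)]),
  ([5, 5, 0], [(0, 20, true), (1, 91, true), (0, 78, true)], [(1, 15, true), (0, 15, true), (8, 110, true), (7, 96, true), (6, 83, true), (5, 71, true), (4, 60, true), (3, 50, true), (2, 26, true), (1, 20, true), (2, 97, true), (1, 84, true), (3, 102, true), (2, 89, true), (4, 103, true), (3, 90, true), (3, 104, true), (2, 75, true), (3, 77, true), (5, 115, true), (4, 101, true), (3, 88, true), (6, 117, true), (5, 103, true), (4, 90, true), (5, 118, true), (4, 104, true), (4, 119, true), (7, 111, true), (6, 97, true), (5, 84, true), (4, 72, true), (3, 61, true),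 (2, 51, true), (1, 27, true), (2, 114, true), (1, 87, true), (3, 118, true), (4, 119, true), (3, 101, true), (2, 88, true), (4, 102, true), (3, 89, true), (5, 103, true), (4, 90, true), (4, 104, true), (4, 114, true), (3, 75, true), (2, 64, true), (1, 54, true), (3, 115, true), (2, 76, true), (1, 65, true), (2, 116, true), (1, 77, true), (1, 117, true), (2, 118, true), (3, 119, true)])]

/-- a block of eqs -/
def twoEqs4 : List (Pair) := [
  ([5, 5, 2], [(0, 20, true), (1, 93, true), (0, 80, true), (3, 118, true), (2, 104, true)], [(1, 17, true), (0, 17, true), (6, 110, true), (5, 83, true), (4, 41, true), (3, 33, true), (2, 26, true), (1, 20, true), (2, 97, true), (1, 84, true), (3, 102, true), (2, 89, true), (4, 103, true), (3, 90, true), (3, 104, true), (2, 73, true), (5, 99, true), (4, 86, true), (3, 74, true), (6, 103, true), (5, 90, true), (5, 103, true), (7, 111, true), (6, 97, true), (5, 84, true),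 (4, 72, true), (3, 42, true), (2, 34, true), (1, 27, true), (2, 112, true), (1, 85, true), (3, 116, true), (2, 89, true), (4, 118, true), (5, 119, true), (4, 99, true), (3, 86, true), (2, 74, true), (5, 103, true), (4, 90, true), (4, 102, true), (3, 77, true), (3, 103, true), (4, 104, true), (4, 112, true), (3, 85, true), (2, 43, true), (1, 35, true), (2, 113, true), (1, 86, true), (3, 118, true), (4, 119, true), (3, 103, true), (2, 90, true), (3, 113, true), (2, 99, true), (1, 44, true), (2, 118, true), (1, 104, true), (1, 119, true)]),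
  ([5, 5, 3], [(0, 20, true), (1, 94, true), (0, 81, true)], [(1, 18, true), (0, 18, true), (4, 83, true), (3, 60, true), (2, 41, true), (1, 20, true), (2, 99, true), (1, 86, true), (3, 103, true), (2, 90, true), (2, 101, true), (3, 103, true), (4, 104, true), (4, 117, true), (3, 90, true), (3, 113, true), (2, 63, true), (1, 44, true), (2, 115, true), (1, 101, true), (3, 119, true), (2, 101, true), (1, 65, true), (1, 103, true)]),
  ([5, 5, 4], [(0, 20, true), (1, 95, true), (0, 82, true)], [(1, 19, true), (0, 19, true), (4, 96, true), (3, 83, true), (2, 71, true), (1, 20, true), (2, 102, true), (1, 89, true), (3, 103, true), (2, 90, true), (2, 104, true), (1, 77, true)]),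
  ([5, 5, 5], [(0, 20, true), (1, 96, true), (0, 83, true)], [(1, 20, true)]),
  ([6, 1, 1], [(0, 22, true), (3, 92, true), (2, 56, true), (1, 22, true), (0, 2, true), (3, 61, true), (2, 51, true), (1, 42, true), (0, 34, true), (4, 113, true), (3, 99, true), (2, 74, true), (5, 117, true), (4, 103, true), (6, 114, true), (5, 100, true), (4, 87, true), (3, 75, true), (7, 118, true), (6, 104, true), (6, 119, true), (5, 88, true), (4, 76, true), (6, 88, true), (5, 76, true), (4, 65, true), (6, 101, true), (5, 88, true), (4, 76, true), (7, 102, true), (6, 89, true), (5, 77, true), (6, 103, true), (5, 90, true), (5, 104, true)], [(1, 2, true)]),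
  ([6, 2, 1], [(0, 23, true), (4, 92, true), (3, 79, true), (2, 46, true), (1, 22, true), (0, 4, true), (8, 111, true), (7, 97, true), (6, 72, true), (5, 42, true), (4, 27, true), (5, 113, true), (4, 86, true), (6, 117, true), (5, 90, true), (5, 116, true), (6, 118, true), (7, 119, true), (6, 101, true), (5, 76, true), (7, 104, true), (6, 75, true), (5, 64, true), (7, 77, true), (7, 117, true), (8, 118, true)], [(1, 4, true), (0, 22, true), (3, 93, true), (2, 57, true), (1, 23, true), (5, 101, true), (4, 88, true), (6, 104, true), (5, 82, true), (4, 59, true), (3, 49, true), (2, 25, true), (6, 88, true), (5, 76, true), (7, 90, true), (8, 117, true), (7, 103, true), (9, 110, true), (8, 96, true), (7, 83, true), (6, 71, true), (5, 60, true), (4, 50, true), (3, 26, true), (7, 100, true), (6, 87, true), (5, 75, true), (8, 102, true), (7, 89, true), (6, 77, true), (7, 103, true), (6, 90, true), (6, 104, true),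 (6, 115, true), (7, 117, true), (8, 118, true), (9, 119, true), (8, 102, true), (7, 89, true), (9, 103, true), (8, 90, true), (8, 104, true), (8, 111, true), (7, 72, true), (6, 61, true), (5, 51, true), (4, 27, true), (5, 114, true), (4, 87, true), (6, 118, true), (7, 119, true), (6, 101, true), (5, 88, true), (7, 102, true), (6, 89, true), (9, 113, true), (8, 99, true), (7, 86, true), (6, 74, true), (5, 63, true), (4, 53, true), (7, 115, true), (6, 101, true), (8, 116, true), (7, 102, true), (9, 117, true), (8, 103, true), (10, 118, true), (9, 104, true), (9, 119, true), (8, 89, true), (7, 77, true)])]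

/-- a block of eqs -/
def twoEqs5 : List (Pair) := [
  ([6, 3, 3], [(0, 24, true), (3, 94, true), (2, 58, true), (1, 24, true), (0, 9, true), (2, 61, true), (1, 51, true), (0, 42, true), (2, 87, true), (5, 115, true), (4, 101, true), (3, 88, true), (6, 115, true), (5, 101, true), (4, 88, true), (3, 65, true), (5, 118, true), (4, 104, true), (4, 115, true), (3, 88, true), (5, 117, true), (4, 90, true), (4, 118, true), (5, 119, true), (4, 104, true)], [(1, 9, true)]),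
  ([6, 4, 3], [(0, 25, true), (1, 24, true), (0, 13, true), (3, 51, true), (2, 42, true), (4, 87, true), (7, 115, true), (6, 101, true), (5, 88, true), (8, 118, true), (7, 104, true)], [(1, 13, true), (0, 24, true), (3, 95, true), (2, 59, true), (1, 25, true), (6, 118, true), (5, 104, true), (5, 113, true), (4, 86, true), (3, 63, true), (6, 114, true), (5, 87, true), (4, 64, true)]),
  ([6, 5, 3], [(0, 26, true), (4, 94, true), (3, 81, true), (2, 69, true), (1, 24, true), (0, 18, true), (4, 84, true), (3, 61, true), (2, 42, true), (4, 88, true), (5, 90, true), (4, 65, true), (4, 102, true), (5, 104, true), (5, 117, true), (6, 118, true)], [(1, 18, true), (0, 24, true), (3, 96, true), (2, 60, true), (1, 26, true), (5, 101, true), (4, 88, true), (3, 76, true), (6, 103, true), (5, 90, true), (5, 104, true), (5, 118, true), (6, 113, true), (5, 99, true), (4, 74, true), (3, 63, true), (7, 115, true), (6, 101,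 true), (5, 76, true), (4, 65, true), (6, 117, true), (5, 103, true)]),
  ([6, 6, 0], [(0, 27, true), (1, 105, true), (0, 78, true)], [(1, 21, true), (0, 21, true), (3, 97, true), (2, 61, true), (1, 27, true), (2, 115, true), (1, 88, true), (3, 118, true), (4, 115, true), (3, 101, true), (2, 88, true), (1, 65, true), (3, 118, true), (2, 104, true)]),
  ([6, 6, 1], [(0, 27, true), (1, 106, true), (0, 79, true)], [(1, 22, true), (0, 22, true), (3, 97, true), (2, 61, true), (1, 27, true), (2, 115, true), (1, 88, true), (3, 118, true), (4, 115, true), (3, 101, true), (2, 88, true), (1, 65, true), (3, 118, true), (2, 104, true)]),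
  ([6, 6, 2], [(0, 27, true), (1, 107, true), (0, 80, true), (3, 119, true)], [(1, 23, true), (0, 23, true), (4, 97, true), (3, 84, true), (2, 51, true), (1, 27, true), (2, 114, true), (1, 87, true), (3, 118, true), (4, 119, true), (3, 103, true), (2, 90, true), (2, 104, true), (1, 54, true)])]

/-- a block of eqs -/
def twoEqs6 : List (Pair) := [
  ([6, 6, 4], [(0, 27, true), (1, 109, true), (0, 82, true)], [(1, 25, true), (0, 25, true), (1, 27, true)]),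
  ([6, 6, 6], [(0, 27, true), (1, 111, true), (0, 84, true)], [(1, 27, true)]),
  ([7, 0, 0], [(0, 28, true), (6, 105, true), (5, 78, true), (4, 55, true), (3, 45, true), (2, 36, true), (1, 28, true), (0, 0, true), (2, 85, true), (1, 43, true), (4, 117, true), (3, 103, true), (5, 113, true), (4, 99, true), (3, 86, true), (2, 44, true), (3, 117, true), (2, 103, true), (4, 118, true), (3, 104, true), (3, 119, true), (2, 87, true), (3, 88, true), (4, 90, true), (4, 113, true), (3, 63, true), (2, 53, true), (5, 115, true), (4, 101, true), (6, 119, true), (5, 101, true), (4, 65, true), (4, 104, true), (3, 54, true), (6, 101, true), (5, 88, true), (4, 76, true), (3, 65, true), (5, 103, true), (4, 90, true), (4, 103, true)], [(1, 0, true), (0, 34, true), (4, 113, true), (3, 99, true), (2, 74, true), (5, 117, true), (4, 103, true)]),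
  ([7, 3, 3], [(0, 31, true), (3, 108, true), (2, 81, true), (1, 31, true), (0, 9, true), (2, 62, true), (1, 52, true), (0, 43, true), (3, 114, true), (2, 100, true), (4, 115, true), (3, 101, true), (5, 118, true), (4, 104, true), (4, 119, true), (5, 117, true), (4, 90, true), (4, 119, true)], [(1, 9, true)]),
  ([7, 6, 1], [(0, 34, true), (4, 106, true), (3, 92, true), (2, 67, true), (1, 29, true), (0, 22, true), (3, 98, true), (2, 62, true), (5, 118, true), (4, 104, true), (4, 116, true), (5, 118, true), (6, 119, true), (5, 104, true)], [(1, 22, true), (0, 29, true), (1, 34, true), (5, 115, true), (4, 101, true), (3, 76, true), (6, 118, true), (5, 104, true)]),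
  ([7, 6, 2], [(0, 34, true), (4, 107, true), (3, 93, true), (2, 68, true), (1, 30, true), (0, 23, true), (4, 98, true), (3, 85, true), (2, 52, true), (5, 100, true), (4, 87, true), (3, 54, true), (4, 101, true), (3, 88, true), (5, 102, true), (4, 89, true), (6, 104, true), (5, 89, true), (4, 77, true), (6, 118, true), (5, 104, true), (5, 119, true)], [(1, 23, true), (0, 30, true), (5, 97, true), (4, 72, true), (3, 61, true), (2, 51, true), (1, 34, true), (5, 114, true), (4, 100, true), (3, 75, true), (6, 118, true), (5, 104, true), (5, 119, true), (4, 76, true), (5, 77, true), (5, 100, true), (4, 64, true), (3, 54, true), (4, 103, true), (5, 104, true)])]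

/-- a block of eqs -/
def twoEqs7 : List (Pair) := [
  ([7, 7, 0], [(0, 35, true), (1, 105, true), (0, 78, true)], [(1, 28, true), (0, 28, true), (6, 112, true), (5, 85, true), (4, 62, true), (3, 52, true), (2, 43, true), (1, 35, true), (2, 113, true), (1, 86, true), (3, 118, true), (4, 119, true), (3, 100, true), (2, 87, true), (4, 101, true), (3, 88, true), (5, 104, true), (5, 117, true), (4, 90, true), (4, 119, true), (3, 63, true), (2, 53, true), (1, 44, true), (2, 114, true), (1, 100, true), (3, 118, true), (2, 104, true), (2, 119, true), (2, 64, true), (1, 54, true), (1, 65, true)]),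
  ([7, 7, 1], [(0, 35, true), (1, 106, true), (0, 79, true)], [(1, 29, true), (0, 29, true), (1, 35, true)]),
  ([7, 7, 2], [(0, 35, true), (1, 107, true), (0, 80, true), (3, 119, true)], [(1, 30, true), (0, 30, true), (5, 98, true), (4, 73, true), (3, 62, true), (2, 52, true), (1, 35, true), (2, 114, true), (1, 87, true), (3, 115, true), (2, 88, true), (4, 118, true), (5, 119, true), (4, 102, true), (3, 89, true), (5, 104, true), (4, 87, true), (3, 75, true), (2, 64, true), (1, 54, true), (3, 88, true), (2, 76, true), (1, 65, true), (2, 89, true), (1, 77, true)]),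
  ([7, 7, 3], [(0, 35, true), (1, 108, true), (0, 81, true)], [(1, 31, true), (0, 31, true), (3, 112, true), (2, 85, true), (1, 35, true), (2, 117, true), (1, 90, true), (1, 119, true)]),
  ([7, 7, 7], [(0, 35, true), (1, 112, true), (0, 85, true)], [(1, 35, true)]),
  ([8, 0, 0], [(0, 36, true), (3, 91, true), (2, 55, true), (1, 36, true), (0, 0, true), (2, 86, true), (1, 44, true), (2, 117, true), (1, 103, true), (3, 115, true), (2, 101, true), (1, 88, true), (4, 118, true), (3, 104, true), (3, 115, true), (2, 88, true), (1, 65, true), (2, 117, true), (1, 90, true), (1, 118, true)], [(1, 0, true), (0, 42, true), (2, 86, true), (1, 44, true), (2, 117, true), (1, 103, true), (3, 117, true), (2, 103, true), (1, 90, true)])]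

/-- a block of eqs -/
def twoEqs8 : List (Pair) := [
  ([8, 2, 0], [(0, 38, true), (3, 66, true), (2, 55, true), (1, 36, true), (0, 3, true), (8, 113, true), (7, 99, true), (6, 63, true), (9, 115, true), (8, 101, true), (7, 65, true), (8, 118, true), (7, 104, true), (7, 115, true), (8, 117, true), (9, 116, true), (8, 89, true), (10, 117, true), (9, 90, true)], [(1, 3, true), (0, 36, true), (3, 93, true), (2, 57, true), (1, 38, true), (4, 76, true), (3, 65, true), (4, 94, true), (3, 69, true), (2, 39, true), (4, 77, true), (5, 118, true), (4, 104, true), (4, 109, true), (3, 40, true), (7, 111, true), (6, 84, true), (5, 72, true), (4, 42, true), (6, 89, true), (7, 90, true), (7, 112, true), (6, 73, true), (5, 43, true), (8, 116, true), (7, 102, true), (9, 119, true), (8, 101, true), (7, 76, true), (9, 104, true)]),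
  ([8, 2, 2], [(0, 38, true), (3, 68, true), (2, 57, true), (1, 38, true), (0, 5, true), (3, 86, true), (2, 74, true), (1, 63, true), (0, 53, true), (3, 115, true), (2, 101, true), (4, 116, true), (3, 102, true), (5, 117, true), (4, 103, true), (6, 115, true), (5, 101, true), (4, 88, true), (3, 76, true), (2, 65, true), (5, 116, true), (4, 102, true), (3, 89, true), (2, 77, true), (4, 115, true), (3, 101, true), (2, 88, true), (5, 116, true), (4, 102, true), (3, 89, true), (6, 118, true), (5, 104, true), (5, 119, true)], [(1, 5, true)]),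
  ([8, 3, 1], [(0, 39, true), (2, 67, true), (1, 37, true), (0, 7, true), (3, 86, true), (4, 90, true), (4, 116, true), (5, 118, true), (6, 119, true)], [(1, 7, true), (0, 37, true), (3, 108, true), (2, 81, true), (1, 39, true), (5, 112, true), (4, 85, true), (3, 73, true), (2, 43, true), (5, 116, true), (4, 102, true), (6, 117, true), (5, 103, true), (7, 119, true), (6, 103, true), (5, 90, true)]),
  ([8, 3, 3], [(0, 39, true), (2, 69, true), (1, 39, true), (0, 9, true), (2, 63, true), (1, 53, true), (0, 44, true), (1, 114, true), (0, 100, true), (2, 118, true), (1, 104, true), (1, 119, true), (2, 77, true)], [(1, 9, true), (0, 44, true), (1, 114, true), (0, 100, true), (2, 115, true), (1, 101, true)]),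
  ([8, 4, 4], [(0, 40, true), (3, 82, true), (2, 70, true), (1, 40, true), (0, 14, true), (2, 89, true), (1, 77, true), (1, 90, true)], [(1, 14, true)]),
  ([8, 5, 5], [(0, 41, true), (2, 83, true), (1, 41, true), (0, 20, true), (1, 99, true), (0, 86, true), (2, 103, true), (1, 90, true), (1, 103, true)], [(1, 20, true)])]

/-- a block of eqs -/
def twoEqs9 : List (Pair) := [
  ([8, 6, 1], [(0, 42, true), (2, 79, true), (1, 37, true), (0, 22, true), (3, 99, true), (2, 63, true), (4, 103, true), (6, 117, true), (5, 103, true), (4, 90, true)], [(1, 22, true), (0, 37, true), (3, 111, true), (2, 84, true), (1, 42, true), (3, 90, true), (3, 115, true), (4, 118, true)]),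
  ([8, 6, 2], [(0, 42, true), (2, 80, true), (1, 38, true), (0, 23, true), (4, 99, true), (3, 86, true), (2, 53, true), (5, 117, true), (4, 103, true), (6, 118, true), (5, 104, true), (5, 115, true), (4, 88, true), (6, 116, true), (5, 89, true), (7, 117, true), (6, 90, true), (6, 118, true), (7, 119, true)], [(1, 23, true), (0, 38, true), (3, 72, true), (2, 61, true), (1, 42, true), (3, 88, true), (4, 89, true), (5, 87, true), (4, 75, true), (3, 64, true), (6, 90, true)]),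
  ([8, 6, 3], [(0, 42, true), (2, 81, true), (1, 39, true), (0, 24, true), (3, 99, true), (2, 63, true), (4, 102, true), (5, 103, true)], [(1, 24, true), (0, 39, true), (2, 72, true), (1, 42, true), (3, 89, true), (4, 88, true), (3, 76, true)]),
  ([8, 6, 4], [(0, 42, true), (2, 82, true), (1, 40, true), (0, 25, true), (4, 90, true)], [(1, 25, true), (0, 40, true), (3, 84, true), (2, 72, true), (1, 42, true), (3, 89, true), (4, 90, true)]),
  ([8, 8, 0], [(0, 44, true), (1, 105, true), (0, 91, true)], [(1, 36, true), (0, 36, true), (3, 99, true), (2, 63, true), (1, 44, true), (2, 115, true), (1, 101, true), (3, 118, true), (2, 104, true), (2, 115, true), (1, 65, true), (1, 118, true)]),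
  ([8, 8, 1], [(0, 44, true), (1, 106, true), (0, 92, true)], [(1, 37, true), (0, 37, true), (3, 113, true), (2, 86, true), (1, 44, true), (2, 117, true), (1, 103, true), (3, 119, true), (2, 103, true), (1, 90, true)])]

/-- a block of eqs -/
def twoEqs10 : List (Pair) := [
  ([8, 8, 3], [(0, 44, true), (1, 108, true), (0, 94, true)], [(1, 39, true), (0, 39, true), (2, 74, true), (1, 44, true), (2, 116, true), (1, 102, true), (3, 116, true), (2, 102, true), (1, 77, true)]),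
  ([8, 8, 5], [(0, 44, true), (1, 110, true), (0, 96, true)], [(1, 41, true), (0, 41, true), (2, 86, true), (1, 44, true), (2, 117, true), (1, 103, true), (3, 117, true), (2, 103, true), (1, 90, true)]),
  ([8, 8, 8], [(0, 44, true), (1, 113, true), (0, 99, true)], [(1, 44, true)]),
  ([9, 0, 0], [(0, 45, true), (5, 91, true), (4, 78, true), (3, 66, true), (2, 55, true), (1, 45, true), (0, 0, true), (2, 87, true), (3, 88, true), (4, 89, true), (5, 90, true), (5, 101, true), (4, 76, true), (3, 65, true), (4, 103, true), (5, 102, true), (4, 89, true), (3, 77, true), (4, 103, true), (3, 90, true), (3, 103, true), (4, 104, true)], [(1, 0, true), (0, 51, true), (3, 113, true), (2, 99, true), (1, 53, true), (4, 118, true), (3, 104, true), (3, 119, true)]),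
  ([9, 1, 1], [(0, 46, true), (3, 106, true), (2, 67, true), (1, 46, true), (0, 2, true), (3, 64, true), (2, 54, true), (4, 116, true), (3, 77, true), (3, 118, true), (4, 119, true)], [(1, 2, true), (0, 52, true), (1, 53, true), (4, 114, true), (3, 100, true), (2, 54, true), (3, 115, true), (2, 101, true)]),
  ([9, 2, 1], [(0, 47, true), (1, 46, true), (0, 4, true), (8, 114, true), (7, 100, true), (6, 75, true), (9, 116, true), (8, 102, true), (7, 77, true), (8, 119, true)], [(1, 4, true), (0, 46, true), (3, 107, true), (2, 68, true), (1, 47, true), (5, 119, true), (4, 95, true), (3, 70, true), (2, 49, true), (5, 89, true), (4, 77, true), (5, 96, true), (4, 83, true), (3, 50, true), (8, 117, true), (7, 103, true), (6, 90, true), (7, 118, true), (6, 104, true), (6, 111, true), (5, 72, true), (4, 51, true), (7, 116, true), (6, 102, true), (8, 119, true), (7, 99, true), (6, 74, true), (5, 53, true), (8,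 116, true), (7, 102, true), (9, 118, true), (8, 104, true), (8, 116, true), (7, 77, true), (7, 118, true), (8, 119, true)])]

/-- a block of eqs -/
def twoEqs11 : List (Pair) := [
  ([9, 2, 2], [(0, 47, true), (1, 47, true), (0, 5, true), (3, 87, true), (2, 75, true), (1, 64, true), (0, 54, true)], [(1, 5, true), (0, 54, true)]),
  ([9, 7, 1], [(0, 52, true), (1, 46, true), (0, 29, true)], [(1, 29, true), (0, 46, true), (3, 112, true), (2, 73, true), (1, 52, true)]),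
  ([9, 7, 7], [(0, 52, true), (1, 52, true), (0, 35, true), (1, 114, true), (0, 87, true)], [(1, 35, true)]),
  ([9, 8, 2], [(0, 53, true), (3, 107, true), (2, 93, true), (1, 47, true), (0, 38, true), (3, 75, true), (2, 64, true)], [(1, 38, true), (0, 47, true), (1, 53, true), (4, 115, true), (3, 101, true), (5, 116, true), (4, 102, true)]),
  ([9, 9, 1], [(0, 54, true)], [(1, 46, true), (0, 46, true), (3, 114, true), (2, 75, true), (1, 54, true), (2, 116, true), (1, 77, true), (1, 119, true)]),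
  ([9, 9, 4], [(0, 54, true)], [(1, 49, true), (0, 49, true), (3, 87, true), (2, 75, true), (1, 54, true), (2, 89, true), (1, 77, true), (1, 90, true)])]

/-- a block of eqs -/
def twoEqs12 : List (Pair) := [
  ([9, 9, 6], [(0, 54, true)], [(1, 51, true), (0, 51, true), (3, 114, true), (2, 100, true), (1, 54, true), (2, 118, true), (1, 104, true), (1, 119, true)]),
  ([10, 0, 0], [(0, 55, true), (2, 78, true), (1, 55, true), (0, 0, true), (2, 88, true), (3, 90, true)], [(1, 0, true), (0, 61, true), (1, 63, true)]),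
  ([10, 2, 2], [(0, 57, true), (1, 57, true), (0, 5, true), (3, 88, true), (2, 76, true), (1, 65, true)], [(1, 5, true), (0, 64, true), (1, 65, true)]),
  ([10, 6, 2], [(0, 61, true), (1, 57, true), (0, 23, true), (4, 101, true), (3, 88, true)], [(1, 23, true), (0, 57, true), (1, 61, true), (2, 64, true)]),
  ([10, 6, 6], [(0, 61, true), (1, 61, true), (0, 27, true), (1, 115, true), (0, 88, true)], [(1, 27, true)]),
  ([10, 8, 6], [(0, 63, true), (1, 61, true), (0, 42, true), (2, 88, true)], [(1, 42, true), (0, 61, true), (1, 63, true)])]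

/-- a block of eqs -/
def twoEqs13 : List (Pair) := [
  ([10, 8, 8], [(0, 63, true), (1, 63, true), (0, 44, true), (1, 115, true), (0, 101, true)], [(1, 44, true)]),
  ([10, 10, 0], [(0, 65, true)], [(1, 55, true), (0, 55, true), (2, 88, true), (1, 65, true), (1, 90, true)]),
  ([11, 0, 0], [(0, 66, true), (2, 78, true), (1, 66, true), (0, 0, true), (2, 89, true), (3, 90, true)], [(1, 0, true), (0, 72, true), (1, 74, true)]),
  ([11, 1, 1], [(0, 67, true), (3, 106, true), (2, 92, true), (1, 67, true), (0, 2, true), (6, 118, true), (5, 104, true), (5, 119, true)], [(1, 2, true), (0, 73, true), (1, 74, true), (2, 75, true), (3, 76, true)]),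
  ([11, 5, 5], [(0, 71, true), (1, 71, true), (0, 20, true), (1, 102, true), (0, 89, true)], [(1, 20, true)]),
  ([11, 6, 6], [(0, 72, true), (1, 72, true), (0, 27, true), (1, 116, true), (0, 89, true)], [(1, 27, true)])]

/-- a block of eqs -/
def twoEqs14 : List (Pair) := [
  ([11, 7, 1], [(0, 73, true), (1, 67, true), (0, 29, true)], [(1, 29, true), (0, 67, true), (3, 112, true), (2, 98, true), (1, 73, true)]),
  ([11, 11, 0], [(0, 77, true)], [(1, 66, true), (0, 66, true), (2, 89, true), (1, 77, true), (1, 90, true)]),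
  ([12, 1, 0], [(0, 79, true), (1, 78, true), (0, 1, true)], [(1, 1, true), (0, 78, true), (1, 79, true), (2, 82, true), (3, 84, true), (4, 85, true), (5, 87, true), (6, 88, true), (7, 89, true)]),
  ([12, 1, 1], [(0, 79, true), (1, 79, true), (0, 2, true)], [(1, 2, true), (0, 85, true), (1, 86, true), (2, 87, true), (3, 88, true)]),
  ([12, 3, 0], [(0, 81, true), (1, 78, true), (0, 6, true)], [(1, 6, true), (0, 78, true), (1, 81, true), (2, 87, true), (3, 88, true)]),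
  ([12, 3, 3], [(0, 81, true), (1, 81, true), (0, 9, true)], [(1, 9, true), (0, 86, true), (1, 87, true), (2, 88, true)])]

/-- a block of eqs -/
def twoEqs15 : List (Pair) := [
  ([12, 5, 5], [(0, 83, true), (1, 83, true), (0, 20, true), (1, 103, true), (0, 90, true)], [(1, 20, true), (0, 90, true)]),
  ([12, 8, 8], [(0, 86, true), (1, 86, true), (0, 44, true), (1, 117, true), (0, 103, true)], [(1, 44, true)]),
  ([13, 0, 0], [(0, 91, true), (1, 91, true), (0, 0, true)], [(1, 0, true), (0, 97, true), (1, 99, true), (2, 103, true)]),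
  ([13, 1, 0], [(0, 92, true), (1, 91, true), (0, 1, true)], [(1, 1, true), (0, 91, true), (1, 92, true), (2, 95, true), (3, 97, true), (4, 98, true), (5, 100, true), (6, 101, true), (7, 102, true)]),
  ([13, 2, 0], [(0, 93, true), (1, 91, true), (0, 3, true), (8, 118, true), (7, 104, true)], [(1, 3, true), (0, 91, true), (1, 93, true), (2, 94, true), (3, 95, true), (4, 97, true), (5, 98, true), (6, 101, true), (7, 104, true)]),
  ([13, 3, 3], [(0, 94, true), (1, 94, true), (0, 9, true)], [(1, 9, true), (0, 99, true), (1, 100, true), (2, 101, true)])]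

/-- a block of eqs -/
def twoEqs16 : List (Pair) := [
  ([13, 6, 6], [(0, 97, true), (1, 97, true), (0, 27, true), (1, 118, true)], [(1, 27, true), (0, 103, true)]),
  ([14, 0, 0], [(0, 105, true), (1, 105, true), (0, 0, true)], [(1, 0, true), (0, 111, true), (1, 113, true), (2, 117, true)]),
  ([14, 3, 3], [(0, 108, true), (1, 108, true), (0, 9, true)], [(1, 9, true), (0, 113, true), (1, 114, true), (2, 115, true)]),
  ([15, 0, 0], [(0, 120, true), (7, 120, true), (6, 78, true), (5, 66, true), (4, 55, true), (3, 36, true), (2, 28, true), (1, 10, true), (0, 0, true), (2, 82, true), (1, 40, true), (0, 25, true), (4, 90, true), (3, 74, true), (2, 44, true), (3, 116, true), (2, 102, true), (4, 114, true), (3, 100, true), (2, 75, true), (5, 118, true), (4, 104, true), (4, 112, true), (3, 73, true), (2, 52, true), (5, 113, true), (4, 74, true), (3, 53, true), (6, 116, true), (5, 102, true), (7, 119, true),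 (6, 100, true), (5, 75, true), (4, 54, true), (5, 101, true), (4, 76, true), (6, 103, true), (8, 113, true), (7, 99, true), (6, 86, true), (5, 74, true), (4, 63, true), (3, 44, true), (4, 115, true), (3, 101, true), (5, 116, true), (4, 102, true), (6, 117, true), (5, 103, true), (7, 118, true), (6, 104, true), (6, 119, true), (5, 88, true), (4, 76, true), (3, 65, true), (5, 101, true), (4, 88, true), (3, 76, true), (6, 103, true), (5, 90, true), (5, 102, true), (4, 77, true), (4, 103, true), (5, 103, true), (4, 90, true), (4, 95, true), (3, 59, true), (2, 32, true), (1, 25, true), (0, 14, true), (4, 115, true), (3, 101, true), (2, 76, true), (5, 117, true), (4, 103, true), (6, 118, true), (5, 104, true), (5, 119, true), (5, 98, true), (4, 85, true), (3, 73, true), (2, 62, true), (1, 35, true), (2, 115, true), (1, 88, true), (3, 118, true), (4, 119, true), (3, 102, true), (2, 89, true), (4, 103, true),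 (3, 90, true), (3, 104, true), (2, 74, true), (1, 63, true), (3, 76, true), (2, 65, true), (2, 77, true)], [(1, 0, true), (0, 124, true), (5, 126, true), (9, 130, true), (4, 94, true), (3, 69, true), (2, 39, true), (1, 13, true), (0, 9, true), (2, 59, true), (1, 49, true), (0, 40, true), (3, 87, true), (2, 75, true), (4, 89, true), (3, 77, true), (3, 90, true), (6, 113, true), (5, 99, true), (4, 86, true), (3, 63, true), (2, 53, true), (1, 44, true), (2, 114, true), (1, 100, true), (3, 118, true), (2, 104, true), (2, 119, true), (5, 114, true), (4, 100, true), (3, 87, true), (2, 64, true), (1, 54, true), (4, 113, true), (3, 99, true), (2, 86, true), (1, 63, true), (5, 116, true), (4, 102, true), (3, 89, true), (6, 116, true), (5, 102, true), (4, 89, true), (3, 77, true), (5, 118, true), (4, 104, true), (4, 119, true), (4, 95, true), (3, 82, true), (2, 59, true), (1, 40, true), (0, 14, true), (2, 88, true),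 (1, 76, true), (3, 90, true), (4, 117, true), (3, 103, true), (5, 118, true), (4, 104, true), (4, 111, true), (3, 84, true), (2, 72, true), (1, 61, true), (0, 42, true), (2, 88, true), (3, 89, true), (4, 90, true), (4, 116, true), (3, 77, true), (3, 115, true), (2, 65, true), (2, 117, true), (3, 119, true)]),
  ([15, 2, 2], [(0, 121, true), (6, 121, true), (5, 108, true), (4, 69, true), (3, 39, true), (2, 31, true), (1, 13, true), (0, 9, true), (2, 59, true), (1, 49, true), (0, 40, true), (3, 87, true), (2, 75, true), (4, 89, true), (3, 77, true), (3, 90, true), (6, 113, true), (5, 99, true), (4, 86, true), (3, 63, true), (2, 53, true), (1, 44, true), (2, 114, true), (1, 100, true), (3, 118, true), (2, 104, true), (2, 119, true), (5, 114, true), (4, 100, true), (3, 87, true), (2, 64, true), (1, 54, true), (4, 112, true), (3, 98, true), (2, 85, true), (1, 62, true), (4, 117, true), (3, 103, true), (5,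 118, true), (4, 104, true), (4, 119, true), (3, 90, true), (3, 113, true), (2, 63, true), (4, 116, true), (5, 116, true), (4, 77, true), (4, 118, true), (5, 119, true), (5, 109, true), (4, 95, true), (3, 59, true), (2, 40, true), (1, 32, true), (0, 14, true), (3, 113, true), (2, 99, true), (1, 74, true), (4, 116, true), (3, 102, true), (2, 77, true), (3, 117, true), (2, 103, true), (4, 115, true), (3, 101, true), (2, 88, true), (5, 117, true), (4, 103, true), (3, 90, true), (4, 118, true), (3, 104, true), (3, 119, true), (4, 112, true), (3, 98, true), (2, 62, true), (1, 43, true), (0, 35, true), (1, 113, true), (0, 86, true), (2, 118, true), (3, 119, true), (2, 101, true), (1, 88, true), (3, 104, true), (3, 118, true), (4, 119, true), (3, 99, true), (2, 86, true), (1, 63, true), (0, 44, true), (1, 115, true), (0, 101, true), (2, 117, true), (1, 103, true), (3, 118, true), (2, 104, true), (2, 116, true),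 (1, 89, true), (3, 119, true)], [(1, 5, true), (0, 127, true), (3, 128, true), (5, 129, true), (10, 130, true), (2, 100, true), (1, 75, true), (0, 64, true), (3, 103, true), (4, 100, true), (3, 87, true), (2, 75, true), (1, 64, true), (0, 54, true), (3, 101, true), (2, 88, true), (1, 76, true), (0, 65, true), (2, 103, true), (1, 90, true), (1, 104, true), (1, 115, true), (0, 76, true), (2, 117, true), (3, 119, true)]),
  ([15, 3, 5, 2], [(0, 122, true), (4, 121, true), (3, 108, true), (2, 39, true), (1, 31, true), (4, 113, true), (3, 86, true), (5, 116, true), (4, 89, true), (6, 119, true), (5, 82, true), (4, 70, true), (3, 40, true), (2, 32, true), (6, 113, true), (5, 99, true), (4, 74, true), (7, 116, true), (6, 102, true), (5, 77, true), (6, 117, true), (5, 103, true), (7, 116, true), (6, 102, true), (5, 89, true), (8, 117, true), (7, 103, true), (6, 90, true), (7, 112, true), (6, 98, true), (5, 73,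 true), (4, 43, true), (3, 35, true), (4, 113, true), (3, 86, true), (5, 118, true), (6, 119, true), (5, 102, true), (4, 89, true), (6, 104, true), (6, 113, true), (5, 86, true), (4, 74, true), (3, 44, true), (4, 116, true), (3, 102, true), (5, 117, true), (4, 103, true), (6, 119, true), (5, 102, true), (4, 89, true), (3, 77, true)], [(2, 17, true), (1, 8, true), (8, 71, true), (7, 60, true), (6, 50, true), (5, 41, true), (4, 33, true), (3, 26, true), (7, 98, true), (6, 85, true), (5, 73, true), (8, 103, true), (7, 90, true), (7, 104, true), (6, 74, true), (8, 87, true), (7, 75, true), (9, 89, true), (8, 77, true), (8, 90, true), (9, 115, true), (8, 101, true), (10, 117, true), (9, 103, true), (11, 118, true), (10, 104, true), (10, 119, true), (9, 89, true), (10, 84, true), (9, 72, true), (8, 61, true), (7, 51, true), (6, 42, true), (5, 34, true), (4, 27, true), (5, 112, true), (4, 85, true), (6, 116,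 true), (5, 89, true), (7, 118, true), (8, 119, true), (7, 99, true), (6, 86, true), (5, 74, true), (8, 103, true), (7, 90, true), (7, 100, true), (6, 75, true), (8, 104, true), (8, 115, true), (7, 76, true), (9, 116, true), (8, 77, true), (8, 117, true), (9, 112, true), (8, 85, true), (7, 62, true), (6, 52, true), (5, 43, true), (4, 35, true), (5, 113, true), (4, 86, true), (6, 118, true), (7, 119, true), (6, 100, true), (5, 87, true), (7, 101, true), (6, 88, true), (8, 104, true), (8, 117, true), (7, 90, true), (7, 119, true), (6, 63, true), (5, 53, true), (4, 44, true), (5, 114, true), (4, 100, true), (6, 118, true), (5, 104, true), (5, 119, true), (0, 121, true), (6, 122, true), (10, 127, true), (13, 128, true), (15, 130, true), (18, 132, true), (5, 107, true), (4, 68, true), (3, 38, true), (2, 30, true), (1, 12, true), (0, 8, true), (7, 70, true), (6, 59, true), (5, 49, true), (4, 40, true), (3, 32,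 true), (2, 25, true), (7, 113, true), (6, 99, true), (5, 74, true), (8, 116, true), (7, 102, true), (6, 77, true), (7, 117, true), (6, 103, true), (8, 114, true), (7, 100, true), (6, 87, true), (9, 116, true), (8, 102, true), (7, 89, true), (10, 117, true), (9, 103, true), (8, 90, true), (9, 115, true), (8, 101, true), (7, 76, true), (10, 117, true), (9, 103, true), (11, 118, true), (10, 104, true), (10, 119, true), (9, 89, true), (8, 77, true), (8, 84, true), (7, 61, true), (6, 51, true), (5, 42, true), (4, 34, true), (3, 27, true), (4, 112, true), (3, 85, true), (5, 116, true), (4, 89, true), (6, 118, true), (7, 119, true), (6, 99, true), (5, 86, true), (4, 74, true), (7, 103, true), (6, 90, true), (6, 100, true), (5, 75, true), (7, 104, true), (7, 115, true), (6, 76, true), (8, 117, true), (9, 112, true), (8, 85, true), (7, 73, true), (6, 62, true), (5, 52, true), (4, 43, true), (3, 35, true), (4,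 113, true), (3, 86, true), (5, 118, true), (6, 119, true), (5, 100, true), (4, 87, true), (6, 101, true), (5, 88, true), (7, 104, true), (7, 116, true), (6, 89, true), (8, 117, true), (7, 90, true), (7, 119, true), (6, 74, true), (5, 63, true), (4, 53, true), (3, 44, true), (4, 114, true), (3, 100, true), (5, 118, true), (4, 104, true), (4, 119, true), (5, 75, true), (4, 64, true), (3, 54, true), (4, 76, true), (3, 65, true), (3, 77, true), (3, 112, true), (4, 114, true), (5, 115, true), (6, 116, true), (7, 118, true), (8, 113, true), (7, 99, true), (6, 74, true), (5, 63, true), (4, 53, true), (7, 115, true), (6, 101, true), (8, 116, true), (7, 102, true), (9, 118, true), (8, 104, true), (8, 119, true), (7, 76, true), (6, 65, true), (6, 77, true), (8, 119, true), (7, 98, true), (6, 73, true), (5, 52, true), (4, 43, true), (3, 35, true), (4, 113, true), (3, 86, true), (5, 118, true), (6, 119, true), (5,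 100, true), (4, 87, true), (6, 102, true), (5, 89, true), (7, 104, true), (6, 86, true), (5, 74, true), (4, 53, true), (3, 44, true), (4, 114, true), (3, 100, true), (5, 118, true), (4, 104, true), (4, 119, true), (6, 115, true), (5, 88, true), (4, 76, true), (7, 116, true), (6, 89, true), (5, 77, true), (6, 118, true), (7, 114, true), (6, 100, true), (5, 87, true), (4, 64, true), (3, 54, true), (6, 117, true), (5, 103, true), (4, 90, true), (5, 115, true), (4, 101, true), (3, 65, true), (4, 117, true), (3, 103, true), (5, 119, true)])]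

/-- a block of eqs -/
def twoEqs17 : List (Pair) := [
  ([15, 3, 5, 3, 5], [(0, 122, true), (4, 122, true), (3, 107, true), (2, 38, true), (1, 30, true), (0, 5, true), (3, 85, true), (2, 73, true), (1, 62, true), (0, 52, true), (4, 116, true), (3, 102, true), (5, 117, true), (4, 103, true), (6, 114, true), (5, 100, true), (4, 87, true), (3, 75, true), (2, 64, true), (1, 54, true), (5, 115, true), (4, 101, true), (3, 88, true), (2, 76, true), (1, 65, true), (4, 116, true), (3, 102, true), (2, 89, true), (1, 77, true), (3, 118, true), (2, 104, true), (2, 113, true), (1, 86, true), (3, 115, true), (2, 88, true), (4, 116, true), (3, 89, true), (5, 119, true), (4, 85, true), (3, 73, true), (2, 62, true), (1, 43, true), (0, 35, true), (1, 113, true), (0, 86, true), (2, 118, true), (3, 119, true), (2, 101, true), (1, 88, true), (3, 104, true), (3, 116, true), (2, 89, true), (4, 117, true), (3, 90, true), (3,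 113, true), (2, 74, true), (1, 63, true), (0, 44, true), (1, 115, true), (0, 101, true), (2, 116, true), (1, 102, true), (3, 119, true)], [(2, 18, true), (1, 9, true), (3, 60, true), (2, 50, true), (1, 41, true), (3, 87, true), (4, 89, true), (5, 90, true), (6, 115, true), (5, 101, true), (4, 76, true), (7, 117, true), (6, 103, true), (8, 118, true), (7, 104, true), (7, 119, true), (6, 86, true), (5, 74, true), (4, 63, true), (3, 53, true), (2, 44, true), (3, 114, true), (2, 100, true), (4, 118, true), (3, 104, true), (3, 119, true), (5, 88, true), (4, 76, true), (3, 65, true), (4, 90, true), (3, 71, true), (2, 50, true), (1, 20, true), (2, 100, true), (1, 87, true), (3, 102, true), (2, 89, true), (4, 103, true), (3, 90, true), (3, 104, true), (3, 116, true), (2, 77, true), (0, 127, true), (3, 132, true)]),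
  ([15, 4, 5, 0], [(0, 123, true), (9, 120, true), (8, 105, true), (7, 91, true), (6, 78, true), (5, 66, true), (4, 45, true), (3, 36, true), (2, 21, true), (1, 15, true), (0, 6, true), (3, 60, true), (2, 50, true), (7, 115, true), (6, 101, true), (5, 88, true), (4, 76, true), (8, 117, true), (7, 103, true), (6, 90, true), (7, 118, true), (6, 104, true), (6, 119, true), (5, 72, true), (4, 61, true), (3, 51, true), (6, 115, true), (5, 101, true), (7, 116, true), (6, 102, true), (8, 114, true), (7, 100, true), (6, 75, true), (5, 64, true), (4, 54, true), (7, 115, true), (6, 101, true), (5, 76, true), (4, 65, true), (6, 116, true), (5, 102, true), (4, 77, true), (5, 117, true), (4, 103, true), (6, 118, true), (5, 104, true), (5, 119, true), (4, 84, true), (3, 27, true), (4, 117, true), (3, 90, true), (3, 115, true), (4, 118, true), (5, 113, true), (4, 99, true), (3, 63, true), (6, 115, true), (5, 101, true),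 (4, 65, true), (5, 118, true), (4, 104, true), (4, 114, true), (5, 115, true), (6, 116, true), (7, 117, true), (8, 118, true), (9, 116, true), (8, 102, true), (7, 89, true), (6, 77, true), (8, 117, true), (7, 103, true), (6, 90, true), (7, 117, true), (6, 103, true), (8, 118, true), (7, 104, true), (7, 119, true), (6, 82, true), (5, 59, true), (4, 49, true), (3, 40, true), (2, 19, true), (6, 99, true), (5, 86, true), (4, 74, true), (7, 102, true), (6, 89, true), (5, 77, true), (6, 103, true), (5, 90, true), (5, 100, true), (6, 102, true), (7, 103, true), (8, 101, true), (7, 88, true), (6, 76, true), (9, 103, true), (8, 90, true), (8, 104, true), (8, 117, true), (9, 112, true), (8, 85, true), (7, 73, true), (6, 62, true), (5, 52, true), (4, 43, true), (7, 114, true), (6, 100, true), (8, 115, true), (7, 101, true), (9, 118, true), (8, 104, true), (8, 119, true), (10, 113, true), (9, 86, true), (8, 74, true),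 (7, 63, true), (6, 53, true), (5, 44, true), (6, 114, true), (5, 100, true), (7, 118, true), (6, 104, true), (6, 119, true), (9, 115, true), (8, 88, true), (7, 76, true), (6, 65, true), (8, 116, true), (7, 89, true), (6, 77, true), (7, 117, true), (6, 90, true)], [(2, 15, true), (1, 10, true), (5, 96, true), (4, 50, true), (3, 41, true), (5, 87, true), (6, 89, true), (7, 90, true), (8, 118, true), (7, 104, true), (7, 111, true), (6, 72, true), (5, 51, true), (4, 42, true), (6, 87, true), (9, 116, true), (8, 102, true), (7, 89, true), (10, 119, true), (9, 100, true), (8, 87, true), (7, 75, true), (6, 54, true), (8, 101, true), (7, 88, true), (6, 76, true), (9, 102, true), (8, 89, true), (7, 77, true), (8, 103, true), (7, 90, true), (7, 104, true), (0, 120, true), (7, 123, true), (16, 124, true), (21, 126, true), (25, 128, true), (27, 132, true), (6, 81, true), (5, 69, true), (4, 58, true), (3, 39, true),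 (2, 31, true), (1, 13, true), (4, 52, true), (3, 43, true), (6, 114, true), (5, 100, true), (7, 117, true), (6, 103, true), (8, 119, true), (7, 99, true), (6, 86, true), (5, 53, true), (4, 44, true), (5, 114, true), (4, 100, true), (6, 118, true), (5, 104, true), (5, 119, true), (6, 102, true), (5, 89, true), (7, 101, true), (6, 88, true), (5, 76, true), (8, 103, true), (7, 90, true), (7, 104, true), (7, 116, true), (6, 77, true), (6, 118, true), (7, 119, true), (6, 103, true), (7, 96, true), (6, 83, true), (5, 60, true), (4, 50, true), (3, 33, true), (6, 100, true), (5, 87, true), (7, 102, true), (6, 89, true), (8, 103, true), (7, 90, true), (7, 104, true), (7, 115, true), (6, 76, true), (8, 117, true), (9, 118, true), (10, 119, true), (9, 103, true), (8, 90, true), (8, 104, true), (7, 72, true), (6, 61, true), (5, 51, true), (4, 34, true), (8, 114, true), (7, 100, true), (6, 75, true), (9, 118, true),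 (8, 104, true), (8, 119, true), (7, 76, true), (8, 77, true), (7, 63, true), (6, 53, true), (9, 115, true), (8, 101, true), (10, 114, true), (9, 100, true), (8, 64, true), (7, 54, true), (9, 116, true), (8, 102, true), (10, 117, true), (9, 103, true), (11, 118, true), (10, 104, true), (10, 119, true), (9, 81, true), (8, 69, true), (7, 58, true), (6, 39, true), (5, 31, true), (4, 24, true), (3, 18, true), (2, 13, true), (1, 9, true), (3, 59, true), (2, 49, true), (1, 40, true), (4, 87, true), (3, 75, true), (5, 89, true), (4, 77, true), (4, 90, true), (7, 113, true), (6, 99, true), (5, 86, true), (4, 63, true), (3, 53, true), (2, 44, true), (3, 114, true), (2, 100, true), (4, 118, true), (3, 104, true), (3, 119, true), (6, 114, true), (5, 100, true), (4, 87, true), (3, 64, true), (2, 54, true), (5, 110, true), (4, 96, true), (3, 83, true), (2, 60, true), (6, 117, true), (5, 103, true), (4, 90, true), (5,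 118, true), (4, 104, true), (4, 119, true), (3, 63, true), (4, 65, true), (4, 84, true), (3, 42, true), (5, 90, true), (6, 98, true), (5, 62, true), (4, 43, true), (7, 115, true), (6, 101, true), (8, 118, true), (7, 104, true), (7, 119, true), (7, 103, true), (9, 113, true), (8, 99, true), (7, 86, true), (6, 63, true), (5, 44, true), (6, 115, true), (5, 101, true), (7, 117, true), (6, 103, true), (8, 118, true), (7, 104, true), (7, 119, true), (6, 89, true), (7, 88, true), (6, 76, true), (5, 65, true), (6, 90, true), (7, 116, true), (6, 102, true), (5, 77, true), (6, 118, true), (5, 104, true), (5, 119, true), (5, 82, true), (4, 32, true), (3, 25, true), (2, 19, true), (1, 14, true), (4, 97, true), (3, 84, true), (2, 72, true), (5, 98, true), (4, 85, true), (3, 73, true), (6, 102, true), (5, 89, true), (4, 77, true), (5, 104, true), (5, 117, true), (4, 90, true), (4, 113, true), (5, 116, true), (6, 118,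 true), (7, 108, true), (6, 94, true), (5, 69, true), (4, 39, true), (3, 31, true), (2, 24, true), (1, 18, true), (5, 84, true), (4, 61, true), (3, 42, true), (5, 88, true), (6, 90, true), (5, 65, true), (5, 98, true), (4, 43, true), (7, 118, true), (6, 104, true), (6, 117, true), (7, 119, true), (6, 86, true), (5, 44, true), (6, 117, true), (5, 103, true), (7, 116, true), (6, 102, true), (5, 89, true), (8, 116, true), (7, 102, true), (6, 89, true), (5, 77, true), (7, 118, true), (6, 104, true), (6, 119, true), (7, 109, true), (6, 95, true), (5, 82, true), (4, 32, true), (3, 25, true), (2, 19, true), (6, 97, true), (5, 84, true), (4, 72, true), (7, 98, true), (6, 85, true), (5, 73, true), (8, 102, true), (7, 89, true), (6, 77, true), (7, 104, true), (7, 117, true), (6, 90, true), (6, 118, true), (7, 119, true), (6, 97, true), (5, 34, true), (4, 27, true), (5, 112, true), (4, 85, true), (6, 116, true),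 (5, 89, true), (7, 118, true), (8, 119, true), (7, 104, true), (6, 89, true), (5, 77, true), (5, 87, true), (6, 90, true)]),
  ([15, 4, 5, 2], [(0, 123, true), (9, 121, true), (8, 108, true), (7, 94, true), (6, 81, true), (5, 69, true), (4, 48, true), (3, 39, true), (2, 24, true), (1, 18, true), (0, 9, true), (2, 60, true), (1, 50, true), (0, 41, true), (2, 87, true), (3, 89, true), (4, 90, true), (5, 115, true), (4, 101, true), (3, 76, true), (6, 117, true), (5, 103, true), (7, 118, true), (6, 104, true), (6, 119, true), (5, 86, true), (4, 74, true), (3, 63, true), (2, 53, true), (1, 44, true), (2, 114, true), (1, 100, true), (3, 118, true), (2, 104, true), (2, 119, true), (4, 88, true), (3, 76, true), (2, 65, true), (3, 90, true), (2, 72, true), (1, 51, true), (4, 116, true), (3, 102, true), (5, 115, true), (4, 101, true), (3, 76, true), (6, 118, true), (5, 104, true), (5, 113, true), (4, 74, true),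 (3, 63, true), (2, 53, true), (5, 115, true), (4, 101, true), (6, 116, true), (5, 102, true), (7, 119, true), (6, 102, true), (5, 77, true), (5, 100, true), (4, 64, true), (3, 54, true), (4, 102, true), (5, 103, true), (6, 104, true), (6, 116, true), (5, 89, true), (4, 77, true), (5, 118, true), (6, 119, true), (5, 103, true), (4, 90, true), (4, 104, true), (4, 109, true), (3, 59, true), (2, 40, true), (1, 25, true), (0, 19, true), (4, 97, true), (3, 84, true), (2, 72, true), (5, 99, true), (4, 86, true), (3, 74, true), (6, 102, true), (5, 89, true), (4, 77, true), (5, 103, true), (4, 90, true), (4, 101, true), (5, 103, true), (6, 104, true), (6, 119, true), (5, 85, true), (4, 62, true), (3, 43, true), (6, 115, true), (5, 101, true), (7, 118, true), (6, 104, true), (6, 119, true), (6, 86, true), (5, 63, true), (4, 44, true), (5, 115, true), (4, 101, true), (6, 117, true), (5, 103, true), (7, 116, true),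 (6, 102, true), (5, 89, true), (8, 119, true)], [(2, 17, true), (1, 12, true), (9, 110, true), (8, 71, true), (7, 60, true), (6, 50, true), (5, 41, true), (4, 33, true), (3, 26, true), (7, 98, true), (6, 85, true), (5, 73, true), (8, 103, true), (7, 90, true), (7, 104, true), (6, 74, true), (8, 87, true), (7, 75, true), (9, 89, true), (8, 77, true), (8, 90, true), (9, 115, true), (8, 101, true), (10, 117, true), (9, 103, true), (11, 118, true), (10, 104, true), (10, 119, true), (9, 89, true), (11, 111, true), (10, 84, true), (9, 72, true), (8, 61, true), (7, 51, true), (6, 42, true), (5, 34, true), (4, 27, true), (5, 112, true), (4, 85, true), (6, 116, true), (5, 89, true), (7, 118, true), (8, 119, true), (7, 99, true), (6, 86, true), (5, 74, true), (8, 103, true), (7, 90, true), (7, 100, true), (6, 75, true), (8, 104, true), (8, 115, true), (7, 76, true), (9, 116, true), (8, 77, true), (8, 117, true),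 (9, 119, true), (8, 85, true), (7, 62, true), (6, 52, true), (5, 43, true), (4, 35, true), (5, 113, true), (4, 86, true), (6, 118, true), (7, 119, true), (6, 100, true), (5, 87, true), (7, 101, true), (6, 88, true), (8, 104, true), (8, 117, true), (7, 90, true), (7, 113, true), (6, 63, true), (5, 53, true), (4, 44, true), (5, 114, true), (4, 100, true), (6, 118, true), (5, 104, true), (5, 119, true), (6, 117, true), (7, 119, true), (0, 121, true), (6, 123, true), (15, 127, true), (18, 128, true), (20, 130, true), (5, 108, true), (4, 69, true), (3, 39, true), (2, 31, true), (1, 13, true), (0, 9, true), (2, 59, true), (1, 49, true), (0, 40, true), (3, 87, true), (2, 75, true), (4, 89, true), (3, 77, true), (3, 90, true), (6, 113, true), (5, 99, true), (4, 86, true), (3, 63, true), (2, 53, true), (1, 44, true), (2, 114, true), (1, 100, true), (3, 118, true), (2, 104, true), (2, 119, true), (5, 114, true),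 (4, 100, true), (3, 87, true), (2, 64, true), (1, 54, true), (4, 112, true), (3, 98, true), (2, 85, true), (1, 62, true), (4, 117, true), (3, 103, true), (5, 118, true), (4, 104, true), (4, 119, true), (3, 90, true), (3, 113, true), (2, 63, true), (4, 116, true), (5, 116, true), (4, 77, true), (4, 118, true), (5, 119, true), (5, 110, true), (4, 96, true), (3, 60, true), (2, 41, true), (1, 33, true), (4, 99, true), (3, 86, true), (5, 103, true), (4, 90, true), (4, 101, true), (5, 103, true), (6, 104, true), (6, 118, true), (7, 119, true), (6, 97, true), (5, 84, true), (4, 61, true), (3, 42, true), (2, 34, true), (6, 113, true), (5, 99, true), (4, 74, true), (7, 117, true), (6, 103, true), (8, 115, true), (7, 101, true), (6, 88, true), (5, 76, true), (9, 117, true), (8, 103, true), (7, 90, true), (8, 118, true), (7, 104, true), (7, 113, true), (6, 74, true), (5, 63, true), (4, 44, true), (5, 115, true),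 (4, 101, true), (6, 116, true), (5, 102, true), (7, 119, true), (6, 100, true), (5, 75, true), (4, 64, true), (7, 102, true), (6, 77, true), (6, 103, true), (7, 104, true), (7, 115, true), (6, 88, true), (5, 65, true), (6, 116, true), (5, 89, true), (7, 118, true), (8, 114, true), (7, 100, true), (6, 87, true), (5, 75, true), (4, 54, true), (7, 117, true), (6, 103, true), (5, 90, true), (6, 115, true), (5, 101, true), (4, 76, true), (7, 117, true), (6, 103, true), (8, 119, true)]),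
  ([15, 4, 5, 4, 5], [(0, 123, true), (9, 123, true), (8, 108, true), (7, 94, true), (6, 81, true), (5, 69, true), (4, 48, true), (3, 39, true), (2, 24, true), (1, 18, true), (0, 9, true), (2, 60, true), (1, 50, true), (0, 41, true), (2, 87, true), (3, 89, true), (4, 90, true), (5, 115, true), (4, 101, true), (3, 76, true), (6, 117, true), (5, 103, true), (7, 118, true), (6, 104, true), (6, 119, true), (5, 86, true), (4, 74, true), (3, 63, true), (2, 53, true), (1, 44, true), (2, 114, true), (1, 100, true), (3, 118, true), (2, 104, true), (2, 119, true), (4, 88, true), (3, 76, true), (2, 65, true), (3, 90, true), (2, 72, true), (1, 51, true), (4, 116, true), (3, 102, true), (5, 115, true), (4, 101, true), (3, 76, true), (6, 118, true), (5, 104, true), (5, 113, true), (4, 74, true), (3, 63, true), (2, 53, true), (5, 115, true), (4, 101, true), (6, 116, true), (5, 102, true), (7, 119, true), (6, 102, true),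 (5, 77, true), (5, 100, true), (4, 64, true), (3, 54, true), (4, 102, true), (5, 103, true), (6, 104, true), (6, 116, true), (5, 89, true), (4, 77, true), (5, 118, true), (6, 119, true), (5, 103, true), (4, 90, true), (4, 104, true), (4, 110, true), (3, 60, true), (2, 41, true), (1, 26, true), (0, 20, true), (1, 97, true), (0, 84, true), (2, 102, true), (1, 89, true), (3, 103, true), (2, 90, true), (2, 104, true), (1, 74, true), (3, 88, true), (2, 76, true), (4, 90, true), (5, 119, true), (4, 97, true), (3, 72, true), (2, 61, true), (1, 42, true), (0, 27, true), (1, 113, true), (0, 86, true), (2, 117, true), (1, 90, true), (1, 115, true), (2, 116, true), (3, 118, true), (4, 113, true), (3, 99, true), (2, 74, true), (1, 63, true), (0, 44, true), (1, 115, true), (0, 101, true), (2, 116, true), (1, 102, true), (3, 118, true), (2, 104, true), (2, 119, true), (1, 75, true), (0, 64, true), (2, 77, true)], [(2,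 19, true), (1, 14, true), (4, 96, true), (3, 83, true), (2, 71, true), (1, 20, true), (2, 102, true), (1, 89, true), (3, 103, true), (2, 90, true), (2, 104, true), (0, 129, true)]),
  ([15, 6, 0], [(0, 124, true), (5, 120, true), (4, 91, true), (3, 66, true), (2, 36, true), (1, 10, true), (0, 6, true), (3, 59, true), (2, 49, true), (5, 88, true), (4, 76, true), (6, 90, true), (7, 113, true), (6, 99, true), (5, 74, true), (4, 63, true), (3, 53, true), (6, 115, true), (5, 101, true), (7, 116, true), (6, 102, true), (8, 118, true), (7, 104, true), (7, 119, true), (6, 75, true), (5, 64, true), (4, 54, true), (6, 99, true), (5, 74, true), (4, 63, true), (3, 44, true), (4, 115, true), (3, 101, true), (5, 116, true), (4, 102, true), (6, 118, true), (5, 104, true), (5, 115, true), (4, 76, true), (3, 65, true), (4, 118, true), (5, 116, true), (4, 102, true), (3, 77, true), (4, 117, true), (3, 103, true), (5, 118,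 true), (4, 104, true), (4, 109, true), (3, 82, true), (2, 14, true), (3, 112, true), (2, 85, true), (4, 113, true), (3, 86, true), (5, 115, true), (4, 88, true), (6, 116, true), (5, 89, true), (7, 117, true), (6, 90, true)], [(1, 21, true), (0, 120, true), (7, 124, true), (12, 128, true), (14, 131, true), (6, 81, true), (5, 69, true), (4, 58, true), (3, 39, true), (2, 31, true), (1, 13, true), (4, 52, true), (3, 43, true), (6, 114, true), (5, 100, true), (7, 117, true), (6, 103, true), (8, 119, true), (7, 99, true), (6, 86, true), (5, 53, true), (4, 44, true), (5, 114, true), (4, 100, true), (6, 118, true), (5, 104, true), (5, 119, true), (6, 102, true), (5, 89, true), (7, 101, true), (6, 88, true), (5, 76, true), (8, 103, true), (7, 90, true), (7, 104, true), (7, 116, true), (6, 77, true), (6, 118, true), (7, 119, true), (6, 103, true), (7, 95, true), (6, 82, true), (5, 59, true), (4, 49, true), (3,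 32, true), (2, 14, true), (5, 114, true), (4, 100, true), (3, 75, true), (6, 116, true), (5, 102, true), (4, 77, true), (5, 117, true), (4, 103, true), (6, 115, true), (5, 101, true), (4, 88, true), (7, 117, true), (6, 103, true), (5, 90, true), (6, 118, true), (5, 104, true), (5, 119, true), (6, 99, true), (5, 86, true), (4, 63, true), (3, 53, true), (6, 115, true), (5, 101, true), (7, 117, true), (6, 103, true), (8, 118, true), (7, 104, true), (7, 116, true), (6, 89, true), (8, 118, true), (9, 114, true), (8, 100, true), (7, 87, true), (6, 75, true), (5, 64, true), (4, 54, true), (8, 117, true), (7, 103, true), (6, 90, true), (7, 118, true), (6, 104, true)]),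
  ([15, 6, 2], [(0, 124, true), (5, 121, true), (4, 94, true), (3, 69, true), (2, 39, true), (1, 13, true), (0, 9, true), (2, 59, true), (1, 49, true), (0, 40, true), (3, 87, true), (2, 75, true), (4, 89, true), (3, 77, true), (3, 90, true), (6, 113, true), (5, 99, true), (4, 86, true), (3, 63, true), (2, 53, true), (1, 44, true), (2, 114, true), (1, 100, true), (3, 118, true), (2, 104, true), (2, 119, true), (5, 114, true), (4, 100, true), (3, 87, true), (2, 64, true), (1, 54, true), (4, 113, true), (3, 99, true), (2, 86, true), (1, 63, true), (5, 116, true), (4, 102, true), (3, 89, true), (6, 116, true), (5, 102, true), (4, 89, true), (3, 77, true), (5, 118, true), (4, 104, true), (4, 119, true), (4, 95, true), (3, 82, true), (2, 59, true), (1, 40, true), (0, 14, true), (2, 88, true), (1, 76, true), (3, 90, true), (4, 117, true), (3, 103, true), (5, 118, true), (4, 104, true), (4, 112, true), (3, 85,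 true), (2, 73, true), (1, 62, true), (0, 43, true), (3, 115, true), (2, 101, true), (4, 118, true), (3, 104, true), (3, 119, true), (5, 113, true), (4, 86, true), (3, 74, true), (2, 63, true), (1, 44, true), (2, 115, true), (1, 101, true), (3, 116, true), (2, 102, true), (4, 117, true), (3, 103, true), (5, 119, true), (4, 102, true), (3, 89, true), (2, 77, true)], [(1, 23, true), (0, 121, true), (6, 124, true), (11, 127, true), (14, 130, true), (17, 131, true), (5, 108, true), (4, 69, true), (3, 39, true), (2, 31, true), (1, 13, true), (0, 9, true), (2, 59, true), (1, 49, true), (0, 40, true), (3, 87, true), (2, 75, true), (4, 89, true), (3, 77, true), (3, 90, true), (6, 113, true), (5, 99, true), (4, 86, true), (3, 63, true), (2, 53, true), (1, 44, true), (2, 114, true), (1, 100, true), (3, 118, true), (2, 104, true), (2, 119, true), (5, 114, true), (4, 100, true), (3, 87, true), (2, 64, true), (1, 54,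 true), (4, 112, true), (3, 98, true), (2, 85, true), (1, 62, true), (4, 117, true), (3, 103, true), (5, 118, true), (4, 104, true), (4, 119, true), (3, 90, true), (3, 113, true), (2, 63, true), (4, 116, true), (5, 116, true), (4, 77, true), (4, 118, true), (5, 119, true), (5, 109, true), (4, 95, true), (3, 59, true), (2, 40, true), (1, 32, true), (0, 14, true), (3, 113, true), (2, 99, true), (1, 74, true), (4, 116, true), (3, 102, true), (2, 77, true), (3, 117, true), (2, 103, true), (4, 115, true), (3, 101, true), (2, 88, true), (5, 117, true), (4, 103, true), (3, 90, true), (4, 118, true), (3, 104, true), (3, 119, true), (4, 113, true), (3, 99, true), (2, 63, true), (1, 44, true), (2, 115, true), (1, 101, true), (3, 118, true), (2, 104, true), (2, 119, true), (3, 101, true), (2, 76, true), (1, 65, true), (2, 102, true), (1, 77, true), (1, 104, true), (3, 118, true)])]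

/-- a block of eqs -/
def twoEqs18 : List (Pair) := [
  ([15, 6, 3, 5], [(0, 124, true), (5, 122, true), (4, 93, true), (3, 68, true), (2, 38, true), (1, 12, true), (0, 8, true), (7, 70, true), (6, 59, true), (5, 49, true), (4, 40, true), (3, 32, true), (2, 25, true), (7, 113, true), (6, 99, true), (5, 74, true), (8, 116, true), (7, 102, true), (6, 77, true), (7, 117, true), (6, 103, true), (8, 114, true), (7, 100, true), (6, 87, true), (9, 116, true), (8, 102, true), (7, 89, true), (10, 117, true), (9, 103, true), (8, 90, true), (9, 115, true), (8, 101, true), (7, 76, true), (10, 117, true), (9, 103, true), (11, 118, true), (10, 104, true), (10, 119, true), (9, 89, true), (8, 77, true), (8, 84, true), (7, 61, true), (6, 51, true), (5, 42, true), (4, 34, true), (3, 27, true), (4, 112, true), (3, 85, true), (5, 116, true), (4, 89, true), (6, 118, true), (7, 119, true), (6, 99, true), (5, 86, true), (4,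 74, true), (7, 103, true), (6, 90, true), (6, 100, true), (5, 75, true), (7, 104, true), (7, 115, true), (6, 76, true), (8, 117, true), (9, 112, true), (8, 85, true), (7, 73, true), (6, 62, true), (5, 52, true), (4, 43, true), (3, 35, true), (4, 113, true), (3, 86, true), (5, 118, true), (6, 119, true), (5, 100, true), (4, 87, true), (6, 101, true), (5, 88, true), (7, 104, true), (7, 116, true), (6, 89, true), (8, 117, true), (7, 90, true), (7, 119, true), (6, 74, true), (5, 63, true), (4, 53, true), (3, 44, true), (4, 114, true), (3, 100, true), (5, 118, true), (4, 104, true), (4, 119, true), (5, 75, true), (4, 64, true), (3, 54, true), (4, 76, true), (3, 65, true), (3, 77, true), (3, 113, true), (4, 115, true), (5, 116, true), (6, 116, true), (5, 77, true), (5, 118, true), (6, 119, true), (5, 104, true), (4, 62, true), (3, 43, true), (6, 115, true), (5, 101, true), (7, 118, true), (6, 104, true), (6,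 119, true), (5, 63, true), (4, 44, true), (5, 115, true), (4, 101, true), (6, 119, true)], [(1, 24, true), (4, 96, true), (3, 60, true), (2, 26, true), (6, 101, true), (5, 88, true), (4, 76, true), (7, 103, true), (6, 90, true), (6, 104, true), (6, 118, true), (0, 122, true), (4, 124, true), (9, 128, true), (11, 129, true), (16, 131, true), (17, 132, true), (3, 108, true), (2, 39, true), (1, 31, true), (4, 113, true), (3, 86, true), (5, 116, true), (4, 89, true), (6, 119, true), (5, 82, true), (4, 70, true), (3, 40, true), (2, 32, true), (6, 113, true), (5, 99, true), (4, 74, true), (7, 116, true), (6, 102, true), (5, 77, true), (6, 117, true), (5, 103, true), (7, 116, true), (6, 102, true), (5, 89, true), (8, 117, true), (7, 103, true), (6, 90, true), (7, 113, true), (6, 99, true), (5, 74, true), (4, 44, true), (5, 116, true), (4, 102, true), (6, 118, true), (5, 104, true), (5, 119, true), (4, 77, true),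 (4, 100, true), (5, 103, true), (6, 100, true), (5, 87, true), (4, 54, true), (5, 101, true), (4, 88, true), (6, 103, true), (5, 90, true), (5, 104, true), (5, 118, true), (6, 119, true)]),
  ([16, 2, 7, 13, 2, 7, 13], [(0, 133, true), (7, 133, true), (6, 109, true), (5, 59, true), (4, 49, true), (3, 40, true), (2, 32, true), (1, 25, true), (0, 14, true), (4, 113, true), (3, 99, true), (2, 74, true), (5, 116, true), (4, 102, true), (3, 77, true), (4, 117, true), (3, 103, true), (5, 114, true), (4, 100, true), (3, 87, true), (6, 116, true), (5, 102, true), (4, 89, true), (7, 117, true), (6, 103, true), (5, 90, true), (6, 115, true), (5, 101, true), (4, 76, true), (7, 117, true), (6, 103, true), (8, 118, true), (7, 104, true), (7, 119, true), (7, 111, true), (6, 84, true), (5, 72, true), (4, 61, true), (3, 51, true), (2, 42, true), (1, 34, true), (0, 27, true), (1, 112, true), (0, 85, true), (2, 116, true),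 (1, 89, true), (3, 118, true), (4, 119, true), (3, 99, true), (2, 86, true), (1, 74, true), (4, 103, true), (3, 90, true), (3, 100, true), (2, 75, true), (4, 104, true), (4, 115, true), (3, 76, true), (5, 116, true), (4, 77, true), (4, 117, true), (5, 119, true), (4, 85, true), (3, 62, true), (2, 52, true), (1, 43, true), (0, 35, true), (1, 113, true), (0, 86, true), (2, 118, true), (3, 119, true), (2, 100, true), (1, 87, true), (3, 101, true), (2, 88, true), (4, 104, true), (4, 117, true), (3, 90, true), (3, 113, true), (2, 63, true), (1, 53, true), (0, 44, true), (1, 114, true), (0, 100, true), (2, 118, true), (1, 104, true), (1, 119, true), (2, 114, true), (1, 64, true), (0, 54, true), (1, 115, true), (0, 65, true), (0, 119, true)], [(3, 93, true), (2, 30, true), (1, 5, true), (4, 85, true), (3, 73, true), (2, 62, true), (1, 52, true), (5, 116, true), (4, 102, true), (6, 117, true), (5, 103, true),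 (7, 114, true), (6, 100, true), (5, 87, true), (4, 75, true), (3, 64, true), (2, 54, true), (6, 115, true), (5, 101, true), (4, 88, true), (3, 76, true), (2, 65, true), (5, 116, true), (4, 102, true), (3, 89, true), (2, 77, true), (4, 118, true), (3, 104, true), (3, 118, true), (4, 112, true), (3, 98, true), (2, 85, true), (1, 35, true), (2, 117, true), (1, 90, true), (1, 118, true), (2, 119, true), (1, 104, true)]),
  ([17, 8, 9, 10, 12, 0, 1, 3, 5, 6, 9, 11, 12], [(0, 137, true), (7, 135, true), (6, 81, true), (5, 39, true), (4, 31, true), (3, 24, true), (2, 18, true), (1, 13, true), (4, 50, true), (3, 41, true), (5, 87, true), (6, 89, true), (7, 90, true), (8, 113, true), (7, 99, true), (6, 74, true), (5, 53, true), (4, 44, true), (5, 114, true), (4, 100, true), (6, 118, true), (5, 104, true), (5, 119, true), (7, 115, true), (6, 101, true), (5, 76, true), (8, 117, true), (7, 103, true), (9, 111, true),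 (8, 97, true), (7, 84, true), (6, 72, true), (5, 61, true), (4, 51, true), (7, 115, true), (6, 101, true), (8, 116, true), (7, 102, true), (9, 117, true), (8, 103, true), (10, 118, true), (9, 104, true), (9, 119, true), (8, 88, true), (7, 76, true), (6, 65, true), (8, 98, true), (7, 85, true), (6, 73, true), (5, 52, true), (9, 103, true), (8, 90, true), (9, 113, true), (8, 99, true), (7, 74, true), (6, 53, true), (9, 116, true), (8, 102, true), (10, 118, true), (9, 104, true), (9, 119, true), (8, 77, true), (8, 83, true), (7, 50, true), (6, 41, true), (5, 33, true), (4, 26, true), (3, 20, true), (4, 97, true), (3, 84, true), (5, 102, true), (4, 89, true), (6, 103, true), (5, 90, true), (5, 104, true), (4, 73, true), (7, 99, true), (6, 86, true), (5, 74, true), (8, 103, true), (7, 90, true), (7, 100, true), (6, 75, true), (8, 102, true), (7, 77, true), (7, 103, true), (8, 104, true), (8, 117, true), (7,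 90, true), (7, 111, true), (6, 51, true), (5, 42, true), (4, 34, true), (3, 27, true), (4, 112, true), (3, 85, true), (5, 116, true), (4, 89, true), (6, 118, true), (7, 119, true), (6, 99, true), (5, 86, true), (4, 74, true), (7, 103, true), (6, 90, true), (6, 100, true), (5, 75, true), (7, 104, true), (7, 119, true), (6, 73, true), (5, 52, true), (4, 43, true), (3, 35, true), (4, 113, true), (3, 86, true), (5, 118, true), (6, 119, true), (5, 100, true), (4, 87, true), (6, 102, true), (5, 89, true), (7, 100, true), (6, 87, true), (5, 75, true), (4, 54, true), (6, 101, true), (5, 88, true), (4, 76, true), (7, 104, true)], [(4, 78, true), (3, 55, true), (2, 45, true), (1, 36, true), (4, 100, true), (3, 64, true), (5, 101, true), (4, 65, true), (4, 102, true), (5, 103, true), (6, 104, true), (5, 88, true), (4, 76, true), (6, 90, true), (6, 79, true), (5, 67, true), (4, 56, true), (3, 46, true), (2, 37, true),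 (5, 114, true), (4, 87, true), (6, 116, true), (5, 89, true), (7, 119, true), (6, 88, true), (5, 76, true), (7, 89, true), (6, 77, true), (6, 90, true), (8, 117, true), (7, 103, true), (9, 108, true), (8, 94, true), (7, 81, true), (6, 69, true), (5, 58, true), (4, 48, true), (3, 39, true), (5, 75, true), (6, 77, true), (8, 115, true), (7, 101, true), (6, 88, true), (9, 117, true), (8, 103, true), (7, 90, true), (8, 118, true), (7, 104, true), (7, 119, true), (9, 117, true), (8, 103, true), (10, 118, true), (9, 104, true), (9, 119, true), (8, 83, true), (7, 71, true), (6, 60, true), (5, 50, true), (4, 41, true), (6, 87, true), (7, 89, true), (8, 90, true), (9, 115, true), (8, 101, true), (7, 76, true), (10, 117, true), (9, 103, true), (11, 118, true), (10, 104, true), (10, 119, true), (9, 89, true), (8, 77, true), (8, 90, true), (7, 61, true), (6, 51, true), (5, 42, true), (7, 87, true), (10, 115, true),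 (9, 101, true), (8, 88, true), (11, 114, true), (10, 100, true), (9, 87, true), (8, 64, true), (7, 54, true), (10, 116, true), (9, 102, true), (8, 89, true), (11, 117, true), (10, 103, true), (9, 90, true), (9, 90, false), (10, 103, false), (11, 117, false), (7, 76, false), (8, 88, false), (9, 101, false), (10, 115, false), (7, 54, false), (8, 75, false), (9, 87, false), (10, 100, false), (11, 114, false), (9, 103, false), (10, 117, false), (8, 102, false), (9, 116, false), (6, 53, false), (7, 74, false), (8, 86, false), (0, 135, true), (8, 137, true), (7, 107, true), (6, 93, true), (5, 57, true), (4, 47, true), (3, 30, true), (2, 23, true), (1, 17, true), (0, 8, true), (7, 71, true), (6, 60, true), (5, 50, true), (4, 41, true), (3, 33, true), (2, 26, true), (6, 98, true), (5, 85, true), (4, 73, true), (7, 103, true), (6, 90, true), (6, 104, true), (5, 74, true), (7, 87, true), (6, 75, true), (8, 89,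 true), (7, 77, true), (7, 90, true), (8, 115, true), (7, 101, true), (9, 117, true), (8, 103, true), (10, 118, true), (9, 104, true), (9, 119, true), (8, 89, true), (9, 84, true), (8, 72, true), (7, 61, true), (6, 51, true), (5, 42, true), (4, 34, true), (3, 27, true), (4, 112, true), (3, 85, true), (5, 116, true), (4, 89, true), (6, 118, true), (7, 119, true), (6, 99, true), (5, 86, true), (4, 74, true), (7, 103, true), (6, 90, true), (6, 100, true), (5, 75, true), (7, 104, true), (7, 115, true), (6, 76, true), (8, 116, true), (7, 77, true), (7, 117, true), (8, 112, true), (7, 85, true), (6, 62, true), (5, 52, true), (4, 43, true), (3, 35, true), (4, 113, true), (3, 86, true), (5, 118, true), (6, 119, true), (5, 100, true), (4, 87, true), (6, 101, true), (5, 88, true), (7, 104, true), (7, 117, true), (6, 90, true), (6, 119, true), (5, 63, true), (4, 53, true), (3, 44, true), (4, 114, true), (3, 100,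 true), (5, 118, true), (4, 104, true), (4, 119, true), (6, 111, true), (5, 84, true), (4, 61, true), (3, 51, true), (6, 115, true), (5, 101, true), (7, 117, true), (6, 103, true), (8, 119, true), (7, 100, true), (6, 87, true), (5, 64, true), (4, 54, true), (6, 103, true), (5, 90, true), (5, 104, true), (4, 62, true), (7, 114, true), (6, 100, true), (5, 64, true), (8, 115, true), (7, 101, true), (6, 65, true), (7, 116, true), (6, 102, true), (8, 118, true), (7, 104, true), (7, 114, true), (6, 75, true), (5, 54, true), (6, 115, true), (5, 76, true), (7, 118, true), (8, 119, true), (7, 95, true), (6, 70, true), (5, 59, true), (4, 32, true), (3, 25, true), (2, 19, true), (6, 97, true), (5, 84, true), (4, 72, true), (7, 98, true), (6, 85, true), (5, 73, true), (8, 102, true), (7, 89, true), (6, 77, true), (7, 104, true), (7, 115, true), (6, 88, true), (8, 117, true), (7, 90, true), (7, 118, true), (8, 119,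 true), (7, 102, true), (8, 104, true), (7, 71, true), (6, 60, true), (5, 33, true), (4, 26, true), (3, 20, true), (4, 97, true), (3, 84, true), (5, 102, true), (4, 89, true), (6, 103, true), (5, 90, true), (5, 104, true), (4, 73, true), (7, 101, true), (6, 88, true), (5, 76, true), (8, 103, true), (7, 90, true), (7, 104, true), (7, 116, true), (6, 77, true), (6, 111, true), (5, 61, true), (4, 34, true), (3, 27, true), (4, 112, true), (3, 85, true), (5, 116, true), (4, 89, true), (6, 118, true), (7, 119, true), (6, 101, true), (5, 88, true), (4, 76, true), (8, 112, true), (7, 98, true), (6, 85, true), (5, 73, true), (4, 62, true), (3, 35, true), (4, 115, true), (3, 88, true), (5, 118, true), (6, 119, true), (5, 102, true), (4, 89, true), (6, 103, true), (5, 90, true), (5, 104, true), (5, 113, true), (4, 74, true), (3, 63, true), (6, 117, true)]),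
  ([18, 1, 1], [(0, 139, true), (8, 139, true), (7, 93, true), (6, 68, true), (5, 47, true), (4, 38, true), (3, 30, true), (2, 23, true), (1, 8, true), (0, 5, true), (3, 81, true), (2, 69, true), (1, 58, true), (0, 48, true), (5, 115, true), (4, 101, true), (3, 88, true), (2, 76, true), (6, 117, true), (5, 103, true), (4, 90, true), (5, 118, true), (4, 104, true), (4, 119, true), (3, 77, true), (4, 117, true), (3, 103, true), (5, 111, true), (4, 97, true), (3, 84, true), (2, 61, true), (1, 51, true), (4, 115, true), (3, 101, true), (5, 117, true), (4, 103, true), (6, 118, true), (5, 104, true), (5, 119, true), (4, 85, true), (3, 62, true), (2, 52, true), (6, 117, true), (5, 103, true), (7, 113, true), (6, 99, true), (5, 86, true), (4, 63, true), (3, 53, true), (6, 115, true), (5, 101, true), (7, 117, true), (6, 103, true), (8, 118, true), (7, 104, true), (7, 119, true), (6, 87, true), (5, 64, true), (4,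 54, true), (5, 88, true), (4, 65, true), (4, 89, true), (5, 84, true), (4, 72, true), (3, 42, true), (2, 34, true), (1, 27, true), (2, 112, true), (1, 85, true), (3, 116, true), (2, 89, true), (4, 118, true), (5, 119, true), (4, 99, true), (3, 86, true), (2, 74, true), (5, 103, true), (4, 90, true), (4, 102, true), (3, 77, true), (3, 103, true), (4, 100, true), (3, 87, true), (5, 103, true), (4, 90, true), (4, 104, true), (3, 52, true), (2, 43, true), (1, 35, true), (2, 113, true), (1, 86, true), (3, 118, true), (4, 119, true), (3, 100, true), (2, 87, true), (4, 100, true), (3, 87, true), (2, 54, true), (3, 101, true), (2, 88, true), (4, 102, true), (3, 89, true), (5, 104, true), (4, 86, true), (3, 74, true), (2, 63, true), (1, 44, true), (2, 115, true), (1, 101, true), (3, 116, true), (2, 102, true), (4, 117, true), (3, 103, true), (5, 115, true), (4, 101, true), (3, 88, true), (2, 76, true), (1, 65,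 true), (4, 116, true), (3, 102, true), (2, 89, true), (1, 77, true), (3, 114, true), (2, 100, true), (1, 87, true), (4, 116, true), (3, 102, true), (2, 89, true), (5, 118, true), (4, 104, true), (4, 119, true), (4, 94, true), (3, 81, true), (2, 69, true), (1, 48, true), (0, 9, true), (2, 64, true), (1, 54, true), (5, 116, true), (4, 102, true), (3, 89, true), (2, 77, true), (4, 118, true), (3, 104, true), (3, 119, true), (2, 90, true), (2, 97, true), (1, 61, true), (0, 42, true), (2, 88, true), (4, 98, true), (3, 85, true), (2, 62, true), (1, 43, true), (4, 115, true), (3, 101, true), (5, 118, true), (4, 104, true), (4, 119, true), (5, 99, true), (4, 86, true), (3, 63, true), (2, 44, true), (3, 115, true), (2, 101, true), (4, 117, true), (3, 103, true), (5, 118, true), (4, 104, true), (4, 114, true), (3, 87, true), (2, 64, true), (5, 116, true), (4, 89, true), (6, 118, true)], [(1, 2, true), (0, 145,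 true), (6, 146, true), (14, 147, true), (17, 148, true), (5, 95, true), (4, 70, true), (3, 59, true), (2, 49, true), (1, 19, true), (0, 14, true), (3, 100, true), (2, 87, true), (1, 75, true), (4, 102, true), (3, 89, true), (2, 77, true), (3, 103, true), (2, 90, true), (2, 101, true), (3, 103, true), (4, 104, true), (4, 116, true), (3, 89, true), (5, 118, true), (6, 110, true), (5, 96, true), (4, 83, true), (3, 71, true), (2, 60, true), (1, 50, true), (0, 20, true), (1, 100, true), (0, 87, true), (2, 102, true), (1, 89, true), (3, 103, true), (2, 90, true), (2, 104, true), (2, 115, true), (1, 76, true), (3, 117, true), (4, 118, true), (5, 119, true), (4, 102, true), (3, 89, true), (2, 77, true), (3, 103, true), (2, 90, true), (2, 104, true), (2, 111, true), (1, 61, true), (0, 51, true), (3, 115, true), (2, 101, true), (4, 119, true), (3, 98, true), (2, 62, true), (1, 52, true), (5, 118, true), (4, 104,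 true), (4, 114, true), (3, 64, true), (2, 54, true), (3, 115, true), (2, 65, true), (2, 117, true), (3, 119, true), (2, 88, true), (3, 89, true), (5, 100, true), (4, 87, true), (3, 75, true), (2, 64, true)]),
  ([18, 3, 1], [(0, 141, true), (6, 139, true), (5, 107, true), (4, 57, true), (3, 17, true), (2, 12, true), (1, 5, true), (4, 82, true), (3, 70, true), (2, 59, true), (1, 49, true), (4, 88, true), (3, 76, true), (5, 90, true), (6, 116, true), (5, 102, true), (4, 77, true), (5, 117, true), (4, 103, true), (6, 111, true), (5, 97, true), (4, 84, true), (3, 61, true), (2, 51, true), (5, 115, true), (4, 101, true), (6, 117, true), (5, 103, true), (7, 118, true), (6, 104, true), (6, 119, true), (5, 85, true), (4, 62, true), (3, 52, true), (7, 117, true), (6, 103, true), (8, 113, true), (7, 99, true), (6, 86, true), (5, 63, true), (4, 53, true), (7, 115, true), (6, 101, true), (8, 117, true), (7, 103,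 true), (9, 118, true), (8, 104, true), (8, 119, true), (7, 87, true), (6, 64, true), (5, 54, true), (6, 88, true), (5, 65, true), (5, 89, true), (7, 110, true), (6, 83, true), (5, 71, true), (4, 41, true), (3, 33, true), (2, 26, true), (6, 98, true), (5, 85, true), (4, 73, true), (7, 103, true), (6, 90, true), (6, 104, true), (5, 74, true), (7, 89, true), (6, 77, true), (6, 90, true), (6, 111, true), (5, 42, true), (4, 34, true), (3, 27, true), (4, 112, true), (3, 85, true), (5, 116, true), (4, 89, true), (6, 118, true), (7, 119, true), (6, 99, true), (5, 86, true), (4, 74, true), (7, 103, true), (6, 90, true), (7, 112, true), (6, 98, true), (5, 73, true), (4, 43, true), (3, 35, true), (4, 113, true), (3, 86, true), (5, 118, true), (6, 119, true), (5, 102, true), (4, 89, true), (6, 104, true), (6, 113, true), (5, 86, true), (4, 74, true), (3, 44, true), (4, 116, true), (3, 102, true), (5, 117, true),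 (4, 103, true), (6, 119, true), (5, 103, true), (4, 90, true), (5, 115, true), (4, 101, true), (3, 76, true), (6, 119, true), (5, 94, true), (4, 69, true), (3, 58, true), (2, 18, true), (1, 13, true), (4, 50, true), (3, 41, true), (5, 87, true), (6, 89, true), (7, 90, true), (8, 113, true), (7, 99, true), (6, 74, true), (5, 53, true), (4, 44, true), (5, 114, true), (4, 100, true), (6, 118, true), (5, 104, true), (5, 119, true), (7, 115, true), (6, 101, true), (5, 76, true), (8, 117, true), (7, 103, true), (9, 115, true), (8, 101, true), (7, 88, true), (6, 76, true), (5, 65, true), (8, 117, true), (7, 103, true), (6, 90, true), (7, 118, true), (6, 104, true), (6, 119, true), (5, 77, true), (6, 118, true), (5, 104, true), (5, 111, true), (4, 51, true), (7, 119, true), (6, 98, true), (5, 52, true), (7, 99, true), (6, 53, true), (9, 118, true), (8, 104, true), (8, 114, true), (7, 54, true), (7, 116, true),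 (8, 118, true)], [(1, 7, true), (0, 139, true), (8, 141, true), (14, 145, true), (20, 150, true), (7, 92, true), (6, 67, true), (5, 46, true), (4, 37, true), (3, 29, true), (2, 22, true), (1, 7, true), (0, 4, true), (8, 108, true), (7, 94, true), (6, 69, true), (5, 39, true), (4, 24, true), (3, 18, true), (2, 13, true), (5, 50, true), (4, 41, true), (6, 87, true), (7, 89, true), (8, 90, true), (9, 113, true), (8, 99, true), (7, 74, true), (6, 53, true), (5, 44, true), (6, 114, true), (5, 100, true), (7, 118, true), (6, 104, true), (6, 119, true), (8, 115, true), (7, 101, true), (6, 76, true), (9, 117, true), (8, 103, true), (10, 111, true), (9, 97, true), (8, 84, true), (7, 72, true), (6, 61, true), (5, 51, true), (8, 115, true), (7, 101, true), (9, 116, true), (8, 102, true), (10, 117, true), (9, 103, true), (11, 118, true), (10, 104, true), (10, 119, true), (9, 88, true), (8, 76, true), (7, 65, true),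 (9, 99, true), (8, 86, true), (7, 74, true), (6, 53, true), (9, 116, true), (8, 102, true), (10, 117, true), (9, 103, true), (11, 118, true), (10, 104, true), (10, 116, true), (9, 89, true), (8, 77, true), (9, 116, true), (8, 89, true), (10, 118, true), (11, 119, true), (10, 104, true), (10, 112, true), (9, 85, true), (8, 73, true), (7, 52, true), (6, 43, true), (9, 114, true), (8, 100, true), (10, 116, true), (9, 102, true), (11, 117, true), (10, 103, true), (12, 119, true), (11, 103, true), (10, 90, true), (10, 97, true), (9, 72, true), (8, 51, true), (7, 42, true), (6, 34, true), (5, 27, true), (6, 112, true), (5, 85, true), (7, 116, true), (6, 89, true), (8, 118, true), (9, 119, true), (8, 99, true), (7, 86, true), (6, 74, true), (9, 103, true), (8, 90, true), (8, 100, true), (7, 75, true), (9, 104, true), (9, 116, true), (8, 77, true), (8, 118, true), (9, 115, true), (8, 101, true), (10, 118, true),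 (9, 104, true), (9, 112, true), (8, 62, true), (7, 52, true), (6, 43, true), (5, 35, true), (6, 113, true), (5, 86, true), (7, 118, true), (8, 119, true), (7, 100, true), (6, 87, true), (8, 101, true), (7, 88, true), (9, 104, true), (9, 119, true), (8, 86, true), (7, 63, true), (6, 53, true), (5, 44, true), (6, 114, true), (5, 100, true), (7, 118, true), (6, 104, true), (6, 119, true), (7, 90, true), (7, 114, true), (6, 64, true), (5, 54, true), (6, 116, true), (7, 119, true), (6, 77, true), (7, 118, true), (6, 104, true), (6, 107, true), (5, 57, true), (4, 17, true), (3, 12, true), (2, 8, true), (1, 5, true), (4, 81, true), (3, 69, true), (2, 58, true), (1, 48, true), (6, 115, true), (5, 101, true), (4, 88, true), (3, 76, true), (7, 117, true), (6, 103, true), (5, 90, true), (6, 118, true), (5, 104, true), (5, 119, true), (4, 77, true), (5, 117, true), (4, 103, true), (6, 111, true), (5, 97, true), (4,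 84, true), (3, 61, true), (2, 51, true), (5, 115, true), (4, 101, true), (6, 117, true), (5, 103, true), (7, 118, true), (6, 104, true), (6, 119, true), (5, 85, true), (4, 62, true), (3, 52, true), (7, 117, true), (6, 103, true), (8, 113, true), (7, 99, true), (6, 86, true), (5, 63, true), (4, 53, true), (7, 115, true), (6, 101, true), (8, 117, true), (7, 103, true), (9, 118, true), (8, 104, true), (8, 119, true), (7, 87, true), (6, 64, true), (5, 54, true), (6, 88, true), (5, 65, true), (5, 89, true), (6, 82, true), (5, 70, true), (4, 40, true), (3, 32, true), (2, 25, true), (7, 113, true), (6, 99, true), (5, 74, true), (8, 116, true), (7, 102, true), (6, 77, true), (7, 117, true), (6, 103, true), (8, 116, true), (7, 102, true), (6, 89, true), (9, 117, true), (8, 103, true), (7, 90, true), (8, 111, true), (7, 97, true), (6, 72, true), (5, 42, true), (4, 34, true), (3, 27, true), (4, 112, true), (3, 85,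 true), (5, 116, true), (4, 89, true), (6, 118, true), (7, 119, true), (6, 99, true), (5, 86, true), (4, 74, true), (7, 103, true), (6, 90, true), (6, 102, true), (5, 77, true), (5, 104, true), (5, 112, true), (4, 43, true), (3, 35, true), (4, 113, true), (3, 86, true), (5, 118, true), (6, 119, true), (6, 113, true), (5, 99, true), (4, 86, true), (3, 44, true), (4, 117, true), (3, 103, true), (5, 118, true), (4, 104, true), (4, 119, true), (3, 87, true), (4, 88, true), (5, 89, true), (7, 110, true), (6, 83, true), (5, 71, true), (4, 60, true), (3, 50, true), (8, 115, true), (7, 101, true), (6, 88, true), (5, 76, true), (9, 117, true), (8, 103, true), (7, 90, true), (8, 118, true), (7, 104, true), (7, 119, true), (6, 77, true), (7, 111, true), (6, 84, true), (5, 61, true), (4, 51, true), (7, 115, true), (6, 101, true), (8, 117, true), (7, 103, true), (9, 119, true), (8, 98, true), (7, 85, true), (6, 62,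 true), (5, 52, true), (9, 117, true), (8, 103, true), (10, 118, true), (9, 104, true), (9, 113, true), (8, 86, true), (7, 63, true), (6, 53, true), (9, 115, true), (8, 101, true), (10, 117, true), (9, 103, true), (11, 119, true), (10, 103, true), (9, 90, true), (10, 115, true), (9, 101, true), (8, 65, true), (9, 119, true), (8, 95, true), (7, 49, true), (6, 40, true), (5, 32, true), (4, 25, true), (3, 19, true), (2, 14, true), (5, 97, true), (4, 84, true), (3, 72, true), (6, 98, true), (5, 85, true), (4, 73, true), (7, 102, true), (6, 89, true), (5, 77, true), (6, 104, true), (6, 113, true), (5, 86, true), (7, 116, true), (6, 89, true), (8, 117, true), (7, 90, true), (7, 114, true), (6, 75, true), (8, 116, true), (7, 77, true), (7, 117, true), (8, 118, true), (9, 110, true), (8, 96, true), (7, 83, true), (6, 50, true), (5, 41, true), (4, 33, true), (3, 26, true), (2, 20, true), (3, 97, true), (2, 84,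 true), (4, 102, true), (3, 89, true), (5, 103, true), (4, 90, true), (4, 104, true), (3, 73, true), (6, 99, true), (5, 86, true), (4, 74, true), (7, 103, true), (6, 90, true), (6, 100, true), (5, 75, true), (7, 102, true), (6, 77, true), (6, 103, true), (7, 104, true), (7, 117, true), (6, 90, true), (6, 118, true), (7, 119, true), (6, 101, true), (8, 109, true), (7, 95, true), (6, 59, true), (5, 49, true), (4, 40, true), (3, 32, true), (2, 25, true), (7, 113, true), (6, 99, true), (5, 74, true), (8, 116, true), (7, 102, true), (6, 77, true), (7, 117, true), (6, 103, true), (8, 114, true), (7, 100, true), (6, 87, true), (9, 116, true), (8, 102, true), (7, 89, true), (10, 117, true), (9, 103, true), (8, 90, true), (9, 115, true), (8, 101, true), (7, 76, true), (10, 117, true), (9, 103, true), (11, 118, true), (10, 104, true), (10, 119, true), (11, 110, true), (10, 96, true), (9, 83, true), (8, 71, true),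 (7, 60, true), (6, 50, true), (5, 41, true), (4, 33, true), (3, 26, true), (7, 98, true), (6, 85, true), (5, 73, true), (8, 103, true), (7, 90, true), (7, 104, true), (6, 74, true), (8, 87, true), (7, 75, true), (9, 89, true), (8, 77, true), (8, 90, true), (9, 115, true), (8, 101, true), (10, 117, true), (9, 103, true), (11, 118, true), (10, 104, true), (10, 119, true), (9, 89, true), (10, 90, true), (11, 114, true), (10, 100, true), (9, 75, true), (8, 64, true), (7, 54, true), (10, 115, true), (9, 101, true), (8, 76, true), (7, 65, true), (9, 116, true), (8, 102, true), (7, 77, true), (8, 118, true), (7, 104, true), (7, 116, true), (8, 118, true)]),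
  ([18, 3, 2], [(0, 141, true), (6, 140, true), (5, 107, true), (4, 57, true), (3, 17, true), (2, 12, true), (1, 5, true), (4, 82, true), (3, 70, true), (2, 59, true), (1, 49, true), (4, 88, true), (3, 76, true), (5, 90, true), (6, 116, true), (5, 102, true), (4, 77, true), (5, 117, true), (4, 103, true), (6, 111, true), (5, 97, true), (4, 84, true), (3, 61, true), (2, 51, true), (5, 115, true), (4, 101, true), (6, 117, true), (5, 103, true), (7, 118, true), (6, 104, true), (6, 119, true), (5, 85, true), (4, 62, true), (3, 52, true), (7, 117, true), (6, 103, true), (8, 113, true), (7, 99, true), (6, 86, true), (5, 63, true), (4, 53, true), (7, 115, true), (6, 101, true), (8, 117, true), (7, 103, true), (9, 118, true), (8, 104, true), (8, 119, true), (7, 87, true), (6, 64, true), (5, 54, true), (6, 88, true), (5, 65, true), (5, 89, true), (7, 110, true), (6, 83, true), (5, 71, true), (4, 41, true), (3,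 33, true), (2, 26, true), (6, 98, true), (5, 85, true), (4, 73, true), (7, 103, true), (6, 90, true), (6, 104, true), (5, 74, true), (7, 89, true), (6, 77, true), (6, 90, true), (6, 111, true), (5, 42, true), (4, 34, true), (3, 27, true), (4, 112, true), (3, 85, true), (5, 116, true), (4, 89, true), (6, 118, true), (7, 119, true), (6, 99, true), (5, 86, true), (4, 74, true), (7, 103, true), (6, 90, true), (7, 112, true), (6, 98, true), (5, 73, true), (4, 43, true), (3, 35, true), (4, 113, true), (3, 86, true), (5, 118, true), (6, 119, true), (5, 102, true), (4, 89, true), (6, 104, true), (6, 113, true), (5, 86, true), (4, 74, true), (3, 44, true), (4, 116, true), (3, 102, true), (5, 117, true), (4, 103, true), (6, 119, true), (5, 103, true), (4, 90, true), (5, 115, true), (4, 101, true), (3, 76, true), (6, 119, true), (5, 97, true), (4, 72, true), (3, 61, true), (6, 98, true), (5, 73, true), (4, 62, true),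 (7, 116, true), (6, 102, true), (8, 118, true), (7, 104, true), (7, 113, true), (6, 74, true), (5, 63, true), (8, 116, true), (7, 77, true), (7, 119, true)], [(1, 8, true), (0, 140, true), (6, 141, true), (12, 144, true), (18, 145, true), (24, 146, true), (32, 147, true), (35, 148, true), (37, 149, true), (5, 106, true), (4, 67, true), (3, 37, true), (2, 29, true), (1, 22, true), (0, 4, true), (8, 111, true), (7, 97, true), (6, 72, true), (5, 42, true), (4, 27, true), (5, 113, true), (4, 86, true), (6, 117, true), (5, 90, true), (5, 116, true), (6, 118, true), (7, 119, true), (6, 101, true), (5, 76, true), (7, 104, true), (6, 73, true), (5, 62, true), (4, 43, true), (7, 115, true), (6, 101, true), (8, 118, true), (7, 104, true), (7, 119, true), (7, 74, true), (6, 63, true), (5, 44, true), (6, 115, true), (5, 101, true), (7, 116, true), (6, 102, true), (8, 117, true), (7, 103, true), (9, 119, true), (8,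 102, true), (7, 89, true), (6, 77, true), (7, 104, true), (7, 119, true), (6, 80, true), (5, 57, true), (4, 30, true), (3, 17, true), (2, 12, true), (1, 5, true), (4, 82, true), (3, 70, true), (2, 59, true), (1, 49, true), (4, 88, true), (3, 76, true), (5, 90, true), (6, 116, true), (5, 102, true), (4, 77, true), (5, 117, true), (4, 103, true), (6, 111, true), (5, 97, true), (4, 84, true), (3, 61, true), (2, 51, true), (5, 115, true), (4, 101, true), (6, 117, true), (5, 103, true), (7, 118, true), (6, 104, true), (6, 119, true), (5, 85, true), (4, 62, true), (3, 52, true), (7, 117, true), (6, 103, true), (8, 113, true), (7, 99, true), (6, 86, true), (5, 63, true), (4, 53, true), (7, 115, true), (6, 101, true), (8, 117, true), (7, 103, true), (9, 118, true), (8, 104, true), (8, 119, true), (7, 87, true), (6, 64, true), (5, 54, true), (6, 88, true), (5, 65, true), (5, 89, true), (7, 110, true), (6, 83,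 true), (5, 71, true), (4, 41, true), (3, 33, true), (2, 26, true), (6, 98, true), (5, 85, true), (4, 73, true), (7, 103, true), (6, 90, true), (6, 104, true), (5, 74, true), (7, 89, true), (6, 77, true), (6, 90, true), (6, 111, true), (5, 42, true), (4, 34, true), (3, 27, true), (4, 112, true), (3, 85, true), (5, 116, true), (4, 89, true), (6, 118, true), (7, 119, true), (6, 99, true), (5, 86, true), (4, 74, true), (7, 103, true), (6, 90, true), (7, 112, true), (6, 98, true), (5, 73, true), (4, 43, true), (3, 35, true), (4, 113, true), (3, 86, true), (5, 118, true), (6, 119, true), (5, 102, true), (4, 89, true), (6, 104, true), (6, 113, true), (5, 86, true), (4, 74, true), (3, 44, true), (4, 116, true), (3, 102, true), (5, 117, true), (4, 103, true), (6, 119, true), (5, 103, true), (4, 90, true), (5, 112, true), (4, 98, true), (3, 73, true), (6, 114, true), (5, 100, true), (4, 75, true), (7, 115, true),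 (6, 101, true), (5, 76, true), (8, 116, true), (7, 102, true), (6, 77, true), (7, 118, true), (6, 104, true), (6, 115, true), (5, 65, true), (5, 117, true), (6, 118, true), (7, 119, true), (6, 95, true), (5, 82, true), (4, 49, true), (3, 32, true), (2, 19, true), (1, 14, true), (4, 98, true), (3, 85, true), (2, 73, true), (5, 102, true), (4, 89, true), (3, 77, true), (4, 104, true), (4, 114, true), (3, 87, true), (5, 116, true), (4, 89, true), (6, 117, true), (5, 90, true), (5, 117, true), (6, 118, true), (7, 110, true), (6, 96, true), (5, 83, true), (4, 71, true), (3, 50, true), (2, 33, true), (1, 20, true), (2, 98, true), (1, 85, true), (3, 103, true), (2, 90, true), (2, 104, true), (6, 116, true), (5, 102, true), (4, 89, true), (3, 77, true), (5, 117, true), (4, 103, true), (3, 90, true), (4, 118, true), (3, 104, true), (3, 119, true), (4, 109, true), (3, 59, true), (2, 49, true), (1, 32, true), (5,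 114, true), (4, 100, true), (3, 75, true), (6, 116, true), (5, 102, true), (4, 77, true), (5, 117, true), (4, 103, true), (6, 115, true), (5, 101, true), (4, 88, true), (7, 117, true), (6, 103, true), (5, 90, true), (6, 118, true), (5, 104, true), (5, 119, true), (5, 110, true), (4, 60, true), (3, 50, true), (2, 33, true), (5, 100, true), (4, 87, true), (6, 102, true), (5, 89, true), (7, 103, true), (6, 90, true), (6, 104, true), (6, 115, true), (5, 76, true), (7, 117, true), (8, 118, true), (9, 119, true), (9, 112, true), (8, 98, true), (7, 85, true), (6, 73, true), (5, 62, true), (4, 52, true), (3, 35, true), (4, 114, true), (3, 87, true), (5, 115, true), (4, 88, true), (6, 118, true), (7, 119, true), (6, 102, true), (5, 89, true), (7, 103, true), (6, 90, true), (6, 104, true), (6, 113, true), (5, 74, true), (4, 63, true), (3, 53, true), (6, 115, true), (5, 101, true), (7, 116, true), (6, 102, true),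 (8, 119, true), (7, 101, true), (6, 76, true), (5, 65, true), (6, 103, true), (7, 95, true), (6, 82, true), (5, 70, true), (4, 49, true), (3, 40, true), (2, 19, true), (1, 14, true), (4, 99, true), (3, 86, true), (2, 74, true), (5, 102, true), (4, 89, true), (3, 77, true), (4, 103, true), (3, 90, true), (3, 100, true), (4, 102, true), (5, 103, true), (6, 102, true), (5, 89, true), (4, 77, true), (5, 103, true), (4, 90, true), (4, 104, true), (3, 50, true), (2, 41, true), (1, 20, true), (2, 99, true), (1, 86, true), (3, 103, true), (2, 90, true), (2, 100, true), (3, 102, true), (4, 103, true), (5, 104, true), (5, 114, true), (4, 87, true), (3, 75, true), (2, 54, true), (4, 115, true), (3, 88, true), (2, 76, true), (5, 116, true), (4, 89, true), (3, 77, true), (4, 118, true), (5, 109, true), (4, 95, true), (3, 82, true), (2, 59, true), (1, 40, true), (4, 88, true), (3, 76, true), (5, 90, true), (6, 117,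 true), (5, 103, true), (7, 118, true), (6, 104, true), (6, 119, true), (5, 83, true), (4, 71, true), (3, 60, true), (2, 41, true), (4, 88, true), (5, 90, true), (6, 116, true), (5, 102, true), (7, 117, true), (6, 103, true), (8, 111, true), (7, 97, true), (6, 84, true), (5, 72, true), (4, 61, true), (3, 42, true), (5, 88, true), (6, 89, true), (7, 90, true), (8, 112, true), (7, 98, true), (6, 73, true), (5, 62, true), (4, 43, true), (7, 115, true), (6, 101, true), (8, 118, true), (7, 104, true), (7, 119, true), (9, 114, true), (8, 100, true), (7, 75, true), (6, 64, true), (10, 115, true), (9, 101, true), (8, 76, true), (7, 65, true), (9, 117, true), (8, 103, true), (10, 119, true), (9, 101, true), (8, 88, true), (7, 76, true), (10, 102, true), (9, 89, true), (8, 77, true), (9, 104, true), (8, 87, true), (7, 64, true), (6, 54, true), (8, 117, true), (7, 90, true), (7, 119, true)])]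

/-- a block of eqs -/
def twoEqs19 : List (Pair) := [
  ([18, 3, 3], [(0, 141, true), (6, 141, true), (5, 106, true), (4, 56, true), (3, 16, true), (2, 11, true), (1, 4, true), (0, 2, true), (3, 57, true), (2, 47, true), (1, 38, true), (0, 30, true), (5, 99, true), (4, 74, true), (3, 63, true), (2, 53, true), (5, 115, true), (4, 101, true), (6, 116, true), (5, 102, true), (7, 118, true), (6, 104, true), (6, 115, true), (5, 76, true), (4, 65, true), (5, 116, true), (4, 77, true), (4, 114, true), (3, 54, true), (3, 115, true), (4, 109, true), (3, 59, true), (2, 40, true), (1, 32, true), (5, 113, true), (4, 99, true), (3, 74, true), (6, 116, true), (5, 102, true), (4, 77, true), (5, 117, true), (4, 103, true), (6, 115, true), (5, 101, true), (4, 88, true), (7, 117, true), (6, 103, true), (5, 90, true), (6, 118, true), (5, 104, true), (5, 119, true), (5, 110, true), (4, 60, true), (3, 41, true), (2, 33,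 true), (5, 99, true), (4, 86, true), (6, 103, true), (5, 90, true), (5, 101, true), (6, 103, true), (7, 104, true), (7, 119, true), (6, 84, true), (5, 61, true), (4, 42, true), (3, 34, true), (7, 113, true), (6, 99, true), (5, 74, true), (8, 117, true), (7, 103, true), (9, 115, true), (8, 101, true), (7, 88, true), (6, 76, true), (10, 117, true), (9, 103, true), (8, 90, true), (9, 113, true), (8, 99, true), (7, 74, true), (6, 63, true), (5, 44, true), (6, 115, true), (5, 101, true), (7, 116, true), (6, 102, true), (8, 118, true), (7, 104, true), (7, 119, true), (6, 77, true), (7, 109, true), (6, 95, true), (5, 59, true), (4, 32, true), (3, 25, true), (2, 19, true), (1, 14, true), (4, 97, true), (3, 84, true), (2, 72, true), (5, 98, true), (4, 85, true), (3, 73, true), (6, 102, true), (5, 89, true), (4, 77, true), (5, 104, true), (5, 115, true), (4, 88, true), (6, 117, true), (5, 90, true), (5, 118, true),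 (6, 119, true), (5, 104, true), (5, 113, true), (4, 63, true), (6, 114, true), (5, 64, true), (7, 117, true), (8, 119, true), (7, 83, true), (6, 60, true), (5, 50, true), (4, 41, true), (3, 33, true), (2, 26, true), (1, 20, true), (2, 97, true), (1, 84, true), (3, 102, true), (2, 89, true), (4, 103, true), (3, 90, true), (3, 104, true), (2, 73, true), (5, 99, true), (4, 86, true), (3, 74, true), (6, 103, true), (5, 90, true), (5, 100, true), (4, 75, true), (6, 102, true), (5, 77, true), (5, 103, true), (6, 104, true), (6, 115, true), (5, 88, true), (7, 117, true), (6, 90, true), (6, 118, true), (7, 119, true), (6, 103, true), (7, 99, true), (6, 86, true), (5, 63, true), (4, 53, true), (3, 44, true), (4, 114, true), (3, 100, true), (5, 118, true), (4, 104, true), (4, 119, true), (6, 101, true), (5, 88, true), (4, 65, true), (5, 103, true), (4, 90, true), (4, 104, true), (4, 115, true), (5, 116, true),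 (6, 117, true), (7, 119, true), (6, 80, true), (5, 68, true), (4, 57, true), (3, 47, true), (2, 30, true), (1, 23, true), (0, 5, true), (3, 84, true), (2, 72, true), (1, 61, true), (0, 51, true), (3, 115, true), (2, 101, true), (4, 116, true), (3, 102, true), (5, 117, true), (4, 103, true), (6, 114, true), (5, 100, true), (4, 87, true), (3, 75, true), (2, 64, true), (1, 54, true), (5, 117, true), (4, 103, true), (3, 90, true), (4, 118, true), (3, 104, true), (3, 112, true), (2, 73, true), (1, 62, true), (4, 116, true), (3, 102, true), (5, 119, true), (4, 100, true), (3, 75, true), (2, 64, true), (5, 101, true), (4, 76, true), (3, 65, true), (4, 102, true), (3, 77, true), (3, 104, true), (2, 54, true), (5, 117, true), (4, 103, true), (6, 118, true), (5, 104, true), (5, 119, true), (4, 82, true), (3, 70, true), (2, 59, true), (1, 32, true), (0, 25, true), (5, 115, true), (4, 101, true), (3, 76, true), (6,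 117, true), (5, 103, true), (7, 118, true), (6, 104, true), (6, 119, true), (5, 89, true), (4, 77, true), (4, 90, true), (3, 60, true), (2, 33, true), (1, 26, true), (5, 98, true), (4, 85, true), (3, 73, true), (6, 103, true), (5, 90, true), (5, 104, true), (4, 76, true), (8, 115, true), (7, 101, true), (6, 88, true), (5, 76, true), (4, 65, true), (7, 119, true)], [(1, 9, true), (0, 146, true), (8, 147, true), (11, 148, true), (7, 115, true), (6, 88, true), (5, 65, true), (6, 116, true), (5, 89, true), (7, 118, true), (8, 114, true), (7, 100, true), (6, 87, true), (5, 75, true), (4, 54, true), (7, 119, true)]),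
  ([18, 4, 1], [(0, 142, true), (7, 139, true), (6, 107, true), (5, 68, true), (4, 57, true), (3, 47, true), (2, 12, true), (1, 8, true), (8, 70, true), (7, 59, true), (6, 49, true), (5, 40, true), (4, 32, true), (3, 25, true), (8, 113, true), (7, 99, true), (6, 74, true), (9, 116, true), (8, 102, true), (7, 77, true), (8, 117, true), (7, 103, true), (9, 114, true), (8, 100, true), (7, 87, true), (10, 116, true), (9, 102, true), (8, 89, true), (11, 117, true), (10, 103, true), (9, 90, true), (10, 115, true), (9, 101, true), (8, 76, true), (11, 117, true), (10, 103, true), (12, 118, true), (11, 104, true), (11, 119, true), (10, 89, true), (9, 77, true), (9, 84, true), (8, 61, true), (7, 51, true), (6, 42, true), (5, 34, true), (4, 27, true), (5, 112, true), (4, 85, true), (6, 116, true), (5, 89, true), (7, 118, true), (8, 119, true), (7, 99, true), (6, 86, true), (5, 74, true), (8, 103, true), (7, 90,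 true), (7, 100, true), (6, 75, true), (8, 104, true), (8, 115, true), (7, 76, true), (9, 117, true), (10, 112, true), (9, 85, true), (8, 73, true), (7, 62, true), (6, 52, true), (5, 43, true), (4, 35, true), (5, 113, true), (4, 86, true), (6, 118, true), (7, 119, true), (6, 100, true), (5, 87, true), (7, 101, true), (6, 88, true), (8, 104, true), (8, 116, true), (7, 89, true), (9, 117, true), (8, 90, true), (8, 119, true), (7, 74, true), (6, 63, true), (5, 53, true), (4, 44, true), (5, 114, true), (4, 100, true), (6, 118, true), (5, 104, true), (5, 119, true), (6, 75, true), (5, 64, true), (4, 54, true), (5, 76, true), (4, 65, true), (4, 77, true), (4, 114, true), (5, 115, true), (6, 116, true), (7, 118, true), (8, 119, true), (8, 108, true), (7, 94, true), (6, 69, true), (5, 58, true), (4, 48, true), (3, 13, true), (2, 9, true), (4, 59, true), (3, 49, true), (2, 40, true), (5, 87, true), (4, 75, true),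 (6, 89, true), (5, 77, true), (5, 90, true), (8, 113, true), (7, 99, true), (6, 86, true), (5, 63, true), (4, 53, true), (3, 44, true), (4, 114, true), (3, 100, true), (5, 118, true), (4, 104, true), (4, 119, true), (7, 114, true), (6, 100, true), (5, 87, true), (4, 64, true), (3, 54, true), (6, 114, true), (5, 100, true), (4, 87, true), (3, 64, true), (7, 116, true), (6, 102, true), (5, 89, true), (8, 117, true), (7, 103, true), (6, 90, true), (7, 118, true), (6, 104, true), (6, 119, true), (5, 76, true), (4, 65, true), (7, 116, true), (6, 102, true), (5, 89, true), (4, 77, true), (6, 118, true), (5, 104, true), (5, 119, true), (6, 111, true), (5, 97, true), (4, 84, true), (3, 51, true), (6, 117, true), (5, 103, true), (7, 118, true), (6, 104, true), (6, 119, true), (5, 85, true), (4, 52, true), (6, 86, true), (5, 53, true), (8, 117, true), (7, 103, true), (9, 114, true), (8, 100, true), (7, 87, true),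 (6, 54, true), (8, 116, true), (7, 102, true), (6, 89, true), (9, 118, true), (8, 104, true)], [(1, 11, true), (0, 139, true), (8, 142, true), (15, 146, true), (23, 147, true), (26, 150, true), (28, 152, true), (7, 92, true), (6, 67, true), (5, 46, true), (4, 37, true), (3, 29, true), (2, 22, true), (1, 7, true), (0, 4, true), (8, 108, true), (7, 94, true), (6, 69, true), (5, 39, true), (4, 24, true), (3, 18, true), (2, 13, true), (5, 50, true), (4, 41, true), (6, 87, true), (7, 89, true), (8, 90, true), (9, 113, true), (8, 99, true), (7, 74, true), (6, 53, true), (5, 44, true), (6, 114, true), (5, 100, true), (7, 118, true), (6, 104, true), (6, 119, true), (8, 115, true), (7, 101, true), (6, 76, true), (9, 117, true), (8, 103, true), (10, 111, true), (9, 97, true), (8, 84, true), (7, 72, true), (6, 61, true), (5, 51, true), (8, 115, true), (7, 101, true), (9, 116, true), (8, 102, true), (10, 117, true),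 (9, 103, true), (11, 118, true), (10, 104, true), (10, 119, true), (9, 88, true), (8, 76, true), (7, 65, true), (9, 99, true), (8, 86, true), (7, 74, true), (6, 53, true), (9, 116, true), (8, 102, true), (10, 117, true), (9, 103, true), (11, 118, true), (10, 104, true), (10, 116, true), (9, 89, true), (8, 77, true), (9, 116, true), (8, 89, true), (10, 118, true), (11, 119, true), (10, 104, true), (10, 112, true), (9, 85, true), (8, 73, true), (7, 52, true), (6, 43, true), (9, 114, true), (8, 100, true), (10, 116, true), (9, 102, true), (11, 117, true), (10, 103, true), (12, 119, true), (11, 103, true), (10, 90, true), (10, 97, true), (9, 72, true), (8, 51, true), (7, 42, true), (6, 34, true), (5, 27, true), (6, 112, true), (5, 85, true), (7, 116, true), (6, 89, true), (8, 118, true), (9, 119, true), (8, 99, true), (7, 86, true), (6, 74, true), (9, 103, true), (8, 90, true), (8, 100, true), (7, 75, true),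 (9, 104, true), (9, 116, true), (8, 77, true), (8, 118, true), (9, 115, true), (8, 101, true), (10, 118, true), (9, 104, true), (9, 112, true), (8, 62, true), (7, 52, true), (6, 43, true), (5, 35, true), (6, 113, true), (5, 86, true), (7, 118, true), (8, 119, true), (7, 100, true), (6, 87, true), (8, 101, true), (7, 88, true), (9, 104, true), (9, 119, true), (8, 86, true), (7, 63, true), (6, 53, true), (5, 44, true), (6, 114, true), (5, 100, true), (7, 118, true), (6, 104, true), (6, 119, true), (7, 90, true), (7, 114, true), (6, 64, true), (5, 54, true), (6, 116, true), (7, 119, true), (6, 77, true), (7, 118, true), (6, 104, true), (6, 108, true), (5, 58, true), (4, 18, true), (3, 13, true), (2, 9, true), (4, 59, true), (3, 49, true), (2, 40, true), (5, 87, true), (4, 75, true), (6, 89, true), (5, 77, true), (5, 90, true), (8, 113, true), (7, 99, true), (6, 86, true), (5, 63, true), (4, 53, true), (3,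 44, true), (4, 114, true), (3, 100, true), (5, 118, true), (4, 104, true), (4, 119, true), (7, 114, true), (6, 100, true), (5, 87, true), (4, 64, true), (3, 54, true), (6, 110, true), (5, 96, true), (4, 83, true), (3, 60, true), (7, 117, true), (6, 103, true), (5, 90, true), (6, 118, true), (5, 104, true), (5, 119, true), (4, 63, true), (5, 65, true), (5, 88, true), (6, 90, true), (7, 119, true), (6, 95, true), (5, 59, true), (4, 40, true), (3, 19, true), (2, 14, true), (5, 99, true), (4, 86, true), (3, 74, true), (6, 102, true), (5, 89, true), (4, 77, true), (5, 103, true), (4, 90, true), (4, 101, true), (5, 103, true), (6, 104, true), (6, 118, true), (7, 114, true), (6, 100, true), (5, 87, true), (4, 64, true), (8, 115, true), (7, 101, true), (6, 88, true), (5, 65, true), (7, 116, true), (6, 102, true), (5, 89, true), (8, 119, true), (7, 95, true), (6, 82, true), (5, 70, true), (4, 49, true), (3, 40,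 true), (2, 19, true), (6, 99, true), (5, 86, true), (4, 74, true), (7, 102, true), (6, 89, true), (5, 77, true), (6, 103, true), (5, 90, true), (5, 100, true), (6, 102, true), (7, 103, true), (8, 102, true), (7, 89, true), (6, 77, true), (7, 103, true), (6, 90, true), (6, 104, true), (5, 50, true), (4, 41, true), (3, 20, true), (4, 99, true), (3, 86, true), (5, 103, true), (4, 90, true), (4, 100, true), (5, 102, true), (6, 103, true), (7, 104, true), (7, 111, true), (6, 84, true), (5, 72, true), (4, 51, true), (3, 42, true), (5, 87, true), (8, 116, true), (7, 102, true), (6, 89, true), (9, 117, true), (8, 103, true), (7, 90, true), (8, 119, true), (7, 98, true), (6, 73, true), (5, 52, true), (4, 43, true), (7, 114, true), (6, 100, true), (8, 116, true), (7, 102, true), (9, 118, true), (8, 104, true), (8, 114, true), (7, 75, true), (6, 54, true), (7, 115, true), (6, 76, true), (8, 117, true), (9, 119,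 true), (8, 88, true), (7, 76, true), (6, 65, true), (7, 89, true), (6, 77, true), (7, 102, true), (6, 89, true), (8, 104, true)]),
  ([18, 4, 2], [(0, 142, true), (7, 140, true), (6, 107, true), (5, 68, true), (4, 57, true), (3, 47, true), (2, 12, true), (1, 8, true), (8, 70, true), (7, 59, true), (6, 49, true), (5, 40, true), (4, 32, true), (3, 25, true), (8, 113, true), (7, 99, true), (6, 74, true), (9, 116, true), (8, 102, true), (7, 77, true), (8, 117, true), (7, 103, true), (9, 114, true), (8, 100, true), (7, 87, true), (10, 116, true), (9, 102, true), (8, 89, true), (11, 117, true), (10, 103, true), (9, 90, true), (10, 115, true), (9, 101, true), (8, 76, true), (11, 117, true), (10, 103, true), (12, 118, true), (11, 104, true), (11, 119, true), (10, 89, true), (9, 77, true), (9, 84, true), (8, 61, true), (7, 51, true), (6, 42, true), (5, 34, true), (4, 27, true), (5, 112, true), (4, 85, true), (6,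 116, true), (5, 89, true), (7, 118, true), (8, 119, true), (7, 99, true), (6, 86, true), (5, 74, true), (8, 103, true), (7, 90, true), (7, 100, true), (6, 75, true), (8, 104, true), (8, 115, true), (7, 76, true), (9, 117, true), (10, 112, true), (9, 85, true), (8, 73, true), (7, 62, true), (6, 52, true), (5, 43, true), (4, 35, true), (5, 113, true), (4, 86, true), (6, 118, true), (7, 119, true), (6, 100, true), (5, 87, true), (7, 101, true), (6, 88, true), (8, 104, true), (8, 116, true), (7, 89, true), (9, 117, true), (8, 90, true), (8, 119, true), (7, 74, true), (6, 63, true), (5, 53, true), (4, 44, true), (5, 114, true), (4, 100, true), (6, 118, true), (5, 104, true), (5, 119, true), (6, 75, true), (5, 64, true), (4, 54, true), (5, 76, true), (4, 65, true), (4, 77, true), (4, 114, true), (5, 115, true), (6, 116, true), (7, 118, true), (8, 119, true), (8, 111, true), (7, 97, true), (6, 72, true), (5,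 61, true), (4, 51, true), (7, 115, true), (6, 101, true), (8, 116, true), (7, 102, true), (9, 118, true), (8, 104, true), (8, 119, true), (7, 73, true), (6, 62, true), (5, 52, true), (9, 116, true), (8, 102, true), (10, 113, true), (9, 99, true), (8, 74, true), (7, 63, true), (6, 53, true), (9, 115, true), (8, 101, true), (10, 116, true), (9, 102, true), (11, 118, true), (10, 104, true), (10, 119, true), (9, 77, true)], [(1, 12, true), (0, 140, true), (6, 142, true), (13, 144, true), (19, 145, true), (25, 146, true), (33, 147, true), (36, 148, true), (38, 149, true), (40, 152, true), (5, 106, true), (4, 67, true), (3, 37, true), (2, 29, true), (1, 22, true), (0, 4, true), (8, 111, true), (7, 97, true), (6, 72, true), (5, 42, true), (4, 27, true), (5, 113, true), (4, 86, true), (6, 117, true), (5, 90, true), (5, 116, true), (6, 118, true), (7, 119, true), (6, 101, true), (5, 76, true), (7, 104, true),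 (6, 73, true), (5, 62, true), (4, 43, true), (7, 115, true), (6, 101, true), (8, 118, true), (7, 104, true), (7, 119, true), (7, 74, true), (6, 63, true), (5, 44, true), (6, 115, true), (5, 101, true), (7, 116, true), (6, 102, true), (8, 117, true), (7, 103, true), (9, 119, true), (8, 102, true), (7, 89, true), (6, 77, true), (7, 104, true), (7, 119, true), (6, 81, true), (5, 58, true), (4, 31, true), (3, 18, true), (2, 13, true), (5, 50, true), (4, 41, true), (6, 87, true), (7, 89, true), (8, 90, true), (9, 113, true), (8, 99, true), (7, 74, true), (6, 53, true), (5, 44, true), (6, 114, true), (5, 100, true), (7, 118, true), (6, 104, true), (6, 119, true), (8, 115, true), (7, 101, true), (6, 76, true), (9, 117, true), (8, 103, true), (10, 112, true), (9, 98, true), (8, 85, true), (7, 73, true), (6, 62, true), (5, 52, true), (9, 116, true), (8, 102, true), (10, 117, true), (9, 103, true), (11, 118, true),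 (10, 104, true), (10, 119, true), (9, 90, true), (9, 115, true), (8, 76, true), (7, 65, true), (8, 117, true), (9, 118, true), (10, 119, true), (9, 103, true), (8, 90, true), (8, 95, true), (7, 70, true), (6, 49, true), (5, 32, true), (4, 19, true), (3, 14, true), (6, 98, true), (5, 85, true), (4, 73, true), (7, 102, true), (6, 89, true), (5, 77, true), (6, 104, true), (6, 114, true), (5, 87, true), (7, 116, true), (6, 89, true), (8, 117, true), (7, 90, true), (7, 116, true), (6, 77, true), (6, 118, true), (7, 114, true), (6, 100, true), (5, 54, true), (6, 115, true), (5, 101, true), (7, 116, true), (6, 102, true), (8, 119, true), (7, 95, true), (6, 70, true), (5, 59, true), (4, 32, true), (3, 19, true), (7, 98, true), (6, 85, true), (5, 73, true), (8, 102, true), (7, 89, true), (6, 77, true), (7, 104, true), (7, 115, true), (6, 88, true), (8, 117, true), (7, 90, true), (7, 118, true), (8, 119, true),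 (7, 102, true), (8, 104, true), (7, 71, true), (6, 60, true), (5, 33, true), (4, 20, true), (5, 98, true), (4, 85, true), (6, 103, true), (5, 90, true), (5, 104, true), (8, 116, true), (7, 102, true), (6, 89, true), (9, 112, true), (8, 98, true), (7, 85, true), (6, 73, true), (5, 62, true), (4, 35, true), (5, 115, true), (4, 88, true), (6, 118, true), (7, 119, true), (6, 102, true), (5, 89, true), (7, 103, true), (6, 90, true), (6, 104, true), (6, 113, true), (5, 74, true), (4, 63, true), (7, 115, true), (6, 76, true), (5, 65, true), (6, 117, true), (7, 109, true), (6, 82, true), (5, 70, true), (4, 40, true), (3, 14, true), (5, 89, true), (4, 77, true), (4, 90, true), (4, 110, true), (3, 41, true), (6, 114, true), (5, 87, true), (7, 115, true), (6, 88, true), (8, 116, true), (7, 89, true), (9, 118, true), (10, 109, true), (9, 95, true), (8, 82, true), (7, 70, true), (6, 59, true), (5, 49, true), (4, 40,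 true), (3, 19, true), (7, 99, true), (6, 86, true), (5, 74, true), (8, 102, true), (7, 89, true), (6, 77, true), (7, 103, true), (6, 90, true), (6, 100, true), (7, 102, true), (8, 103, true), (9, 101, true), (8, 88, true), (7, 76, true), (10, 103, true), (9, 90, true), (9, 104, true), (9, 116, true), (8, 77, true), (8, 117, true), (9, 118, true), (10, 119, true), (9, 96, true), (8, 83, true), (7, 60, true), (6, 50, true), (5, 41, true), (4, 20, true), (5, 99, true), (4, 86, true), (6, 103, true), (5, 90, true), (5, 100, true), (6, 102, true), (7, 103, true), (8, 104, true), (8, 115, true), (7, 88, true), (6, 76, true), (9, 117, true), (8, 90, true), (8, 118, true), (9, 119, true), (8, 103, true), (9, 104, true), (8, 84, true), (7, 72, true), (6, 61, true), (5, 51, true), (4, 42, true), (6, 87, true), (9, 115, true), (8, 101, true), (7, 88, true), (10, 116, true), (9, 102, true), (8, 89, true), (11, 117,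 true), (10, 103, true), (9, 90, true), (10, 112, true), (9, 98, true), (8, 73, true), (7, 62, true), (6, 52, true), (5, 43, true), (8, 114, true), (7, 100, true), (9, 115, true), (8, 101, true), (10, 118, true), (9, 104, true), (9, 119, true), (11, 114, true), (10, 100, true), (9, 75, true), (8, 64, true), (7, 54, true), (10, 115, true), (9, 101, true), (8, 76, true), (7, 65, true), (9, 117, true), (8, 103, true), (10, 119, true), (9, 101, true), (8, 88, true), (7, 76, true), (10, 102, true), (9, 89, true), (8, 77, true), (9, 104, true), (8, 87, true), (7, 64, true), (10, 117, true), (9, 90, true), (9, 119, true)]),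
  ([18, 4, 3], [(0, 142, true), (7, 141, true), (6, 106, true), (5, 67, true), (4, 56, true), (3, 46, true), (2, 11, true), (1, 7, true), (0, 2, true), (3, 58, true), (2, 48, true), (1, 39, true), (0, 31, true), (3, 113, true), (2, 86, true), (4, 116, true), (3, 89, true), (5, 114, true), (4, 87, true), (3, 75, true), (6, 116, true), (5, 89, true), (4, 77, true), (5, 117, true), (4, 90, true), (4, 118, true), (5, 119, true), (4, 101, true), (5, 103, true), (6, 104, true), (6, 112, true), (5, 85, true), (4, 62, true), (3, 52, true), (2, 43, true), (1, 35, true), (2, 113, true), (1, 86, true), (3, 118, true), (4, 119, true), (3, 100, true), (2, 87, true), (4, 101, true), (3, 88, true), (5, 104, true), (5, 117, true), (4, 90, true), (4, 119, true), (4, 82, true), (3, 59, true), (2, 49, true), (1, 40, true), (4, 87, true), (3, 75, true), (5, 89, true), (4, 77, true), (4, 90, true), (7, 117, true), (6, 103,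 true), (5, 90, true), (6, 113, true), (5, 99, true), (4, 63, true), (3, 53, true), (2, 44, true), (3, 114, true), (2, 100, true), (4, 118, true), (3, 104, true), (3, 119, true), (5, 114, true), (4, 100, true), (3, 64, true), (2, 54, true), (4, 117, true), (3, 103, true), (5, 119, true), (4, 100, true), (3, 87, true), (2, 64, true), (5, 102, true), (4, 89, true), (7, 115, true), (6, 101, true), (5, 88, true), (4, 76, true), (3, 65, true), (6, 116, true), (5, 102, true), (4, 89, true), (3, 77, true), (5, 117, true), (4, 103, true), (3, 90, true), (4, 116, true), (3, 102, true), (5, 118, true), (4, 104, true), (4, 119, true), (4, 107, true), (3, 68, true), (2, 47, true), (1, 12, true), (0, 8, true), (7, 70, true), (6, 59, true), (5, 49, true), (4, 40, true), (3, 32, true), (2, 25, true), (7, 113, true), (6, 99, true), (5, 74, true), (8, 116, true), (7, 102, true), (6, 77, true), (7, 117, true), (6, 103,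 true), (8, 114, true), (7, 100, true), (6, 87, true), (9, 116, true), (8, 102, true), (7, 89, true), (10, 117, true), (9, 103, true), (8, 90, true), (9, 115, true), (8, 101, true), (7, 76, true), (10, 117, true), (9, 103, true), (11, 118, true), (10, 104, true), (10, 119, true), (9, 89, true), (8, 77, true), (8, 84, true), (7, 61, true), (6, 51, true), (5, 42, true), (4, 34, true), (3, 27, true), (4, 112, true), (3, 85, true), (5, 116, true), (4, 89, true), (6, 118, true), (7, 119, true), (6, 99, true), (5, 86, true), (4, 74, true), (7, 103, true), (6, 90, true), (6, 100, true), (5, 75, true), (7, 104, true), (7, 115, true), (6, 76, true), (8, 117, true), (9, 112, true), (8, 85, true), (7, 73, true), (6, 62, true), (5, 52, true), (4, 43, true), (3, 35, true), (4, 113, true), (3, 86, true), (5, 118, true), (6, 119, true), (5, 100, true), (4, 87, true), (6, 101, true), (5, 88, true), (7, 104, true), (7,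 116, true), (6, 89, true), (8, 117, true), (7, 90, true), (7, 119, true), (6, 74, true), (5, 63, true), (4, 53, true), (3, 44, true), (4, 114, true), (3, 100, true), (5, 118, true), (4, 104, true), (4, 119, true), (5, 75, true), (4, 64, true), (3, 54, true), (4, 76, true), (3, 65, true), (3, 77, true), (3, 114, true), (4, 116, true), (5, 118, true), (6, 119, true), (6, 109, true), (5, 95, true), (4, 70, true), (3, 49, true), (2, 14, true), (4, 89, true), (3, 77, true), (5, 110, true), (4, 96, true), (3, 83, true), (2, 50, true), (7, 117, true), (6, 103, true), (5, 90, true), (6, 118, true), (5, 104, true), (5, 119, true), (4, 76, true)], [(1, 13, true), (0, 141, true), (6, 142, true), (13, 146, true), (21, 147, true), (5, 106, true), (4, 56, true), (3, 16, true), (2, 11, true), (1, 4, true), (0, 2, true), (3, 57, true), (2, 47, true), (1, 38, true), (0, 30, true), (5, 99, true), (4, 74, true), (3, 63,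 true), (2, 53, true), (5, 115, true), (4, 101, true), (6, 116, true), (5, 102, true), (7, 118, true), (6, 104, true), (6, 115, true), (5, 76, true), (4, 65, true), (5, 116, true), (4, 77, true), (4, 114, true), (3, 54, true), (3, 115, true), (4, 109, true), (3, 59, true), (2, 40, true), (1, 32, true), (5, 113, true), (4, 99, true), (3, 74, true), (6, 116, true), (5, 102, true), (4, 77, true), (5, 117, true), (4, 103, true), (6, 115, true), (5, 101, true), (4, 88, true), (7, 117, true), (6, 103, true), (5, 90, true), (6, 118, true), (5, 104, true), (5, 119, true), (5, 110, true), (4, 60, true), (3, 41, true), (2, 33, true), (5, 99, true), (4, 86, true), (6, 103, true), (5, 90, true), (5, 101, true), (6, 103, true), (7, 104, true), (7, 119, true), (6, 84, true), (5, 61, true), (4, 42, true), (3, 34, true), (7, 113, true), (6, 99, true), (5, 74, true), (8, 117, true), (7, 103, true), (9, 115, true), (8,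 101, true), (7, 88, true), (6, 76, true), (10, 117, true), (9, 103, true), (8, 90, true), (9, 113, true), (8, 99, true), (7, 74, true), (6, 63, true), (5, 44, true), (6, 115, true), (5, 101, true), (7, 116, true), (6, 102, true), (8, 118, true), (7, 104, true), (7, 119, true), (6, 77, true), (7, 109, true), (6, 95, true), (5, 59, true), (4, 32, true), (3, 25, true), (2, 19, true), (1, 14, true), (4, 97, true), (3, 84, true), (2, 72, true), (5, 98, true), (4, 85, true), (3, 73, true), (6, 102, true), (5, 89, true), (4, 77, true), (5, 104, true), (5, 115, true), (4, 88, true), (6, 117, true), (5, 90, true), (5, 118, true), (6, 119, true), (5, 104, true), (5, 113, true), (4, 63, true), (6, 114, true), (5, 64, true), (7, 117, true), (8, 119, true), (7, 83, true), (6, 60, true), (5, 50, true), (4, 41, true), (3, 33, true), (2, 26, true), (1, 20, true), (2, 97, true), (1, 84, true), (3, 102, true), (2, 89,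 true), (4, 103, true), (3, 90, true), (3, 104, true), (2, 73, true), (5, 99, true), (4, 86, true), (3, 74, true), (6, 103, true), (5, 90, true), (5, 100, true), (4, 75, true), (6, 102, true), (5, 77, true), (5, 103, true), (6, 104, true), (6, 115, true), (5, 88, true), (7, 117, true), (6, 90, true), (6, 118, true), (7, 119, true), (6, 103, true), (7, 99, true), (6, 86, true), (5, 63, true), (4, 53, true), (3, 44, true), (4, 114, true), (3, 100, true), (5, 118, true), (4, 104, true), (4, 119, true), (6, 101, true), (5, 88, true), (4, 65, true), (5, 103, true), (4, 90, true), (4, 104, true), (4, 115, true), (5, 116, true), (6, 117, true), (7, 119, true), (6, 81, true), (5, 69, true), (4, 58, true), (3, 48, true), (2, 31, true), (1, 24, true), (4, 98, true), (3, 62, true), (6, 118, true), (5, 104, true), (5, 117, true), (6, 119, true), (5, 87, true), (4, 64, true), (6, 89, true), (7, 90, true), (8, 115,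 true), (7, 101, true), (6, 76, true), (5, 65, true), (7, 117, true), (6, 103, true), (8, 118, true), (7, 104, true), (7, 119, true), (6, 89, true), (5, 77, true), (7, 117, true), (6, 103, true), (5, 90, true), (6, 109, true), (5, 95, true), (4, 49, true), (3, 32, true), (2, 25, true), (7, 114, true), (6, 100, true), (5, 75, true), (8, 116, true), (7, 102, true), (6, 77, true), (7, 117, true), (6, 103, true), (8, 118, true), (7, 104, true), (7, 119, true), (6, 87, true), (5, 54, true), (5, 88, true), (6, 89, true), (8, 109, true), (7, 82, true), (6, 70, true), (5, 59, true), (4, 32, true), (3, 25, true), (2, 14, true), (6, 115, true), (5, 101, true), (4, 76, true), (7, 117, true), (6, 103, true), (8, 118, true), (7, 104, true), (7, 119, true), (6, 89, true), (5, 77, true), (5, 90, true), (5, 110, true), (4, 60, true), (3, 33, true), (2, 26, true), (6, 98, true), (5, 85, true), (4, 73, true), (7, 103, true),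 (6, 90, true), (6, 104, true), (5, 76, true), (9, 119, true), (8, 97, true), (7, 84, true), (6, 72, true), (5, 61, true), (4, 34, true), (3, 27, true), (4, 112, true), (3, 85, true), (5, 116, true), (4, 89, true), (6, 118, true), (7, 119, true), (6, 101, true), (5, 88, true), (4, 76, true), (7, 102, true), (6, 89, true), (5, 77, true), (6, 103, true), (5, 90, true), (5, 104, true), (4, 62, true), (3, 35, true), (4, 115, true), (3, 88, true), (5, 118, true), (6, 119, true), (5, 100, true), (4, 87, true), (3, 64, true), (6, 101, true), (5, 88, true), (4, 65, true), (5, 103, true), (4, 90, true), (5, 115, true), (4, 101, true), (6, 116, true), (5, 102, true), (7, 118, true), (6, 104, true)]),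
  ([18, 4, 4], [(0, 142, true), (7, 142, true), (6, 106, true), (5, 67, true), (4, 56, true), (3, 46, true), (2, 11, true), (1, 7, true), (0, 2, true), (3, 58, true), (2, 48, true), (1, 39, true), (0, 31, true), (3, 113, true), (2, 86, true), (4, 116, true), (3, 89, true), (5, 114, true), (4, 87, true), (3, 75, true), (6, 116, true), (5, 89, true), (4, 77, true), (5, 117, true), (4, 90, true), (4, 118, true), (5, 119, true), (4, 101, true), (5, 103, true), (6, 104, true), (6, 112, true), (5, 85, true), (4, 62, true), (3, 52, true), (2, 43, true), (1, 35, true), (2, 113, true), (1, 86, true), (3, 118, true), (4, 119, true), (3, 100, true), (2, 87, true), (4, 101, true), (3, 88, true), (5, 104, true), (5, 117, true), (4, 90, true), (4, 119, true), (4, 82, true), (3, 59, true), (2, 49, true), (1, 40, true), (4, 87, true), (3, 75, true), (5, 89, true), (4, 77, true), (4, 90, true), (7, 117, true), (6, 103,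 true), (5, 90, true), (6, 113, true), (5, 99, true), (4, 63, true), (3, 53, true), (2, 44, true), (3, 114, true), (2, 100, true), (4, 118, true), (3, 104, true), (3, 119, true), (5, 114, true), (4, 100, true), (3, 64, true), (2, 54, true), (4, 117, true), (3, 103, true), (5, 119, true), (4, 100, true), (3, 87, true), (2, 64, true), (5, 102, true), (4, 89, true), (7, 115, true), (6, 101, true), (5, 88, true), (4, 76, true), (3, 65, true), (6, 116, true), (5, 102, true), (4, 89, true), (3, 77, true), (5, 117, true), (4, 103, true), (3, 90, true), (4, 116, true), (3, 102, true), (5, 118, true), (4, 104, true), (4, 119, true), (4, 108, true), (3, 69, true), (2, 48, true), (1, 13, true), (0, 9, true), (2, 59, true), (1, 49, true), (0, 40, true), (3, 87, true), (2, 75, true), (4, 89, true), (3, 77, true), (3, 90, true), (6, 113, true), (5, 99, true), (4, 86, true), (3, 63, true), (2, 53, true), (1, 44, true),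 (2, 114, true), (1, 100, true), (3, 118, true), (2, 104, true), (2, 119, true), (5, 114, true), (4, 100, true), (3, 87, true), (2, 64, true), (1, 54, true), (4, 114, true), (3, 100, true), (2, 87, true), (1, 64, true), (5, 116, true), (4, 102, true), (3, 89, true), (6, 117, true), (5, 103, true), (4, 90, true), (5, 118, true), (4, 104, true), (4, 119, true), (3, 77, true), (4, 119, true), (3, 95, true), (2, 59, true), (1, 49, true), (0, 14, true), (2, 88, true), (1, 76, true), (3, 90, true), (4, 118, true), (3, 104, true), (3, 114, true), (2, 75, true), (1, 64, true), (0, 54, true), (2, 115, true), (1, 76, true), (0, 65, true), (1, 116, true), (0, 77, true), (0, 119, true)], [(1, 14, true)]),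
  ([19, 0, 5, 7, 8, 9, 11, 12, 13, 0, 5, 7, 8, 9, 11, 12, 13], [(0, 153, true), (8, 153, true), (7, 94, true), (6, 69, true), (5, 58, true), (4, 48, true), (3, 31, true), (2, 24, true), (1, 13, true), (0, 9, true), (2, 59, true), (1, 49, true), (0, 40, true), (3, 87, true), (2, 75, true), (4, 89, true), (3, 77, true), (3, 90, true), (6, 113, true), (5, 99, true), (4, 86, true), (3, 63, true), (2, 53, true), (1, 44, true), (2, 114, true), (1, 100, true), (3, 118, true), (2, 104, true), (2, 119, true), (5, 114, true), (4, 100, true), (3, 87, true), (2, 64, true), (1, 54, true), (4, 111, true), (3, 97, true), (2, 84, true), (1, 61, true), (5, 115, true), (4, 101, true), (3, 88, true), (2, 65, true), (4, 118, true), (3, 104, true), (3, 112, true), (2, 85, true), (4, 117, true), (3, 90, true), (3, 119, true), (7, 115, true), (6, 101, true), (5, 88, true), (4, 76, true), (8, 117, true), (7, 103, true), (6,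 90, true), (7, 118, true), (6, 104, true), (6, 119, true), (5, 77, true), (6, 118, true), (5, 104, true), (5, 109, true), (4, 59, true), (3, 49, true), (2, 32, true), (1, 25, true), (0, 14, true), (4, 114, true), (3, 100, true), (2, 75, true), (5, 116, true), (4, 102, true), (3, 77, true), (4, 117, true), (3, 103, true), (5, 115, true), (4, 101, true), (3, 88, true), (6, 117, true), (5, 103, true), (4, 90, true), (5, 118, true), (4, 104, true), (4, 119, true), (4, 111, true), (3, 61, true), (2, 51, true), (1, 34, true), (0, 27, true), (1, 112, true), (0, 85, true), (2, 116, true), (1, 89, true), (3, 118, true), (4, 119, true), (3, 100, true), (2, 87, true), (1, 75, true), (4, 104, true), (4, 115, true), (3, 88, true), (2, 76, true), (5, 119, true), (4, 85, true), (3, 73, true), (2, 62, true), (1, 52, true), (0, 35, true), (1, 114, true), (0, 87, true), (2, 115, true), (1, 88, true), (3, 118, true), (4,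 119, true), (3, 102, true), (2, 89, true), (4, 103, true), (3, 90, true), (3, 100, true), (2, 75, true), (1, 64, true), (0, 54, true), (2, 101, true), (1, 76, true), (0, 65, true), (1, 102, true), (0, 77, true), (0, 104, true)], [(8, 91, true), (7, 78, true), (6, 66, true), (5, 45, true), (4, 36, true), (3, 28, true), (2, 15, true), (1, 0, true), (3, 83, true), (2, 41, true), (1, 26, true), (5, 99, true), (4, 86, true), (3, 74, true), (6, 103, true), (5, 90, true), (5, 103, true), (6, 97, true), (5, 84, true), (4, 72, true), (3, 42, true), (2, 27, true), (3, 113, true), (2, 86, true), (4, 117, true), (3, 90, true), (3, 116, true), (4, 117, true), (5, 118, true), (6, 114, true), (5, 100, true), (4, 87, true), (3, 75, true), (7, 115, true), (6, 101, true), (5, 88, true), (4, 76, true), (8, 116, true), (7, 102, true), (6, 89, true), (5, 77, true), (7, 117, true), (6, 103, true), (5, 90, true), (6, 118, true),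 (5, 104, true), (5, 119, true), (4, 62, true), (3, 52, true), (2, 43, true), (5, 114, true), (4, 100, true), (6, 115, true), (5, 101, true), (7, 118, true), (6, 104, true), (6, 119, true), (5, 63, true), (4, 53, true), (3, 44, true), (4, 114, true), (3, 100, true), (5, 118, true), (4, 104, true), (4, 119, true), (4, 64, true), (3, 54, true), (3, 65, true), (4, 113, true), (3, 86, true), (5, 115, true), (4, 88, true), (6, 118, true), (7, 114, true), (6, 100, true), (5, 87, true), (4, 64, true), (8, 115, true), (7, 101, true), (6, 88, true), (5, 65, true), (7, 116, true), (6, 102, true), (5, 89, true), (8, 117, true), (7, 103, true), (6, 90, true), (7, 118, true), (6, 104, true), (6, 116, true), (5, 77, true), (5, 117, true), (6, 117, true), (5, 90, true), (5, 118, true), (6, 110, true), (5, 96, true), (4, 50, true), (3, 41, true), (2, 33, true), (1, 20, true), (2, 98, true), (1, 85, true), (3, 103, true),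 (2, 90, true), (2, 104, true), (3, 87, true), (4, 89, true), (5, 90, true), (6, 118, true), (5, 104, true), (5, 119, true), (4, 73, true), (3, 52, true), (2, 43, true), (1, 35, true), (2, 113, true), (1, 86, true), (3, 118, true), (4, 119, true), (3, 100, true), (2, 87, true), (4, 102, true), (3, 89, true), (5, 99, true), (4, 86, true), (3, 74, true), (2, 53, true), (1, 44, true), (2, 114, true), (1, 100, true), (3, 118, true), (2, 104, true), (2, 119, true), (4, 100, true), (3, 87, true), (2, 75, true), (1, 54, true), (3, 102, true), (2, 89, true), (1, 77, true), (2, 103, true), (1, 90, true), (1, 104, true)])]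

/-- all of eqs -/
def twoEqs : List (Pair) := twoEqs0 ++ twoEqs1 ++ twoEqs2 ++ twoEqs3 ++ twoEqs4 ++ twoEqs5 ++ twoEqs6 ++ twoEqs7 ++ twoEqs8 ++ twoEqs9 ++ twoEqs10 ++ twoEqs11 ++ twoEqs12 ++ twoEqs13 ++ twoEqs14 ++ twoEqs15 ++ twoEqs16 ++ twoEqs17 ++ twoEqs18 ++ twoEqs19

/-- a block of vecs -/
def twoVecs0 : List (List ℤ) := [
  [0, 0, 0, 0, 0, 0, 0, 0, 0, 0, 0, 0, 0, 0, 0, 0, 0, 0, 0, 0, 0, 1, 0, 0, 0, 0, 0, 0, 0, 0, 0, 0, 0, 0, 0, 0, 1, 0, 0, 0, 0, 0, 0, 0, 0, 0, 0, 0, 0, 0, 0, 0, 0, 0, 0, 0, 0, 0, 0, 0, 0, 0, 0, 1, 0, 1, 0, 0, 0, 0, 0, 0, 0, 0, 0, 0, 0, 0, 1, 0, 0, 0, 0, 0, 0, 0, 0, 0, 0, 0, 0, 0, 0, 0, 0, 0, 0, 0, 0, 1, 0, 1, 0, 0, 1, 0, 0, 0, 0, 0, 0, 0, 0, 0, 0, 0, 0, 0, 0, 0, 0, 0, 0, 0, 0, 0, 0, 0, 0, 0, 0, 0, 0, 0, 0, 0, 0, 0, 0, 0, 0, 0, 0, 0, 0, 0, 0, 0, 0, 0, 0, 0, 0, 0, 0],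
  [0, 0, 0, 0, 0, 0, 0, 0, 0, 0, 1, 0, 0, 0, 1, 0, 0, 0, 0, 0, 0, 1, 1, 0, 0, 1, 0, 1, 1, 0, 0, 0, 1, 0, 1, 1, 0, 1, 0, 0, 0, 0, 1, 1, 1, 1, 0, 0, 0, 1, 0, 0, 0, 1, 0, 1, 0, 0, 0, 1, 0, 1, 0, 0, 0, 1, 1, 0, 0, 0, 0, 0, 0, 1, 0, 0, 1, 0, 0, 1, 0, 0, 0, 0, 0, 0, 0, 0, 0, 1, 0, 0, 0, 0, 0, 1, 0, 0, 0, 0, 1, 0, 0, 0, 0, 0, 0, 0, 0, 0, 0, 0, 0, 1, 0, 0, 1, 1, 1, 0, 0, 0, 0, 0, 0, 0, 0, 0, 0, 0, 0, 0, 0, 0, 0, 0, 0, 0, 0, 0, 0, 0, 0, 0, 0, 0, 0, 0, 0, 0, 0, 0, 0, 0, 0],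
  [0, 0, 0, 0, 0, 0, 0, 0, 0, 0, 0, 1, 0, 0, 1, 0, 0, 0, 0, 0, 0, 0, 1, 0, 0, 1, 0, 1, 1, 1, 0, 0, 1, 0, 1, 1, 1, 0, 0, 0, 1, 0, 0, 0, 0, 1, 1, 0, 0, 0, 0, 1, 1, 0, 1, 1, 1, 0, 0, 0, 0, 0, 1, 0, 0, 0, 0, 1, 0, 0, 1, 0, 1, 0, 0, 1, 1, 0, 0, 0, 0, 0, 0, 0, 0, 1, 0, 0, 0, 1, 1, 0, 0, 0, 0, 1, 0, 0, 1, 1, 0, 1, 1, 1, 1, 0, 0, 0, 0, 1, 0, 1, 0, 0, 1, 0, 1, 0, 0, 1, 0, 0, 0, 0, 0, 0, 0, 0, 0, 0, 0, 0, 0, 0, 0, 0, 0, 0, 0, 0, 0, 0, 0, 0, 0, 0, 0, 0, 0, 0, 0, 0, 0, 0, 0],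
  [0, 0, 0, 0, 0, 0, 0, 0, 0, 0, 0, 0, 0, 0, 0, 0, 0, 0, 0, 0, 0, 0, 0, 0, 0, 0, 0, 0, 0, 1, 0, 0, 0, 0, 0, 0, 0, 1, 0, 0, 0, 0, 0, 0, 0, 0, 1, 0, 0, 0, 0, 0, 0, 0, 0, 0, 1, 0, 0, 0, 0, 0, 0, 0, 0, 0, 0, 0, 0, 0, 0, 0, 0, 0, 0, 0, 1, 1, 0, 0, 0, 0, 0, 0, 0, 0, 0, 1, 1, 0, 1, 0, 0, 0, 0, 0, 0, 0, 0, 0, 0, 0, 0, 0, 0, 0, 0, 0, 0, 0, 0, 0, 0, 0, 1, 0, 1, 0, 0, 1, 0, 0, 0, 0, 0, 0, 0, 0, 0, 0, 0, 0, 0, 0, 0, 0, 0, 0, 0, 0, 0, 0, 0, 0, 0, 0, 0, 0, 0, 0, 0, 0, 0, 0, 0],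
  [0, 0, 0, 0, 0, 0, 1, 0, 0, 1, 1, 0, 0, 1, 1, 0, 0, 0, 0, 0, 0, 1, 0, 1, 1, 1, 0, 1, 1, 0, 0, 1, 1, 0, 1, 1, 0, 0, 1, 0, 1, 0, 1, 1, 0, 0, 0, 0, 0, 0, 0, 0, 0, 1, 1, 1, 0, 0, 0, 0, 0, 1, 1, 0, 0, 0, 0, 0, 0, 0, 0, 0, 0, 1, 0, 1, 1, 0, 0, 0, 1, 0, 0, 0, 0, 1, 0, 1, 1, 1, 1, 1, 0, 0, 1, 0, 0, 0, 1, 1, 1, 0, 1, 1, 1, 1, 0, 0, 1, 0, 0, 1, 0, 0, 0, 0, 1, 0, 1, 1, 0, 0, 0, 0, 0, 0, 0, 0, 0, 0, 0, 0, 0, 0, 0, 0, 0, 0, 0, 0, 0, 0, 0, 0, 0, 0, 0, 0, 0, 0, 0, 0, 0, 0, 0],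
  [0, 0, 0, 0, 0, 0, 0, 1, 0, 0, 1, 1, 1, 0, 0, 1, 0, 0, 1, 0, 0, 1, 1, 1, 1, 0, 1, 1, 0, 1, 1, 0, 0, 1, 0, 0, 1, 0, 0, 0, 1, 0, 1, 0, 0, 0, 0, 1, 0, 1, 1, 0, 0, 0, 0, 0, 1, 1, 1, 1, 0, 0, 1, 0, 0, 1, 1, 0, 1, 1, 1, 0, 0, 1, 1, 0, 1, 1, 0, 0, 0, 0, 1, 0, 0, 1, 1, 0, 0, 0, 0, 1, 1, 0, 0, 0, 1, 0, 0, 1, 0, 1, 1, 1, 1, 1, 1, 0, 1, 1, 1, 0, 0, 1, 0, 1, 0, 1, 0, 0, 0, 0, 0, 0, 0, 0, 0, 0, 0, 0, 0, 0, 0, 0, 0, 0, 0, 0, 0, 0, 0, 0, 0, 0, 0, 0, 0, 0, 0, 0, 0, 0, 0, 0, 0],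
  [0, 0, 0, 0, 0, 0, 0, 0, 0, 0, 0, 1, 0, 0, 1, 0, 1, 0, 0, 1, 1, 0, 1, 0, 0, 1, 1, 1, 0, 0, 1, 0, 0, 0, 0, 0, 0, 1, 1, 0, 1, 0, 1, 0, 0, 0, 0, 1, 0, 0, 1, 1, 0, 1, 1, 0, 0, 1, 0, 0, 0, 1, 0, 1, 1, 0, 0, 1, 0, 0, 0, 0, 1, 0, 0, 0, 1, 0, 0, 0, 0, 0, 0, 1, 1, 0, 0, 1, 0, 1, 1, 0, 1, 0, 0, 1, 0, 0, 1, 0, 1, 1, 1, 0, 1, 0, 1, 0, 0, 0, 1, 1, 1, 0, 1, 1, 0, 1, 1, 1, 0, 0, 0, 0, 0, 0, 0, 0, 0, 0, 0, 0, 0, 0, 0, 0, 0, 0, 0, 0, 0, 0, 0, 0, 0, 0, 0, 0, 0, 0, 0, 0, 0, 0, 0],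
  [0, 0, 0, 0, 0, 0, 0, 0, 1, 1, 0, 0, 1, 1, 1, 0, 0, 0, 0, 0, 0, 0, 0, 1, 1, 0, 0, 0, 0, 0, 1, 1, 0, 0, 0, 0, 0, 0, 0, 0, 0, 0, 1, 1, 0, 1, 0, 0, 0, 0, 0, 1, 0, 0, 1, 1, 0, 1, 0, 0, 0, 0, 1, 0, 0, 1, 1, 0, 0, 1, 0, 0, 1, 1, 0, 1, 1, 0, 1, 0, 0, 1, 1, 0, 1, 1, 1, 1, 1, 1, 1, 0, 0, 1, 1, 1, 0, 0, 1, 1, 0, 1, 0, 0, 1, 0, 0, 1, 0, 0, 0, 0, 1, 1, 1, 0, 1, 1, 0, 1, 0, 0, 0, 0, 0, 0, 0, 0, 0, 0, 0, 0, 0, 0, 0, 0, 0, 0, 0, 0, 0, 0, 0, 0, 0, 0, 0, 0, 0, 0, 0, 0, 0, 0, 0]]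

/-- a block of vecs -/
def twoVecs1 : List (List ℤ) := [
  [0, 0, 0, 0, 0, 0, 0, 0, 0, 0, 0, 0, 1, 0, 1, 0, 0, 1, 0, 1, 1, 0, 0, 1, 0, 1, 0, 0, 0, 0, 0, 0, 0, 1, 1, 1, 0, 0, 1, 0, 1, 0, 0, 1, 0, 0, 1, 0, 0, 0, 1, 0, 1, 1, 1, 0, 1, 0, 0, 0, 1, 0, 1, 0, 1, 1, 0, 1, 1, 0, 0, 1, 0, 0, 0, 0, 0, 1, 0, 1, 0, 0, 0, 0, 1, 1, 1, 0, 0, 0, 0, 0, 0, 1, 0, 1, 1, 1, 0, 1, 1, 0, 1, 0, 1, 0, 0, 1, 0, 0, 0, 0, 0, 0, 1, 0, 0, 1, 0, 0, 0, 0, 0, 0, 0, 0, 0, 0, 0, 0, 0, 0, 0, 0, 0, 0, 0, 0, 0, 0, 0, 0, 0, 0, 0, 0, 0, 0, 0, 0, 0, 0, 0, 0, 0],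
  [0, 0, 0, 0, 0, 0, 0, 0, 0, 0, 0, 0, 0, 0, 0, 0, 0, 0, 0, 0, 0, 0, 0, 0, 0, 0, 0, 0, 0, 0, 0, 0, 0, 0, 0, 0, 0, 0, 0, 0, 0, 0, 0, 0, 0, 0, 0, 1, 0, 0, 0, 0, 0, 0, 0, 0, 0, 1, 0, 0, 0, 0, 0, 0, 0, 0, 0, 0, 1, 0, 0, 0, 0, 0, 0, 0, 0, 0, 0, 0, 1, 0, 0, 0, 0, 0, 0, 0, 0, 0, 0, 0, 0, 0, 0, 0, 0, 0, 0, 0, 0, 0, 0, 1, 1, 0, 0, 0, 0, 0, 0, 0, 0, 0, 0, 0, 0, 1, 1, 1, 0, 0, 0, 0, 0, 0, 0, 0, 0, 0, 0, 0, 0, 0, 0, 0, 0, 0, 0, 0, 0, 0, 0, 0, 0, 0, 0, 0, 0, 0, 0, 0, 0, 0, 0],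
  [0, 0, 0, 0, 0, 0, 0, 0, 0, 0, 0, 0, 0, 0, 0, 0, 0, 0, 0, 0, 0, 0, 0, 0, 1, 0, 0, 0, 0, 0, 0, 0, 0, 0, 0, 0, 0, 0, 0, 1, 0, 0, 0, 0, 0, 1, 0, 0, 0, 0, 0, 0, 0, 0, 1, 1, 0, 0, 0, 0, 0, 0, 0, 1, 1, 0, 0, 0, 0, 0, 0, 0, 0, 0, 0, 0, 0, 1, 0, 0, 0, 1, 0, 0, 0, 0, 0, 0, 0, 1, 1, 0, 0, 0, 0, 0, 0, 0, 0, 1, 0, 0, 0, 0, 1, 0, 0, 0, 0, 0, 0, 0, 0, 0, 0, 0, 0, 0, 0, 0, 0, 0, 0, 0, 0, 0, 0, 0, 0, 0, 0, 0, 0, 0, 0, 0, 0, 0, 0, 0, 0, 0, 0, 0, 0, 0, 0, 0, 0, 0, 0, 0, 0, 0, 0],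
  [0, 0, 0, 0, 0, 0, 0, 0, 0, 0, 0, 0, 0, 1, 0, 0, 0, 0, 0, 0, 0, 0, 0, 0, 1, 0, 0, 0, 1, 0, 0, 1, 1, 0, 1, 0, 0, 0, 0, 0, 0, 0, 1, 0, 1, 0, 1, 0, 1, 1, 0, 0, 1, 1, 1, 0, 1, 0, 1, 1, 0, 1, 1, 1, 1, 1, 0, 0, 0, 1, 0, 0, 0, 1, 0, 1, 0, 0, 1, 0, 0, 0, 0, 0, 0, 1, 0, 0, 0, 0, 1, 0, 0, 0, 0, 0, 0, 0, 1, 1, 0, 0, 1, 1, 1, 0, 0, 0, 0, 1, 0, 1, 1, 1, 1, 0, 1, 0, 1, 1, 0, 0, 0, 0, 0, 0, 0, 0, 0, 0, 0, 0, 0, 0, 0, 0, 0, 0, 0, 0, 0, 0, 0, 0, 0, 0, 0, 0, 0, 0, 0, 0, 0, 0, 0],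
  [0, 0, 0, 0, 0, 0, 0, 0, 0, 0, 0, 0, 0, 0, 0, 0, 0, 0, 0, 0, 0, 0, 0, 0, 0, 0, 0, 0, 0, 0, 0, 0, 0, 0, 0, 0, 1, 0, 0, 0, 0, 0, 0, 0, 0, 1, 0, 0, 1, 0, 0, 0, 0, 0, 1, 1, 0, 0, 1, 0, 0, 0, 0, 0, 0, 0, 0, 0, 0, 0, 0, 0, 0, 0, 0, 1, 1, 0, 0, 0, 0, 0, 0, 0, 0, 0, 0, 0, 0, 0, 0, 0, 0, 0, 0, 0, 0, 0, 0, 0, 1, 0, 1, 0, 0, 0, 0, 0, 0, 0, 0, 0, 0, 0, 0, 1, 0, 1, 1, 1, 0, 0, 0, 0, 0, 0, 0, 0, 0, 0, 0, 0, 0, 0, 0, 0, 0, 0, 0, 0, 0, 0, 0, 0, 0, 0, 0, 0, 0, 0, 0, 0, 0, 0, 0],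
  [0, 0, 0, 0, 0, 0, 0, 0, 0, 0, 0, 0, 0, 0, 0, 0, 0, 0, 0, 0, 0, 0, 0, 0, 0, 0, 0, 0, 0, 0, 0, 1, 0, 0, 0, 1, 0, 1, 0, 0, 0, 0, 0, 0, 0, 0, 1, 0, 0, 0, 0, 0, 0, 0, 0, 0, 1, 0, 0, 0, 0, 0, 0, 0, 0, 0, 0, 0, 0, 0, 0, 0, 0, 0, 0, 0, 1, 1, 0, 0, 0, 1, 0, 0, 0, 0, 1, 0, 0, 0, 1, 0, 0, 0, 0, 0, 0, 0, 0, 0, 0, 0, 0, 0, 0, 0, 0, 0, 0, 0, 0, 0, 1, 1, 0, 1, 1, 1, 0, 0, 0, 0, 0, 0, 0, 0, 0, 0, 0, 0, 0, 0, 0, 0, 0, 0, 0, 0, 0, 0, 0, 0, 0, 0, 0, 0, 0, 0, 0, 0, 0, 0, 0, 0, 0],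
  [0, 0, 0, 0, 0, 0, 0, 0, 0, 0, 0, 0, 0, 0, 0, 0, 0, 0, 0, 0, 0, 0, 0, 0, 1, 0, 0, 1, 0, 0, 0, 1, 0, 0, 1, 1, 0, 0, 1, 1, 0, 0, 1, 1, 1, 0, 0, 1, 1, 0, 0, 1, 1, 1, 1, 0, 0, 1, 1, 0, 0, 0, 1, 1, 0, 1, 0, 0, 0, 1, 0, 0, 1, 0, 0, 0, 0, 0, 0, 0, 0, 0, 0, 0, 0, 1, 0, 1, 1, 0, 1, 0, 0, 0, 0, 0, 0, 0, 1, 1, 1, 1, 0, 0, 1, 0, 0, 0, 0, 0, 0, 0, 0, 1, 1, 1, 0, 0, 0, 0, 0, 0, 0, 0, 0, 0, 0, 0, 0, 0, 0, 0, 0, 0, 0, 0, 0, 0, 0, 0, 0, 0, 0, 0, 0, 0, 0, 0, 0, 0, 0, 0, 0, 0, 0],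
  [0, 0, 0, 0, 0, 0, 0, 0, 0, 0, 0, 0, 0, 0, 0, 0, 0, 0, 0, 0, 0, 0, 0, 0, 0, 0, 0, 0, 0, 0, 0, 0, 0, 0, 0, 0, 0, 0, 0, 1, 0, 0, 0, 0, 0, 0, 0, 0, 1, 0, 0, 0, 0, 0, 0, 0, 0, 0, 1, 0, 0, 0, 0, 0, 0, 0, 0, 0, 0, 0, 0, 0, 0, 0, 0, 1, 0, 1, 0, 0, 0, 0, 0, 0, 0, 0, 0, 0, 1, 0, 1, 0, 0, 0, 0, 0, 0, 0, 0, 0, 0, 1, 0, 1, 1, 0, 0, 0, 0, 0, 0, 0, 0, 0, 0, 1, 0, 1, 1, 1, 0, 0, 0, 0, 0, 0, 0, 0, 0, 0, 0, 0, 0, 0, 0, 0, 0, 0, 0, 0, 0, 0, 0, 0, 0, 0, 0, 0, 0, 0, 0, 0, 0, 0, 0]]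

/-- a block of vecs -/
def twoVecs2 : List (List ℤ) := [
  [0, 0, 0, 0, 0, 0, 0, 0, 0, 0, 0, 0, 0, 0, 0, 0, 0, 0, 0, 0, 0, 0, 0, 0, 0, 1, 0, 0, 0, 0, 0, 0, 0, 0, 0, 0, 1, 0, 0, 0, 1, 0, 0, 0, 1, 1, 0, 0, 0, 0, 0, 0, 0, 1, 1, 0, 0, 0, 0, 0, 0, 0, 0, 0, 1, 1, 0, 0, 0, 0, 0, 0, 0, 0, 0, 0, 0, 1, 0, 0, 0, 0, 1, 0, 0, 0, 0, 0, 0, 0, 1, 1, 0, 0, 0, 0, 0, 0, 0, 0, 1, 1, 0, 0, 1, 0, 0, 0, 0, 0, 0, 0, 0, 1, 1, 0, 0, 0, 1, 1, 0, 0, 0, 0, 0, 0, 0, 0, 0, 0, 0, 0, 0, 0, 0, 0, 0, 0, 0, 0, 0, 0, 0, 0, 0, 0, 0, 0, 0, 0, 0, 0, 0, 0, 0],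
  [0, 0, 0, 0, 0, 0, 0, 0, 0, 0, 0, 0, 0, 0, 0, 0, 0, 0, 0, 0, 0, 0, 0, 0, 0, 0, 0, 0, 0, 0, 0, 0, 1, 0, 0, 0, 0, 1, 0, 1, 0, 0, 0, 0, 0, 0, 1, 0, 1, 0, 0, 0, 0, 0, 0, 0, 0, 0, 0, 0, 0, 0, 0, 0, 0, 0, 0, 0, 0, 0, 0, 0, 0, 0, 0, 1, 0, 0, 0, 0, 0, 1, 1, 0, 0, 0, 1, 0, 0, 1, 0, 0, 0, 0, 0, 0, 0, 0, 1, 0, 0, 0, 1, 1, 0, 0, 0, 0, 1, 0, 0, 0, 0, 1, 0, 0, 1, 1, 0, 1, 0, 0, 0, 0, 0, 0, 0, 0, 0, 0, 0, 0, 0, 0, 0, 0, 0, 0, 0, 0, 0, 0, 0, 0, 0, 0, 0, 0, 0, 0, 0, 0, 0, 0, 0],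
  [0, 0, 0, 0, 0, 0, 0, 0, 0, 0, 0, 0, 0, 0, 0, 0, 0, 0, 0, 0, 0, 0, 0, 0, 0, 0, 0, 0, 0, 0, 0, 0, 0, 0, 0, 0, 0, 0, 0, 0, 1, 0, 0, 0, 1, 0, 0, 0, 0, 1, 0, 0, 0, 1, 1, 0, 0, 0, 0, 0, 0, 0, 0, 0, 0, 0, 0, 0, 0, 0, 0, 0, 0, 0, 0, 1, 0, 1, 0, 0, 0, 0, 0, 0, 0, 0, 0, 1, 0, 1, 1, 0, 0, 0, 0, 0, 0, 0, 0, 0, 1, 0, 0, 0, 1, 0, 0, 0, 0, 0, 0, 0, 0, 0, 1, 0, 0, 0, 1, 1, 0, 0, 0, 0, 0, 0, 0, 0, 0, 0, 0, 0, 0, 0, 0, 0, 0, 0, 0, 0, 0, 0, 0, 0, 0, 0, 0, 0, 0, 0, 0, 0, 0, 0, 0],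
  [0, 0, 0, 0, 0, 0, 0, 0, 0, 0, 0, 0, 0, 0, 0, 0, 0, 0, 0, 0, 0, 0, 0, 0, 0, 0, 0, 0, 0, 0, 0, 0, 0, 1, 0, 0, 0, 1, 0, 0, 0, 1, 0, 0, 1, 0, 0, 0, 0, 0, 1, 0, 0, 0, 0, 0, 1, 0, 0, 0, 1, 0, 0, 1, 0, 1, 0, 0, 0, 0, 0, 0, 0, 0, 0, 0, 1, 1, 0, 1, 0, 0, 0, 0, 0, 0, 0, 0, 1, 0, 0, 0, 1, 0, 0, 0, 0, 0, 0, 0, 0, 0, 1, 1, 0, 0, 1, 0, 0, 0, 0, 0, 0, 1, 1, 0, 0, 0, 1, 0, 0, 0, 0, 0, 0, 0, 0, 0, 0, 0, 0, 0, 0, 0, 0, 0, 0, 0, 0, 0, 0, 0, 0, 0, 0, 0, 0, 0, 0, 0, 0, 0, 0, 0, 0],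
  [0, 0, 0, 0, 0, 0, 0, 0, 0, 0, 0, 0, 0, 0, 0, 0, 0, 0, 1, 1, 0, 1, 0, 1, 0, 0, 1, 0, 1, 0, 0, 1, 1, 1, 0, 0, 1, 0, 0, 1, 0, 0, 1, 1, 0, 0, 0, 1, 0, 0, 0, 1, 1, 1, 0, 0, 0, 1, 1, 0, 1, 1, 0, 0, 0, 1, 0, 0, 1, 0, 1, 0, 1, 0, 1, 1, 0, 1, 1, 0, 1, 1, 0, 0, 0, 1, 0, 0, 0, 1, 1, 0, 0, 1, 1, 1, 1, 1, 1, 0, 0, 1, 1, 1, 0, 1, 0, 1, 0, 1, 1, 0, 0, 1, 0, 0, 1, 1, 0, 1, 0, 0, 0, 0, 0, 0, 0, 0, 0, 0, 0, 0, 0, 0, 0, 0, 0, 0, 0, 0, 0, 0, 0, 0, 0, 0, 0, 0, 0, 0, 0, 0, 0, 0, 0],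
  [0, 0, 0, 0, 0, 0, 0, 0, 0, 0, 0, 0, 0, 0, 0, 0, 0, 0, 0, 1, 0, 0, 1, 0, 0, 1, 0, 0, 0, 1, 0, 0, 1, 1, 1, 0, 0, 1, 1, 0, 0, 1, 0, 0, 0, 0, 0, 0, 0, 0, 0, 0, 0, 0, 0, 0, 0, 1, 0, 0, 0, 1, 0, 0, 0, 0, 0, 0, 0, 0, 1, 0, 1, 0, 0, 0, 1, 0, 0, 1, 1, 0, 0, 1, 1, 1, 0, 0, 1, 1, 0, 0, 0, 1, 0, 1, 0, 0, 1, 0, 0, 1, 0, 0, 0, 0, 1, 1, 0, 0, 0, 0, 1, 1, 0, 1, 1, 1, 0, 1, 0, 0, 0, 0, 0, 0, 0, 0, 0, 0, 0, 0, 0, 0, 0, 0, 0, 0, 0, 0, 0, 0, 0, 0, 0, 0, 0, 0, 0, 0, 0, 0, 0, 0, 0],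
  [0, 0, 0, 0, 0, 0, 0, 0, 0, 0, 0, 0, 0, 0, 0, 0, 0, 0, 0, 0, 0, 0, 0, 1, 0, 0, 0, 1, 0, 0, 1, 0, 0, 0, 1, 1, 0, 0, 1, 0, 0, 0, 1, 1, 1, 0, 0, 0, 0, 0, 1, 0, 1, 0, 1, 0, 0, 0, 0, 0, 1, 0, 0, 1, 0, 1, 0, 0, 0, 0, 0, 1, 0, 1, 1, 1, 1, 0, 0, 0, 1, 0, 0, 1, 1, 1, 1, 0, 0, 0, 0, 0, 0, 0, 0, 0, 0, 1, 1, 0, 1, 1, 1, 0, 1, 0, 0, 1, 0, 0, 0, 0, 1, 1, 0, 0, 0, 1, 1, 0, 0, 0, 0, 0, 0, 0, 0, 0, 0, 0, 0, 0, 0, 0, 0, 0, 0, 0, 0, 0, 0, 0, 0, 0, 0, 0, 0, 0, 0, 0, 0, 0, 0, 0, 0],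
  [0, 0, 0, 0, 0, 0, 0, 0, 0, 0, 0, 0, 0, 0, 0, 0, 0, 0, 0, 0, 0, 0, 0, 0, 0, 0, 1, 1, 0, 0, 0, 0, 0, 0, 0, 0, 0, 0, 0, 0, 0, 0, 0, 0, 0, 0, 0, 0, 0, 0, 1, 1, 0, 0, 1, 0, 0, 0, 0, 0, 1, 1, 0, 0, 1, 1, 0, 0, 0, 0, 0, 1, 1, 0, 0, 0, 1, 0, 1, 0, 0, 0, 0, 1, 0, 0, 0, 1, 0, 0, 1, 1, 0, 0, 0, 0, 1, 0, 0, 0, 0, 0, 0, 1, 1, 0, 0, 0, 0, 0, 1, 1, 0, 0, 0, 0, 1, 0, 1, 1, 0, 0, 0, 0, 0, 0, 0, 0, 0, 0, 0, 0, 0, 0, 0, 0, 0, 0, 0, 0, 0, 0, 0, 0, 0, 0, 0, 0, 0, 0, 0, 0, 0, 0, 0]]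

/-- a block of vecs -/
def twoVecs3 : List (List ℤ) := [
  [0, 0, 0, 0, 0, 0, 0, 0, 0, 0, 0, 0, 0, 0, 0, 0, 0, 0, 0, 0, 0, 0, 0, 0, 0, 0, 1, 1, 0, 0, 0, 0, 0, 1, 1, 1, 0, 0, 0, 0, 0, 1, 1, 1, 1, 0, 0, 0, 0, 0, 0, 0, 0, 0, 0, 0, 0, 0, 0, 0, 0, 0, 0, 0, 0, 0, 0, 0, 0, 0, 0, 0, 1, 1, 0, 0, 0, 1, 0, 0, 1, 0, 0, 1, 0, 0, 1, 0, 0, 0, 0, 0, 0, 1, 0, 0, 0, 0, 0, 1, 0, 0, 0, 0, 0, 0, 0, 0, 0, 0, 1, 1, 0, 0, 0, 0, 1, 0, 0, 1, 0, 0, 0, 0, 0, 0, 0, 0, 0, 0, 0, 0, 0, 0, 0, 0, 0, 0, 0, 0, 0, 0, 0, 0, 0, 0, 0, 0, 0, 0, 0, 0, 0, 0, 0],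
  [0, 0, 0, 0, 0, 0, 0, 0, 0, 0, 0, 0, 0, 0, 0, 0, 0, 0, 0, 0, 0, 0, 0, 0, 0, 0, 0, 0, 0, 0, 0, 0, 0, 0, 0, 0, 0, 0, 0, 0, 0, 1, 0, 0, 1, 0, 0, 0, 0, 0, 0, 0, 0, 0, 0, 0, 0, 0, 0, 0, 1, 0, 0, 1, 0, 1, 0, 0, 0, 0, 0, 0, 0, 0, 0, 0, 0, 0, 0, 0, 0, 1, 0, 1, 0, 0, 1, 0, 0, 0, 0, 0, 0, 0, 1, 0, 0, 0, 0, 1, 0, 1, 0, 1, 1, 0, 0, 0, 0, 0, 0, 0, 0, 1, 0, 1, 0, 1, 0, 1, 0, 0, 0, 0, 0, 0, 0, 0, 0, 0, 0, 0, 0, 0, 0, 0, 0, 0, 0, 0, 0, 0, 0, 0, 0, 0, 0, 0, 0, 0, 0, 0, 0, 0, 0],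
  [0, 0, 0, 0, 0, 0, 0, 0, 0, 0, 0, 0, 0, 0, 0, 0, 0, 0, 0, 0, 0, 0, 0, 0, 0, 0, 0, 0, 0, 0, 0, 0, 0, 0, 0, 0, 0, 0, 0, 0, 0, 0, 0, 0, 0, 0, 0, 0, 0, 0, 0, 0, 0, 0, 0, 0, 0, 0, 0, 0, 0, 0, 0, 0, 0, 0, 0, 0, 0, 0, 0, 1, 0, 0, 0, 0, 0, 1, 0, 0, 0, 0, 1, 1, 0, 0, 0, 0, 0, 1, 1, 0, 0, 0, 0, 1, 1, 0, 0, 0, 0, 0, 1, 1, 1, 0, 0, 0, 0, 0, 0, 0, 0, 0, 0, 0, 0, 0, 0, 0, 0, 0, 0, 0, 0, 0, 0, 0, 0, 0, 0, 0, 0, 0, 0, 0, 0, 0, 0, 0, 0, 0, 0, 0, 0, 0, 0, 0, 0, 0, 0, 0, 0, 0, 0],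
  [0, 0, 0, 0, 0, 0, 0, 0, 0, 0, 0, 0, 0, 0, 0, 0, 0, 0, 0, 0, 0, 0, 0, 0, 0, 0, 0, 0, 0, 0, 0, 0, 0, 0, 0, 0, 0, 0, 0, 0, 0, 0, 0, 0, 0, 0, 0, 0, 0, 0, 0, 0, 0, 0, 0, 0, 0, 0, 0, 0, 0, 0, 0, 0, 0, 0, 0, 0, 0, 0, 0, 0, 0, 0, 0, 0, 0, 0, 0, 0, 0, 0, 0, 1, 0, 0, 0, 0, 0, 0, 0, 0, 0, 0, 0, 0, 1, 0, 0, 0, 0, 0, 0, 0, 0, 0, 0, 0, 0, 0, 0, 0, 0, 0, 0, 0, 0, 0, 0, 0, 0, 0, 0, 0, 0, 0, 0, 0, 0, 0, 0, 0, 0, 0, 0, 0, 0, 0, 0, 0, 0, 0, 0, 0, 0, 0, 0, 0, 0, 0, 0, 0, 0, 0, 0],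
  [0, 0, 0, 0, 0, 0, 0, 0, 0, 0, 0, 0, 0, 0, 0, 0, 0, 0, 0, 0, 0, 0, 0, 0, 0, 0, 0, 0, 0, 0, 0, 0, 0, 0, 1, 0, 0, 0, 0, 0, 0, 0, 1, 0, 0, 0, 0, 0, 0, 0, 0, 1, 0, 0, 0, 0, 1, 0, 0, 0, 0, 1, 0, 0, 0, 1, 0, 0, 0, 0, 0, 0, 0, 0, 1, 1, 1, 1, 0, 0, 0, 0, 0, 0, 0, 0, 0, 1, 1, 1, 1, 0, 1, 0, 0, 0, 0, 0, 0, 1, 1, 1, 1, 0, 0, 0, 0, 0, 0, 0, 0, 0, 0, 1, 1, 0, 0, 1, 1, 1, 0, 0, 0, 0, 0, 0, 0, 0, 0, 0, 0, 0, 0, 0, 0, 0, 0, 0, 0, 0, 0, 0, 0, 0, 0, 0, 0, 0, 0, 0, 0, 0, 0, 0, 0],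
  [0, 0, 0, 0, 0, 0, 0, 0, 0, 0, 0, 0, 0, 0, 0, 0, 0, 0, 0, 0, 0, 0, 0, 0, 0, 1, 1, 0, 0, 0, 0, 0, 0, 0, 0, 0, 0, 0, 0, 0, 0, 0, 1, 0, 0, 0, 1, 0, 0, 1, 1, 1, 0, 1, 0, 0, 0, 1, 0, 1, 1, 1, 0, 1, 1, 0, 0, 0, 0, 0, 0, 1, 0, 0, 1, 0, 0, 1, 0, 1, 0, 0, 1, 1, 0, 0, 0, 0, 1, 0, 0, 0, 1, 1, 0, 0, 1, 1, 0, 1, 1, 0, 0, 0, 1, 0, 0, 0, 0, 0, 1, 0, 0, 0, 1, 0, 0, 1, 1, 0, 0, 0, 0, 0, 0, 0, 0, 0, 0, 0, 0, 0, 0, 0, 0, 0, 0, 0, 0, 0, 0, 0, 0, 0, 0, 0, 0, 0, 0, 0, 0, 0, 0, 0, 0],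
  [0, 0, 0, 0, 0, 0, 0, 0, 0, 0, 0, 0, 0, 0, 0, 0, 0, 0, 0, 0, 0, 0, 0, 0, 0, 0, 0, 0, 0, 0, 0, 0, 0, 0, 0, 0, 0, 0, 0, 0, 0, 0, 1, 0, 0, 0, 0, 0, 0, 0, 0, 1, 0, 0, 0, 0, 0, 0, 1, 0, 0, 1, 0, 0, 0, 1, 0, 0, 0, 0, 0, 0, 0, 0, 0, 0, 0, 0, 0, 0, 0, 0, 0, 0, 0, 0, 0, 1, 1, 0, 1, 0, 0, 0, 1, 0, 0, 0, 0, 0, 0, 0, 0, 0, 0, 0, 0, 0, 0, 0, 0, 0, 0, 0, 0, 1, 0, 1, 0, 1, 0, 0, 0, 0, 0, 0, 0, 0, 0, 0, 0, 0, 0, 0, 0, 0, 0, 0, 0, 0, 0, 0, 0, 0, 0, 0, 0, 0, 0, 0, 0, 0, 0, 0, 0],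
  [0, 0, 0, 0, 0, 0, 0, 0, 0, 0, 0, 0, 0, 0, 0, 0, 0, 0, 0, 0, 0, 0, 0, 0, 0, 0, 0, 0, 0, 0, 0, 0, 0, 0, 0, 0, 0, 0, 0, 0, 0, 0, 1, 0, 0, 0, 0, 0, 0, 0, 0, 1, 0, 0, 0, 0, 0, 0, 0, 1, 0, 0, 0, 1, 1, 0, 0, 0, 0, 0, 0, 0, 0, 0, 0, 0, 0, 0, 0, 0, 0, 0, 0, 0, 0, 0, 1, 0, 1, 0, 0, 0, 0, 0, 0, 1, 0, 0, 0, 0, 0, 1, 0, 0, 0, 0, 0, 0, 0, 0, 0, 0, 0, 1, 1, 1, 0, 0, 0, 0, 0, 0, 0, 0, 0, 0, 0, 0, 0, 0, 0, 0, 0, 0, 0, 0, 0, 0, 0, 0, 0, 0, 0, 0, 0, 0, 0, 0, 0, 0, 0, 0, 0, 0, 0]]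

/-- a block of vecs -/
def twoVecs4 : List (List ℤ) := [
  [0, 0, 0, 0, 0, 0, 0, 0, 0, 0, 0, 0, 0, 0, 0, 0, 0, 0, 0, 0, 0, 0, 0, 0, 0, 0, 0, 0, 0, 0, 0, 0, 0, 0, 0, 0, 0, 0, 0, 0, 0, 0, 1, 0, 0, 0, 0, 0, 0, 0, 0, 0, 0, 0, 0, 0, 0, 0, 0, 0, 1, 1, 0, 1, 0, 0, 0, 0, 0, 1, 0, 0, 0, 0, 1, 0, 0, 0, 0, 0, 0, 1, 0, 0, 1, 0, 0, 0, 0, 0, 0, 0, 0, 0, 1, 0, 1, 0, 0, 1, 0, 0, 1, 0, 0, 0, 0, 0, 0, 0, 0, 0, 0, 1, 0, 1, 0, 0, 0, 0, 0, 0, 0, 0, 0, 0, 0, 0, 0, 0, 0, 0, 0, 0, 0, 0, 0, 0, 0, 0, 0, 0, 0, 0, 0, 0, 0, 0, 0, 0, 0, 0, 0, 0, 0],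
  [0, 0, 0, 0, 0, 0, 0, 0, 0, 0, 0, 0, 0, 0, 0, 0, 0, 0, 0, 0, 0, 0, 0, 0, 0, 0, 0, 0, 0, 0, 0, 0, 0, 0, 0, 0, 0, 0, 0, 0, 0, 0, 0, 0, 0, 0, 0, 0, 0, 0, 0, 0, 0, 0, 0, 0, 0, 0, 0, 0, 0, 1, 0, 0, 0, 1, 0, 0, 0, 0, 0, 0, 0, 0, 0, 0, 0, 0, 1, 0, 0, 0, 0, 0, 0, 0, 0, 0, 0, 0, 0, 0, 0, 0, 0, 0, 0, 1, 0, 0, 0, 1, 0, 0, 1, 1, 0, 0, 0, 0, 0, 0, 0, 0, 0, 0, 0, 0, 0, 0, 0, 0, 0, 0, 0, 0, 0, 0, 0, 0, 0, 0, 0, 0, 0, 0, 0, 0, 0, 0, 0, 0, 0, 0, 0, 0, 0, 0, 0, 0, 0, 0, 0, 0, 0],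
  [0, 0, 0, 0, 0, 0, 0, 0, 0, 0, 0, 0, 0, 0, 0, 0, 0, 0, 0, 0, 0, 0, 0, 0, 0, 0, 0, 0, 0, 0, 0, 0, 0, 0, 0, 0, 0, 0, 0, 0, 0, 0, 0, 0, 0, 0, 0, 0, 0, 0, 0, 0, 0, 0, 0, 0, 0, 0, 0, 0, 0, 1, 0, 0, 0, 1, 0, 0, 0, 0, 0, 0, 0, 0, 0, 0, 0, 0, 0, 1, 0, 0, 0, 0, 0, 0, 0, 0, 0, 0, 0, 0, 0, 0, 0, 0, 0, 1, 0, 0, 0, 1, 0, 0, 1, 0, 1, 0, 0, 0, 0, 0, 0, 0, 0, 0, 0, 0, 0, 0, 0, 0, 0, 0, 0, 0, 0, 0, 0, 0, 0, 0, 0, 0, 0, 0, 0, 0, 0, 0, 0, 0, 0, 0, 0, 0, 0, 0, 0, 0, 0, 0, 0, 0, 0],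
  [0, 0, 0, 0, 0, 0, 0, 0, 0, 0, 0, 0, 0, 0, 0, 0, 0, 0, 0, 0, 0, 0, 0, 0, 0, 0, 0, 0, 0, 0, 0, 0, 0, 0, 0, 0, 0, 0, 0, 0, 0, 0, 0, 0, 0, 0, 0, 0, 0, 0, 0, 1, 0, 0, 1, 0, 0, 0, 0, 0, 0, 0, 0, 0, 0, 0, 0, 0, 0, 0, 0, 0, 0, 0, 0, 0, 0, 0, 0, 0, 1, 0, 0, 0, 1, 0, 0, 1, 0, 0, 1, 0, 0, 0, 0, 0, 0, 1, 0, 0, 0, 0, 0, 1, 1, 0, 0, 1, 0, 0, 0, 0, 0, 0, 1, 0, 0, 0, 1, 0, 0, 0, 0, 0, 0, 0, 0, 0, 0, 0, 0, 0, 0, 0, 0, 0, 0, 0, 0, 0, 0, 0, 0, 0, 0, 0, 0, 0, 0, 0, 0, 0, 0, 0, 0],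
  [0, 0, 0, 0, 0, 0, 0, 0, 0, 0, 0, 0, 0, 0, 0, 0, 0, 0, 0, 0, 0, 0, 0, 0, 0, 0, 0, 0, 0, 0, 0, 0, 0, 0, 0, 0, 0, 0, 0, 0, 0, 0, 0, 0, 0, 0, 0, 0, 0, 0, 0, 0, 0, 0, 0, 0, 0, 0, 0, 0, 0, 0, 0, 0, 0, 0, 0, 0, 0, 0, 0, 0, 0, 0, 0, 0, 0, 0, 0, 0, 0, 0, 1, 0, 0, 0, 0, 0, 0, 0, 0, 0, 0, 0, 0, 0, 0, 0, 0, 0, 0, 0, 0, 0, 0, 0, 0, 0, 0, 1, 0, 0, 0, 0, 0, 0, 0, 0, 0, 0, 0, 0, 0, 0, 0, 0, 0, 0, 0, 0, 0, 0, 0, 0, 0, 0, 0, 0, 0, 0, 0, 0, 0, 0, 0, 0, 0, 0, 0, 0, 0, 0, 0, 0, 0],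
  [0, 0, 0, 0, 0, 0, 0, 0, 0, 0, 0, 0, 0, 0, 0, 0, 0, 0, 0, 0, 0, 0, 0, 0, 0, 0, 0, 0, 0, 0, 0, 0, 0, 0, 0, 0, 0, 0, 0, 0, 0, 0, 0, 0, 0, 0, 0, 0, 0, 0, 0, 0, 0, 0, 0, 0, 0, 0, 0, 0, 0, 0, 0, 0, 0, 0, 0, 0, 0, 0, 0, 0, 0, 0, 0, 0, 0, 0, 0, 0, 0, 0, 0, 0, 1, 0, 0, 0, 0, 0, 0, 0, 0, 0, 0, 0, 0, 0, 0, 0, 0, 0, 0, 0, 0, 0, 0, 0, 0, 0, 0, 1, 0, 0, 0, 0, 0, 0, 0, 0, 0, 0, 0, 0, 0, 0, 0, 0, 0, 0, 0, 0, 0, 0, 0, 0, 0, 0, 0, 0, 0, 0, 0, 0, 0, 0, 0, 0, 0, 0, 0, 0, 0, 0, 0],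
  [0, 0, 0, 0, 0, 0, 0, 0, 0, 0, 0, 0, 0, 0, 0, 0, 0, 0, 0, 0, 0, 0, 0, 0, 0, 0, 0, 0, 0, 0, 0, 0, 0, 0, 1, 0, 1, 0, 0, 0, 0, 0, 0, 1, 1, 1, 0, 0, 0, 0, 0, 0, 0, 1, 1, 1, 0, 0, 0, 0, 0, 0, 0, 1, 0, 0, 0, 0, 0, 0, 0, 0, 0, 0, 1, 0, 1, 0, 1, 0, 0, 0, 0, 0, 0, 1, 1, 1, 0, 0, 0, 0, 0, 0, 0, 0, 0, 0, 0, 0, 0, 1, 0, 1, 0, 1, 0, 0, 0, 0, 0, 0, 0, 1, 0, 1, 0, 1, 1, 0, 0, 0, 0, 0, 0, 0, 0, 0, 0, 0, 0, 0, 0, 0, 0, 0, 0, 0, 0, 0, 0, 0, 0, 0, 0, 0, 0, 0, 0, 0, 0, 0, 0, 0, 0],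
  [0, 0, 0, 0, 0, 0, 0, 0, 0, 0, 0, 0, 0, 0, 0, 0, 0, 0, 0, 0, 0, 0, 0, 0, 0, 0, 0, 0, 0, 0, 0, 0, 0, 0, 0, 0, 0, 0, 0, 0, 0, 0, 0, 1, 0, 0, 0, 0, 0, 0, 0, 0, 1, 0, 0, 0, 0, 0, 0, 0, 0, 0, 1, 0, 0, 0, 0, 0, 0, 0, 0, 0, 0, 0, 0, 0, 0, 0, 0, 0, 0, 1, 0, 0, 0, 0, 0, 0, 0, 0, 1, 0, 0, 0, 0, 0, 0, 0, 0, 0, 1, 1, 0, 0, 1, 0, 0, 0, 1, 0, 0, 0, 0, 0, 1, 1, 0, 1, 1, 0, 0, 0, 0, 0, 0, 0, 0, 0, 0, 0, 0, 0, 0, 0, 0, 0, 0, 0, 0, 0, 0, 0, 0, 0, 0, 0, 0, 0, 0, 0, 0, 0, 0, 0, 0]]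

/-- a block of vecs -/
def twoVecs5 : List (List ℤ) := [
  [0, 0, 0, 0, 0, 0, 0, 0, 0, 0, 0, 0, 0, 0, 0, 0, 0, 0, 0, 0, 0, 0, 0, 0, 0, 0, 0, 0, 0, 0, 0, 0, 0, 0, 0, 0, 0, 0, 0, 0, 0, 0, 0, 0, 0, 0, 0, 0, 0, 0, 0, 0, 0, 0, 0, 0, 0, 0, 0, 0, 0, 0, 1, 0, 0, 0, 0, 1, 0, 0, 0, 0, 0, 0, 0, 0, 1, 0, 0, 0, 0, 0, 0, 0, 0, 0, 0, 0, 0, 0, 0, 0, 1, 0, 0, 0, 0, 0, 1, 0, 0, 1, 0, 0, 1, 0, 1, 0, 0, 0, 0, 0, 0, 0, 0, 1, 1, 0, 1, 1, 0, 0, 0, 0, 0, 0, 0, 0, 0, 0, 0, 0, 0, 0, 0, 0, 0, 0, 0, 0, 0, 0, 0, 0, 0, 0, 0, 0, 0, 0, 0, 0, 0, 0, 0],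
  [0, 0, 0, 0, 0, 0, 0, 0, 0, 0, 0, 0, 0, 0, 0, 0, 0, 0, 0, 0, 0, 0, 0, 0, 0, 0, 0, 0, 0, 0, 0, 0, 0, 0, 0, 0, 0, 0, 0, 0, 0, 0, 0, 0, 0, 0, 0, 0, 0, 0, 0, 1, 1, 0, 0, 0, 0, 0, 0, 0, 0, 1, 0, 0, 1, 0, 0, 0, 1, 0, 0, 0, 1, 0, 0, 1, 1, 0, 0, 0, 0, 0, 0, 0, 0, 1, 0, 1, 1, 0, 0, 0, 0, 1, 0, 0, 0, 1, 1, 0, 1, 1, 1, 1, 0, 0, 0, 1, 0, 0, 0, 0, 0, 0, 1, 0, 0, 0, 0, 0, 0, 0, 0, 0, 0, 0, 0, 0, 0, 0, 0, 0, 0, 0, 0, 0, 0, 0, 0, 0, 0, 0, 0, 0, 0, 0, 0, 0, 0, 0, 0, 0, 0, 0, 0],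
  [0, 0, 0, 0, 0, 0, 0, 0, 0, 0, 0, 0, 0, 0, 0, 0, 0, 0, 0, 0, 0, 0, 0, 0, 0, 0, 0, 0, 0, 0, 0, 0, 0, 0, 0, 0, 0, 0, 0, 0, 0, 0, 0, 1, 1, 0, 0, 0, 0, 0, 0, 0, 1, 1, 1, 0, 0, 0, 0, 0, 0, 0, 1, 1, 1, 1, 0, 0, 0, 0, 0, 0, 0, 0, 0, 0, 0, 0, 1, 0, 0, 0, 0, 0, 0, 1, 1, 1, 1, 0, 1, 0, 0, 0, 0, 0, 0, 0, 0, 0, 0, 1, 0, 0, 0, 1, 0, 0, 0, 0, 0, 0, 1, 1, 1, 0, 0, 1, 0, 1, 0, 0, 0, 0, 0, 0, 0, 0, 0, 0, 0, 0, 0, 0, 0, 0, 0, 0, 0, 0, 0, 0, 0, 0, 0, 0, 0, 0, 0, 0, 0, 0, 0, 0, 0],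
  [0, 0, 0, 0, 0, 0, 0, 0, 0, 0, 0, 0, 0, 0, 0, 0, 0, 0, 0, 0, 0, 0, 0, 0, 0, 0, 0, 0, 0, 0, 0, 0, 0, 0, 0, 0, 0, 0, 0, 0, 0, 0, 0, 0, 0, 0, 0, 0, 0, 0, 0, 0, 0, 0, 0, 0, 0, 0, 0, 0, 0, 0, 0, 0, 0, 0, 0, 0, 0, 0, 0, 0, 0, 0, 0, 0, 0, 0, 0, 1, 0, 0, 0, 0, 0, 0, 0, 0, 0, 0, 0, 0, 0, 0, 0, 0, 0, 0, 0, 0, 0, 0, 0, 0, 0, 0, 1, 0, 0, 0, 0, 0, 0, 0, 0, 0, 0, 0, 0, 0, 0, 0, 0, 0, 0, 0, 0, 0, 0, 0, 0, 0, 0, 0, 0, 0, 0, 0, 0, 0, 0, 0, 0, 0, 0, 0, 0, 0, 0, 0, 0, 0, 0, 0, 0],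
  [0, 0, 0, 0, 0, 0, 0, 0, 0, 0, 0, 0, 0, 0, 0, 0, 0, 0, 0, 0, 0, 0, 0, 0, 0, 0, 0, 0, 0, 0, 0, 0, 0, 0, 0, 0, 0, 0, 0, 0, 0, 0, 0, 0, 0, 0, 0, 0, 0, 0, 0, 0, 1, 0, 1, 0, 0, 0, 0, 0, 0, 0, 1, 0, 1, 1, 0, 0, 0, 0, 0, 0, 0, 1, 0, 1, 1, 1, 0, 0, 1, 0, 0, 0, 0, 0, 0, 0, 0, 0, 0, 0, 0, 0, 0, 0, 0, 0, 1, 0, 0, 0, 1, 0, 1, 0, 0, 1, 0, 0, 0, 0, 0, 0, 1, 1, 0, 0, 1, 0, 0, 0, 0, 0, 0, 0, 0, 0, 0, 0, 0, 0, 0, 0, 0, 0, 0, 0, 0, 0, 0, 0, 0, 0, 0, 0, 0, 0, 0, 0, 0, 0, 0, 0, 0],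
  [0, 0, 0, 0, 0, 0, 0, 0, 0, 0, 0, 0, 0, 0, 0, 0, 0, 0, 0, 0, 0, 0, 0, 0, 0, 0, 0, 0, 0, 0, 0, 0, 0, 0, 0, 0, 0, 0, 0, 0, 0, 0, 0, 0, 0, 0, 0, 0, 0, 0, 0, 0, 0, 0, 0, 0, 0, 0, 0, 0, 0, 0, 0, 0, 0, 0, 0, 0, 0, 0, 0, 0, 0, 0, 0, 0, 0, 0, 0, 0, 0, 1, 0, 0, 0, 1, 0, 0, 0, 0, 1, 0, 0, 0, 0, 0, 0, 0, 0, 0, 0, 0, 0, 0, 0, 0, 0, 0, 1, 0, 0, 0, 1, 0, 0, 0, 0, 1, 0, 1, 0, 0, 0, 0, 0, 0, 0, 0, 0, 0, 0, 0, 0, 0, 0, 0, 0, 0, 0, 0, 0, 0, 0, 0, 0, 0, 0, 0, 0, 0, 0, 0, 0, 0, 0],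
  [0, 0, 0, 0, 0, 0, 0, 0, 0, 0, 0, 0, 0, 0, 0, 0, 0, 0, 0, 0, 0, 0, 0, 0, 0, 0, 0, 0, 0, 0, 0, 0, 0, 0, 0, 0, 0, 0, 0, 0, 0, 0, 0, 0, 0, 0, 0, 0, 0, 0, 0, 0, 0, 0, 0, 0, 0, 0, 0, 0, 0, 0, 0, 0, 0, 0, 0, 0, 0, 0, 0, 0, 0, 0, 0, 0, 0, 0, 0, 0, 0, 0, 0, 0, 0, 1, 0, 0, 0, 0, 0, 0, 0, 0, 0, 0, 0, 0, 0, 0, 0, 0, 0, 0, 0, 0, 0, 0, 0, 0, 0, 0, 1, 0, 0, 0, 0, 0, 0, 0, 0, 0, 0, 0, 0, 0, 0, 0, 0, 0, 0, 0, 0, 0, 0, 0, 0, 0, 0, 0, 0, 0, 0, 0, 0, 0, 0, 0, 0, 0, 0, 0, 0, 0, 0],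
  [0, 0, 0, 0, 0, 0, 0, 0, 0, 0, 0, 0, 0, 0, 0, 0, 0, 0, 0, 0, 0, 0, 0, 0, 0, 0, 0, 0, 0, 0, 0, 0, 0, 0, 0, 0, 0, 0, 0, 0, 0, 0, 1, 0, 0, 0, 0, 0, 0, 0, 0, 0, 0, 0, 0, 1, 0, 0, 0, 0, 0, 0, 0, 0, 0, 1, 0, 0, 0, 0, 0, 0, 0, 0, 0, 0, 0, 0, 0, 0, 0, 0, 0, 0, 0, 0, 0, 0, 0, 0, 0, 1, 0, 0, 0, 0, 0, 0, 0, 0, 0, 1, 0, 1, 1, 0, 0, 0, 0, 0, 0, 0, 0, 0, 0, 0, 0, 0, 0, 0, 0, 0, 0, 0, 0, 0, 0, 0, 0, 0, 0, 0, 0, 0, 0, 0, 0, 0, 0, 0, 0, 0, 0, 0, 0, 0, 0, 0, 0, 0, 0, 0, 0, 0, 0]]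

/-- a block of vecs -/
def twoVecs6 : List (List ℤ) := [
  [0, 0, 0, 0, 0, 0, 0, 0, 0, 0, 0, 0, 0, 0, 0, 0, 0, 0, 0, 0, 0, 0, 0, 0, 0, 0, 0, 0, 0, 0, 0, 0, 0, 0, 0, 0, 0, 0, 0, 1, 1, 0, 1, 1, 0, 0, 0, 0, 0, 0, 0, 0, 0, 0, 0, 1, 0, 1, 0, 0, 0, 0, 0, 1, 0, 0, 1, 0, 0, 1, 0, 0, 1, 1, 0, 0, 0, 1, 0, 0, 0, 0, 0, 0, 1, 0, 0, 0, 0, 0, 0, 0, 0, 1, 1, 0, 0, 0, 0, 1, 0, 0, 1, 0, 1, 0, 0, 0, 0, 1, 0, 1, 1, 1, 0, 0, 0, 0, 0, 1, 0, 0, 0, 0, 0, 0, 0, 0, 0, 0, 0, 0, 0, 0, 0, 0, 0, 0, 0, 0, 0, 0, 0, 0, 0, 0, 0, 0, 0, 0, 0, 0, 0, 0, 0],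
  [0, 0, 0, 0, 0, 0, 0, 0, 0, 0, 0, 0, 0, 0, 0, 0, 0, 0, 0, 0, 0, 0, 0, 0, 0, 0, 0, 0, 0, 0, 0, 0, 0, 0, 0, 0, 0, 0, 0, 0, 0, 0, 0, 0, 0, 0, 0, 0, 0, 0, 0, 0, 0, 1, 0, 0, 0, 1, 0, 0, 0, 0, 0, 1, 0, 1, 0, 0, 1, 0, 0, 0, 0, 0, 1, 0, 1, 1, 0, 0, 0, 0, 0, 0, 0, 0, 1, 0, 0, 0, 0, 0, 0, 0, 0, 0, 0, 0, 0, 0, 0, 1, 1, 1, 1, 0, 0, 0, 0, 0, 0, 0, 0, 0, 0, 1, 1, 1, 1, 1, 0, 0, 0, 0, 0, 0, 0, 0, 0, 0, 0, 0, 0, 0, 0, 0, 0, 0, 0, 0, 0, 0, 0, 0, 0, 0, 0, 0, 0, 0, 0, 0, 0, 0, 0],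
  [0, 0, 0, 0, 0, 0, 0, 0, 0, 0, 0, 0, 0, 0, 0, 0, 0, 0, 0, 0, 0, 0, 0, 0, 0, 0, 0, 0, 0, 0, 0, 0, 0, 0, 0, 0, 0, 0, 0, 0, 0, 0, 0, 1, 0, 0, 0, 0, 0, 0, 0, 0, 0, 0, 0, 0, 0, 0, 0, 0, 0, 0, 0, 0, 0, 0, 0, 1, 0, 0, 0, 0, 0, 1, 0, 0, 0, 0, 0, 0, 0, 1, 0, 0, 0, 1, 1, 0, 0, 0, 0, 0, 0, 0, 0, 0, 0, 0, 0, 0, 0, 0, 1, 0, 0, 0, 0, 0, 1, 0, 0, 0, 1, 0, 0, 0, 0, 1, 1, 0, 0, 0, 0, 0, 0, 0, 0, 0, 0, 0, 0, 0, 0, 0, 0, 0, 0, 0, 0, 0, 0, 0, 0, 0, 0, 0, 0, 0, 0, 0, 0, 0, 0, 0, 0],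
  [0, 0, 0, 0, 0, 0, 0, 0, 0, 0, 0, 0, 0, 0, 0, 0, 0, 0, 0, 0, 0, 0, 0, 0, 0, 0, 0, 0, 0, 0, 0, 0, 0, 0, 0, 0, 0, 0, 0, 0, 0, 0, 0, 0, 0, 0, 0, 0, 0, 0, 0, 0, 0, 1, 0, 0, 0, 0, 0, 0, 0, 0, 0, 1, 0, 0, 0, 0, 0, 1, 0, 0, 0, 0, 0, 0, 0, 1, 0, 0, 0, 0, 0, 0, 0, 0, 0, 0, 0, 0, 0, 0, 0, 0, 0, 0, 0, 0, 0, 0, 0, 1, 0, 0, 1, 0, 0, 0, 0, 0, 0, 0, 0, 0, 0, 1, 0, 0, 1, 1, 0, 0, 0, 0, 0, 0, 0, 0, 0, 0, 0, 0, 0, 0, 0, 0, 0, 0, 0, 0, 0, 0, 0, 0, 0, 0, 0, 0, 0, 0, 0, 0, 0, 0, 0],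
  [0, 0, 0, 0, 0, 0, 0, 0, 0, 0, 0, 0, 0, 0, 0, 0, 0, 0, 0, 0, 0, 0, 0, 0, 0, 0, 0, 0, 0, 0, 0, 0, 0, 0, 0, 0, 0, 0, 0, 0, 0, 0, 0, 0, 0, 0, 0, 0, 0, 0, 0, 0, 0, 0, 0, 0, 0, 0, 0, 0, 0, 0, 0, 0, 0, 0, 0, 0, 0, 0, 1, 0, 0, 0, 0, 0, 0, 1, 0, 0, 0, 0, 1, 0, 0, 0, 0, 0, 0, 1, 1, 0, 0, 0, 0, 0, 0, 0, 0, 0, 0, 0, 0, 0, 0, 0, 0, 0, 0, 0, 0, 0, 0, 0, 0, 0, 0, 0, 0, 0, 0, 0, 0, 0, 0, 0, 0, 0, 0, 0, 0, 0, 0, 0, 0, 0, 0, 0, 0, 0, 0, 0, 0, 0, 0, 0, 0, 0, 0, 0, 0, 0, 0, 0, 0],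
  [0, 0, 0, 0, 0, 0, 0, 0, 0, 0, 0, 0, 0, 0, 0, 0, 0, 0, 0, 0, 0, 0, 0, 0, 0, 0, 0, 0, 0, 0, 0, 0, 0, 0, 0, 0, 0, 0, 0, 0, 0, 0, 0, 0, 0, 0, 0, 0, 0, 0, 0, 0, 0, 0, 0, 0, 0, 0, 0, 0, 0, 0, 0, 0, 0, 0, 0, 0, 0, 0, 0, 0, 0, 0, 0, 0, 0, 0, 0, 0, 0, 0, 0, 1, 0, 0, 1, 0, 0, 0, 1, 0, 0, 0, 0, 0, 0, 0, 0, 1, 0, 0, 0, 0, 0, 0, 0, 0, 0, 0, 0, 0, 0, 0, 0, 0, 0, 0, 0, 0, 0, 0, 0, 0, 0, 0, 0, 0, 0, 0, 0, 0, 0, 0, 0, 0, 0, 0, 0, 0, 0, 0, 0, 0, 0, 0, 0, 0, 0, 0, 0, 0, 0, 0, 0],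
  [0, 0, 0, 0, 0, 0, 0, 0, 0, 0, 0, 0, 0, 0, 0, 0, 0, 0, 0, 0, 0, 0, 0, 0, 0, 0, 0, 0, 0, 0, 0, 0, 0, 0, 0, 0, 0, 0, 0, 0, 0, 0, 0, 0, 0, 0, 0, 0, 0, 0, 0, 0, 0, 0, 0, 0, 0, 0, 0, 0, 0, 0, 0, 1, 0, 0, 0, 0, 0, 0, 0, 0, 0, 0, 0, 0, 0, 0, 0, 1, 0, 0, 0, 0, 1, 0, 0, 0, 0, 0, 0, 0, 0, 0, 0, 0, 0, 0, 0, 1, 0, 0, 0, 0, 0, 0, 0, 0, 0, 0, 0, 1, 0, 0, 0, 1, 0, 1, 1, 0, 0, 0, 0, 0, 0, 0, 0, 0, 0, 0, 0, 0, 0, 0, 0, 0, 0, 0, 0, 0, 0, 0, 0, 0, 0, 0, 0, 0, 0, 0, 0, 0, 0, 0, 0],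
  [0, 0, 0, 0, 0, 0, 0, 0, 0, 0, 0, 0, 0, 0, 0, 0, 0, 0, 0, 0, 0, 0, 0, 0, 0, 0, 0, 0, 0, 0, 0, 0, 0, 0, 0, 0, 0, 0, 0, 0, 0, 0, 0, 0, 0, 0, 0, 0, 0, 0, 0, 0, 0, 1, 0, 0, 0, 0, 0, 0, 0, 1, 0, 0, 1, 0, 0, 0, 0, 0, 0, 0, 1, 0, 0, 1, 0, 0, 0, 0, 1, 0, 0, 0, 0, 0, 1, 1, 0, 0, 0, 0, 0, 0, 0, 0, 0, 0, 0, 1, 0, 0, 0, 1, 1, 0, 0, 0, 0, 0, 0, 0, 0, 0, 0, 1, 1, 0, 0, 1, 0, 0, 0, 0, 0, 0, 0, 0, 0, 0, 0, 0, 0, 0, 0, 0, 0, 0, 0, 0, 0, 0, 0, 0, 0, 0, 0, 0, 0, 0, 0, 0, 0, 0, 0]]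

/-- a block of vecs -/
def twoVecs7 : List (List ℤ) := [
  [0, 0, 0, 0, 0, 0, 0, 0, 0, 0, 0, 0, 0, 0, 0, 0, 0, 0, 0, 0, 0, 0, 0, 0, 0, 0, 0, 0, 0, 0, 0, 0, 0, 0, 0, 0, 0, 0, 0, 0, 0, 0, 0, 0, 0, 0, 0, 0, 0, 0, 0, 0, 0, 0, 0, 0, 0, 0, 0, 0, 0, 0, 0, 1, 0, 0, 0, 0, 0, 0, 0, 0, 1, 0, 0, 0, 1, 0, 0, 0, 0, 1, 0, 0, 0, 0, 0, 0, 1, 1, 0, 0, 0, 0, 0, 0, 0, 0, 0, 1, 0, 0, 1, 1, 0, 0, 0, 0, 0, 0, 0, 0, 0, 0, 0, 0, 0, 0, 0, 0, 0, 0, 0, 0, 0, 0, 0, 0, 0, 0, 0, 0, 0, 0, 0, 0, 0, 0, 0, 0, 0, 0, 0, 0, 0, 0, 0, 0, 0, 0, 0, 0, 0, 0, 0],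
  [0, 0, 0, 0, 0, 0, 0, 0, 0, 0, 0, 0, 0, 0, 0, 0, 0, 0, 0, 0, 0, 0, 0, 0, 0, 0, 0, 0, 0, 0, 0, 0, 0, 0, 0, 0, 0, 0, 0, 0, 0, 0, 0, 0, 0, 0, 0, 0, 0, 0, 0, 0, 0, 0, 0, 0, 0, 0, 0, 0, 0, 0, 0, 0, 0, 0, 0, 0, 0, 0, 0, 0, 1, 0, 0, 0, 0, 0, 0, 0, 0, 0, 1, 0, 1, 0, 0, 0, 0, 1, 0, 0, 0, 0, 0, 0, 0, 0, 0, 0, 0, 0, 0, 0, 0, 0, 0, 0, 0, 0, 0, 0, 0, 0, 0, 0, 0, 0, 0, 0, 0, 0, 0, 0, 0, 0, 0, 0, 0, 0, 0, 0, 0, 0, 0, 0, 0, 0, 0, 0, 0, 0, 0, 0, 0, 0, 0, 0, 0, 0, 0, 0, 0, 0, 0],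
  [0, 0, 0, 0, 0, 0, 0, 0, 0, 0, 0, 0, 0, 0, 0, 0, 0, 0, 0, 0, 0, 0, 0, 0, 0, 0, 0, 0, 0, 0, 0, 0, 0, 0, 0, 0, 0, 0, 0, 0, 0, 0, 0, 0, 0, 0, 0, 0, 0, 0, 0, 0, 0, 0, 0, 0, 0, 0, 0, 0, 0, 0, 0, 1, 0, 1, 0, 0, 0, 0, 0, 0, 0, 0, 0, 0, 0, 0, 0, 0, 0, 0, 0, 0, 0, 0, 0, 0, 0, 0, 0, 1, 0, 0, 0, 0, 0, 0, 0, 1, 0, 1, 0, 0, 1, 1, 0, 0, 0, 0, 0, 0, 0, 0, 0, 0, 0, 0, 0, 0, 0, 0, 0, 0, 0, 0, 0, 0, 0, 0, 0, 0, 0, 0, 0, 0, 0, 0, 0, 0, 0, 0, 0, 0, 0, 0, 0, 0, 0, 0, 0, 0, 0, 0, 0],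
  [0, 0, 0, 0, 0, 0, 0, 0, 0, 0, 0, 0, 0, 0, 0, 0, 0, 0, 0, 0, 0, 0, 0, 0, 0, 0, 0, 0, 0, 0, 0, 0, 0, 0, 0, 0, 0, 0, 0, 0, 0, 0, 0, 0, 0, 0, 0, 0, 0, 0, 0, 0, 0, 0, 0, 0, 0, 0, 0, 0, 0, 0, 0, 0, 0, 0, 0, 0, 0, 0, 0, 0, 0, 0, 0, 0, 0, 0, 0, 0, 0, 0, 0, 0, 0, 0, 1, 0, 0, 0, 1, 0, 1, 0, 0, 0, 0, 0, 0, 0, 0, 0, 0, 0, 0, 0, 1, 0, 0, 0, 0, 0, 0, 1, 0, 0, 0, 1, 0, 1, 0, 0, 0, 0, 0, 0, 0, 0, 0, 0, 0, 0, 0, 0, 0, 0, 0, 0, 0, 0, 0, 0, 0, 0, 0, 0, 0, 0, 0, 0, 0, 0, 0, 0, 0],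
  [0, 0, 0, 0, 0, 0, 0, 0, 0, 0, 0, 0, 0, 0, 0, 0, 0, 0, 0, 0, 0, 0, 0, 0, 0, 0, 0, 0, 0, 0, 0, 0, 0, 0, 0, 0, 0, 0, 0, 0, 0, 0, 0, 0, 0, 0, 0, 0, 0, 0, 0, 0, 0, 0, 0, 0, 0, 0, 0, 0, 0, 0, 0, 0, 0, 0, 0, 0, 0, 0, 0, 0, 0, 0, 1, 0, 0, 1, 0, 0, 0, 0, 0, 0, 0, 0, 0, 0, 0, 0, 0, 0, 0, 0, 1, 0, 0, 0, 0, 0, 0, 0, 0, 0, 0, 0, 0, 0, 1, 0, 0, 0, 0, 0, 0, 0, 0, 0, 0, 0, 0, 0, 0, 0, 0, 0, 0, 0, 0, 0, 0, 0, 0, 0, 0, 0, 0, 0, 0, 0, 0, 0, 0, 0, 0, 0, 0, 0, 0, 0, 0, 0, 0, 0, 0],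
  [0, 0, 0, 0, 0, 0, 0, 0, 0, 0, 0, 0, 0, 0, 0, 0, 0, 0, 0, 0, 0, 0, 0, 0, 0, 0, 0, 0, 0, 0, 0, 0, 0, 0, 0, 0, 0, 0, 0, 0, 0, 0, 0, 0, 0, 0, 0, 0, 0, 0, 0, 0, 0, 0, 0, 0, 0, 0, 0, 0, 0, 0, 0, 0, 0, 0, 0, 0, 0, 0, 0, 0, 0, 0, 0, 0, 0, 0, 0, 0, 0, 0, 0, 0, 0, 0, 1, 0, 0, 0, 1, 0, 0, 0, 0, 0, 1, 0, 0, 0, 0, 0, 0, 0, 0, 0, 0, 0, 0, 0, 1, 0, 0, 0, 0, 0, 0, 0, 0, 0, 0, 0, 0, 0, 0, 0, 0, 0, 0, 0, 0, 0, 0, 0, 0, 0, 0, 0, 0, 0, 0, 0, 0, 0, 0, 0, 0, 0, 0, 0, 0, 0, 0, 0, 0],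
  [0, 0, 0, 0, 0, 0, 0, 0, 0, 0, 0, 0, 0, 0, 0, 0, 0, 0, 0, 0, 0, 0, 0, 0, 0, 0, 0, 0, 0, 0, 0, 0, 0, 0, 0, 0, 0, 0, 0, 0, 0, 0, 0, 0, 0, 0, 0, 0, 0, 0, 0, 0, 0, 0, 0, 0, 0, 0, 0, 0, 0, 0, 0, 0, 0, 0, 0, 0, 0, 0, 0, 0, 0, 0, 0, 0, 0, 0, 0, 0, 0, 0, 0, 0, 0, 0, 0, 0, 0, 0, 0, 0, 0, 0, 0, 0, 0, 0, 0, 1, 0, 0, 0, 0, 0, 0, 0, 0, 0, 0, 0, 0, 0, 1, 0, 0, 0, 0, 0, 0, 0, 0, 0, 0, 0, 0, 0, 0, 0, 0, 0, 0, 0, 0, 0, 0, 0, 0, 0, 0, 0, 0, 0, 0, 0, 0, 0, 0, 0, 0, 0, 0, 0, 0, 0],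
  [0, 0, 0, 0, 0, 0, 0, 0, 0, 0, 0, 0, 0, 0, 0, 0, 0, 0, 0, 0, 0, 0, 0, 0, 0, 0, 0, 0, 0, 0, 0, 0, 0, 0, 0, 0, 0, 0, 0, 0, 0, 0, 0, 0, 0, 0, 0, 0, 0, 0, 0, 1, 0, 1, 0, 1, 0, 0, 0, 0, 0, 0, 0, 0, 0, 1, 1, 0, 0, 0, 0, 0, 0, 0, 0, 0, 1, 1, 1, 0, 0, 0, 0, 0, 0, 0, 0, 1, 1, 0, 0, 1, 0, 0, 0, 0, 0, 0, 0, 1, 0, 1, 1, 1, 0, 0, 0, 0, 0, 0, 0, 0, 0, 1, 0, 0, 0, 0, 1, 1, 0, 0, 0, 0, 0, 0, 0, 0, 0, 0, 0, 0, 0, 0, 0, 0, 0, 0, 0, 0, 0, 0, 0, 0, 0, 0, 0, 0, 0, 0, 0, 0, 0, 0, 0]]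

/-- a block of vecs -/
def twoVecs8 : List (List ℤ) := [
  [0, 0, 0, 0, 0, 0, 0, 0, 0, 0, 0, 0, 0, 0, 0, 0, 0, 0, 0, 0, 0, 0, 0, 0, 0, 0, 0, 0, 0, 0, 0, 0, 0, 0, 0, 0, 0, 0, 0, 0, 0, 0, 0, 0, 0, 0, 0, 0, 0, 0, 0, 0, 1, 1, 0, 0, 0, 0, 0, 0, 0, 0, 0, 0, 1, 0, 0, 1, 0, 0, 0, 0, 0, 0, 0, 0, 0, 1, 0, 0, 0, 0, 0, 0, 0, 0, 0, 0, 0, 0, 0, 0, 0, 0, 0, 0, 0, 0, 0, 0, 1, 1, 0, 0, 0, 0, 1, 0, 0, 0, 0, 0, 0, 0, 1, 1, 1, 0, 1, 1, 0, 0, 0, 0, 0, 0, 0, 0, 0, 0, 0, 0, 0, 0, 0, 0, 0, 0, 0, 0, 0, 0, 0, 0, 0, 0, 0, 0, 0, 0, 0, 0, 0, 0, 0],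
  [0, 0, 0, 0, 0, 0, 0, 0, 0, 0, 0, 0, 0, 0, 0, 0, 0, 0, 0, 0, 0, 0, 0, 0, 0, 0, 0, 0, 0, 0, 0, 0, 0, 0, 0, 0, 0, 0, 0, 0, 0, 0, 0, 0, 0, 0, 0, 0, 0, 1, 1, 1, 0, 1, 0, 0, 0, 0, 0, 0, 0, 0, 0, 0, 0, 0, 0, 0, 1, 0, 1, 0, 1, 0, 1, 1, 0, 1, 0, 0, 0, 0, 0, 1, 0, 0, 0, 0, 0, 1, 1, 0, 0, 0, 0, 1, 1, 0, 0, 1, 1, 0, 1, 1, 0, 0, 0, 1, 0, 0, 0, 1, 0, 0, 1, 0, 0, 1, 1, 0, 0, 0, 0, 0, 0, 0, 0, 0, 0, 0, 0, 0, 0, 0, 0, 0, 0, 0, 0, 0, 0, 0, 0, 0, 0, 0, 0, 0, 0, 0, 0, 0, 0, 0, 0],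
  [0, 0, 0, 0, 0, 0, 0, 0, 0, 0, 0, 0, 0, 0, 0, 0, 0, 0, 0, 0, 0, 0, 0, 0, 0, 0, 0, 0, 0, 0, 0, 0, 0, 0, 0, 0, 0, 0, 0, 0, 0, 0, 0, 0, 0, 0, 0, 0, 0, 0, 0, 0, 0, 0, 0, 0, 0, 0, 0, 0, 0, 0, 0, 0, 1, 0, 0, 0, 0, 0, 0, 0, 0, 0, 0, 1, 0, 0, 0, 0, 0, 0, 0, 0, 0, 0, 0, 1, 0, 0, 0, 0, 0, 0, 0, 0, 0, 0, 0, 0, 0, 0, 0, 0, 0, 0, 0, 0, 0, 0, 0, 0, 0, 0, 0, 0, 0, 0, 0, 0, 0, 0, 0, 0, 0, 0, 0, 0, 0, 0, 0, 0, 0, 0, 0, 0, 0, 0, 0, 0, 0, 0, 0, 0, 0, 0, 0, 0, 0, 0, 0, 0, 0, 0, 0],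
  [0, 0, 0, 0, 0, 0, 0, 0, 0, 0, 0, 0, 0, 0, 0, 0, 0, 0, 0, 0, 0, 0, 0, 0, 0, 0, 0, 0, 0, 0, 0, 0, 0, 0, 0, 0, 0, 0, 0, 0, 0, 0, 0, 0, 0, 0, 0, 0, 0, 0, 0, 0, 0, 0, 0, 0, 0, 0, 0, 0, 0, 0, 0, 0, 0, 0, 0, 0, 0, 0, 0, 0, 0, 1, 0, 0, 0, 0, 0, 0, 0, 0, 0, 0, 0, 0, 0, 0, 0, 0, 0, 0, 0, 0, 0, 0, 0, 0, 0, 0, 0, 0, 0, 0, 0, 0, 0, 0, 0, 0, 0, 0, 1, 0, 0, 0, 0, 0, 0, 0, 0, 0, 0, 0, 0, 0, 0, 0, 0, 0, 0, 0, 0, 0, 0, 0, 0, 0, 0, 0, 0, 0, 0, 0, 0, 0, 0, 0, 0, 0, 0, 0, 0, 0, 0],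
  [0, 0, 0, 0, 0, 0, 0, 0, 0, 0, 0, 0, 0, 0, 0, 0, 0, 0, 0, 0, 0, 0, 0, 0, 0, 0, 0, 0, 0, 0, 0, 0, 0, 0, 0, 0, 0, 0, 0, 0, 0, 0, 0, 0, 0, 0, 0, 0, 0, 0, 0, 0, 0, 0, 0, 0, 0, 0, 0, 0, 0, 0, 0, 0, 0, 0, 0, 0, 0, 0, 0, 0, 0, 0, 0, 0, 0, 0, 0, 0, 0, 0, 0, 0, 0, 0, 0, 1, 0, 0, 0, 0, 0, 0, 0, 0, 0, 0, 0, 0, 0, 0, 0, 0, 0, 0, 0, 0, 0, 0, 0, 0, 0, 0, 1, 0, 0, 0, 0, 0, 0, 0, 0, 0, 0, 0, 0, 0, 0, 0, 0, 0, 0, 0, 0, 0, 0, 0, 0, 0, 0, 0, 0, 0, 0, 0, 0, 0, 0, 0, 0, 0, 0, 0, 0],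
  [0, 0, 0, 0, 0, 0, 0, 0, 0, 0, 0, 0, 0, 0, 0, 0, 0, 0, 0, 0, 0, 0, 0, 0, 0, 0, 0, 0, 0, 0, 0, 0, 0, 0, 0, 0, 0, 0, 0, 0, 0, 0, 0, 0, 0, 0, 0, 0, 0, 0, 0, 0, 0, 0, 0, 0, 0, 0, 0, 0, 0, 0, 0, 0, 1, 0, 0, 0, 0, 0, 0, 0, 0, 0, 0, 1, 0, 0, 0, 0, 0, 0, 0, 0, 0, 0, 0, 0, 0, 0, 0, 0, 0, 1, 0, 0, 0, 0, 0, 0, 0, 1, 1, 0, 0, 0, 0, 1, 0, 0, 0, 0, 0, 0, 0, 1, 1, 0, 0, 0, 0, 0, 0, 0, 0, 0, 0, 0, 0, 0, 0, 0, 0, 0, 0, 0, 0, 0, 0, 0, 0, 0, 0, 0, 0, 0, 0, 0, 0, 0, 0, 0, 0, 0, 0],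
  [0, 0, 0, 0, 0, 0, 0, 0, 0, 0, 0, 0, 0, 0, 0, 0, 0, 0, 0, 0, 0, 0, 0, 0, 0, 0, 0, 0, 0, 0, 0, 0, 0, 0, 0, 0, 0, 0, 0, 0, 0, 0, 0, 0, 0, 0, 0, 0, 0, 0, 0, 0, 0, 0, 0, 0, 0, 0, 0, 0, 0, 0, 0, 0, 0, 0, 0, 0, 0, 0, 0, 0, 0, 0, 0, 1, 0, 1, 0, 0, 0, 0, 0, 0, 0, 0, 0, 0, 0, 0, 0, 0, 0, 0, 0, 0, 0, 0, 0, 0, 0, 0, 0, 0, 0, 0, 0, 0, 0, 0, 0, 0, 0, 0, 1, 0, 1, 0, 0, 1, 0, 0, 0, 0, 0, 0, 0, 0, 0, 0, 0, 0, 0, 0, 0, 0, 0, 0, 0, 0, 0, 0, 0, 0, 0, 0, 0, 0, 0, 0, 0, 0, 0, 0, 0],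
  [0, 0, 0, 0, 0, 0, 0, 0, 0, 0, 0, 0, 0, 0, 0, 0, 0, 0, 0, 0, 0, 0, 0, 0, 0, 0, 0, 0, 0, 0, 0, 0, 0, 0, 0, 0, 0, 0, 0, 0, 0, 0, 0, 0, 0, 0, 0, 0, 0, 0, 0, 0, 0, 0, 0, 0, 0, 0, 0, 0, 0, 0, 0, 0, 0, 0, 0, 0, 0, 0, 0, 0, 0, 0, 0, 1, 0, 1, 0, 0, 0, 0, 0, 0, 0, 0, 0, 1, 0, 1, 1, 0, 0, 0, 0, 0, 0, 0, 0, 0, 0, 0, 0, 0, 0, 0, 0, 0, 0, 0, 0, 0, 0, 0, 0, 0, 0, 0, 0, 0, 0, 0, 0, 0, 0, 0, 0, 0, 0, 0, 0, 0, 0, 0, 0, 0, 0, 0, 0, 0, 0, 0, 0, 0, 0, 0, 0, 0, 0, 0, 0, 0, 0, 0, 0]]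

/-- a block of vecs -/
def twoVecs9 : List (List ℤ) := [
  [0, 0, 0, 0, 0, 0, 0, 0, 0, 0, 0, 0, 0, 0, 0, 0, 0, 0, 0, 0, 0, 0, 0, 0, 0, 0, 0, 0, 0, 0, 0, 0, 0, 0, 0, 0, 0, 0, 0, 0, 0, 0, 0, 0, 0, 0, 0, 0, 0, 0, 0, 0, 0, 0, 0, 0, 0, 0, 0, 0, 0, 0, 0, 0, 0, 0, 0, 0, 0, 0, 0, 0, 0, 0, 0, 0, 0, 0, 0, 0, 0, 0, 0, 0, 0, 0, 0, 0, 0, 0, 0, 0, 0, 0, 0, 0, 0, 0, 0, 0, 1, 0, 0, 0, 1, 0, 0, 0, 0, 0, 0, 0, 0, 0, 1, 0, 0, 0, 1, 1, 0, 0, 0, 0, 0, 0, 0, 0, 0, 0, 0, 0, 0, 0, 0, 0, 0, 0, 0, 0, 0, 0, 0, 0, 0, 0, 0, 0, 0, 0, 0, 0, 0, 0, 0],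
  [0, 0, 0, 0, 0, 0, 0, 0, 0, 0, 0, 0, 0, 0, 0, 0, 0, 0, 0, 0, 0, 0, 0, 0, 0, 0, 0, 0, 0, 0, 0, 0, 0, 0, 0, 0, 0, 0, 0, 0, 0, 0, 0, 0, 0, 0, 0, 0, 0, 0, 0, 0, 0, 0, 0, 0, 0, 0, 0, 0, 0, 1, 0, 1, 0, 0, 0, 0, 0, 0, 0, 0, 0, 0, 0, 0, 0, 0, 1, 0, 0, 0, 0, 0, 0, 0, 0, 0, 1, 0, 1, 0, 0, 0, 0, 0, 0, 0, 0, 0, 0, 0, 0, 0, 0, 0, 0, 0, 0, 0, 0, 0, 0, 0, 0, 0, 0, 0, 0, 0, 0, 0, 0, 0, 0, 0, 0, 0, 0, 0, 0, 0, 0, 0, 0, 0, 0, 0, 0, 0, 0, 0, 0, 0, 0, 0, 0, 0, 0, 0, 0, 0, 0, 0, 0],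
  [0, 0, 0, 0, 0, 0, 0, 0, 0, 0, 0, 0, 0, 0, 0, 0, 0, 0, 0, 0, 0, 0, 0, 0, 0, 0, 0, 0, 0, 0, 0, 0, 0, 0, 0, 0, 0, 0, 0, 0, 0, 0, 0, 0, 0, 0, 0, 0, 0, 0, 0, 0, 0, 0, 0, 0, 0, 0, 0, 0, 0, 0, 0, 0, 1, 0, 0, 0, 0, 0, 0, 0, 0, 0, 0, 0, 1, 0, 0, 0, 0, 0, 0, 0, 0, 0, 0, 0, 1, 0, 0, 0, 0, 0, 0, 0, 0, 0, 0, 0, 0, 0, 0, 0, 0, 0, 0, 0, 0, 0, 0, 0, 0, 0, 0, 0, 0, 0, 0, 0, 0, 0, 0, 0, 0, 0, 0, 0, 0, 0, 0, 0, 0, 0, 0, 0, 0, 0, 0, 0, 0, 0, 0, 0, 0, 0, 0, 0, 0, 0, 0, 0, 0, 0, 0],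
  [0, 0, 0, 0, 0, 0, 0, 0, 0, 0, 0, 0, 0, 0, 0, 0, 0, 0, 0, 0, 0, 0, 0, 0, 0, 0, 0, 0, 0, 0, 0, 0, 0, 0, 0, 0, 0, 0, 0, 0, 0, 0, 0, 0, 0, 0, 0, 0, 0, 0, 0, 0, 0, 0, 0, 0, 0, 0, 0, 0, 0, 0, 0, 0, 1, 0, 0, 0, 0, 0, 0, 0, 0, 0, 0, 0, 0, 0, 0, 0, 0, 0, 0, 0, 0, 0, 0, 0, 1, 0, 0, 0, 0, 0, 0, 0, 0, 0, 0, 0, 0, 1, 0, 0, 0, 0, 0, 0, 0, 0, 0, 0, 0, 0, 0, 0, 0, 0, 0, 0, 0, 0, 0, 0, 0, 0, 0, 0, 0, 0, 0, 0, 0, 0, 0, 0, 0, 0, 0, 0, 0, 0, 0, 0, 0, 0, 0, 0, 0, 0, 0, 0, 0, 0, 0],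
  [0, 0, 0, 0, 0, 0, 0, 0, 0, 0, 0, 0, 0, 0, 0, 0, 0, 0, 0, 0, 0, 0, 0, 0, 0, 0, 0, 0, 0, 0, 0, 0, 0, 0, 0, 0, 0, 0, 0, 0, 0, 0, 0, 0, 0, 0, 0, 0, 0, 0, 0, 0, 0, 0, 0, 0, 0, 0, 0, 0, 0, 0, 0, 0, 0, 0, 0, 0, 0, 0, 0, 0, 0, 0, 0, 0, 0, 0, 0, 0, 0, 0, 0, 0, 0, 0, 0, 0, 1, 0, 0, 0, 0, 0, 0, 0, 0, 0, 0, 0, 0, 0, 0, 0, 0, 0, 0, 0, 0, 0, 0, 0, 0, 0, 0, 1, 0, 0, 0, 0, 0, 0, 0, 0, 0, 0, 0, 0, 0, 0, 0, 0, 0, 0, 0, 0, 0, 0, 0, 0, 0, 0, 0, 0, 0, 0, 0, 0, 0, 0, 0, 0, 0, 0, 0],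
  [0, 0, 0, 0, 0, 0, 0, 0, 0, 0, 0, 0, 0, 0, 0, 0, 0, 0, 0, 0, 0, 0, 0, 0, 0, 0, 0, 0, 0, 0, 0, 0, 0, 0, 0, 0, 0, 0, 0, 0, 0, 0, 0, 0, 0, 0, 0, 0, 0, 0, 0, 0, 0, 0, 0, 0, 0, 0, 0, 0, 0, 0, 0, 0, 0, 0, 0, 0, 0, 0, 0, 0, 0, 0, 0, 0, 0, 0, 0, 0, 0, 0, 0, 0, 0, 0, 0, 0, 1, 0, 0, 0, 0, 0, 0, 0, 0, 0, 0, 0, 0, 0, 0, 0, 0, 0, 0, 0, 0, 0, 0, 0, 0, 0, 0, 0, 0, 0, 0, 0, 0, 0, 0, 0, 0, 0, 0, 0, 0, 0, 0, 0, 0, 0, 0, 0, 0, 0, 0, 0, 0, 0, 0, 0, 0, 0, 0, 0, 0, 0, 0, 0, 0, 0, 0],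
  [0, 0, 0, 0, 0, 0, 0, 0, 0, 0, 0, 0, 0, 0, 0, 0, 0, 0, 0, 0, 0, 0, 0, 0, 0, 0, 0, 0, 0, 0, 0, 0, 0, 0, 0, 0, 0, 0, 0, 0, 0, 0, 0, 0, 0, 0, 0, 0, 0, 0, 0, 0, 0, 0, 0, 0, 0, 0, 0, 0, 0, 0, 0, 0, 0, 0, 0, 0, 0, 0, 0, 0, 0, 0, 0, 0, 0, 0, 0, 0, 0, 0, 0, 0, 0, 0, 0, 0, 0, 0, 0, 0, 0, 0, 0, 0, 0, 0, 0, 0, 0, 1, 0, 0, 0, 0, 0, 0, 0, 0, 0, 0, 0, 0, 0, 1, 0, 0, 0, 0, 0, 0, 0, 0, 0, 0, 0, 0, 0, 0, 0, 0, 0, 0, 0, 0, 0, 0, 0, 0, 0, 0, 0, 0, 0, 0, 0, 0, 0, 0, 0, 0, 0, 0, 0],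
  [0, 0, 0, 0, 0, 0, 0, 0, 0, 0, 0, 0, 0, 0, 0, 0, 0, 0, 0, 0, 0, 0, 0, 0, 0, 0, 0, 0, 0, 0, 0, 0, 0, 0, 0, 0, 0, 0, 0, 0, 0, 0, 0, 0, 0, 0, 0, 0, 0, 0, 0, 0, 0, 0, 0, 0, 0, 0, 0, 0, 0, 0, 0, 0, 0, 0, 0, 0, 0, 0, 0, 0, 0, 0, 0, 0, 0, 0, 0, 0, 0, 0, 0, 0, 0, 0, 0, 0, 1, 0, 1, 0, 0, 0, 0, 0, 0, 0, 0, 0, 0, 0, 0, 0, 0, 0, 0, 0, 0, 0, 0, 0, 0, 0, 0, 0, 0, 0, 0, 0, 0, 0, 0, 0, 0, 0, 0, 0, 0, 0, 0, 0, 0, 0, 0, 0, 0, 0, 0, 0, 0, 0, 0, 0, 0, 0, 0, 0, 0, 0, 0, 0, 0, 0, 0]]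

/-- a block of vecs -/
def twoVecs10 : List (List ℤ) := [
  [0, 0, 0, 0, 0, 0, 0, 0, 0, 0, 0, 0, 0, 0, 0, 0, 0, 0, 0, 0, 0, 0, 0, 0, 0, 0, 0, 0, 0, 0, 0, 0, 0, 0, 0, 0, 0, 0, 0, 0, 0, 0, 0, 0, 0, 0, 0, 0, 0, 0, 0, 0, 0, 0, 0, 0, 0, 0, 0, 0, 0, 0, 0, 0, 0, 0, 0, 0, 0, 0, 0, 0, 1, 0, 1, 0, 0, 0, 1, 0, 0, 0, 0, 0, 0, 0, 0, 0, 0, 1, 1, 0, 0, 0, 0, 0, 0, 0, 0, 0, 0, 0, 0, 0, 0, 0, 0, 0, 0, 0, 0, 0, 0, 0, 0, 0, 0, 0, 0, 0, 0, 0, 0, 0, 0, 0, 0, 0, 0, 0, 0, 0, 0, 0, 0, 0, 0, 0, 0, 0, 0, 0, 0, 0, 0, 0, 0, 0, 0, 0, 0, 0, 0, 0, 0],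
  [0, 0, 0, 0, 0, 0, 0, 0, 0, 0, 0, 0, 0, 0, 0, 0, 0, 0, 0, 0, 0, 0, 0, 0, 0, 0, 0, 0, 0, 0, 0, 0, 0, 0, 0, 0, 0, 0, 0, 0, 0, 0, 0, 0, 0, 0, 0, 0, 0, 0, 0, 0, 0, 0, 0, 0, 0, 0, 0, 0, 0, 0, 0, 0, 0, 0, 0, 0, 0, 0, 0, 0, 0, 1, 1, 1, 1, 0, 0, 0, 0, 0, 0, 0, 0, 0, 0, 0, 0, 0, 0, 0, 1, 0, 0, 0, 0, 0, 0, 0, 0, 0, 0, 0, 1, 0, 1, 0, 0, 0, 0, 0, 0, 0, 0, 0, 0, 0, 1, 1, 0, 0, 0, 0, 0, 0, 0, 0, 0, 0, 0, 0, 0, 0, 0, 0, 0, 0, 0, 0, 0, 0, 0, 0, 0, 0, 0, 0, 0, 0, 0, 0, 0, 0, 0],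
  [0, 0, 0, 0, 0, 0, 0, 0, 0, 0, 0, 0, 0, 0, 0, 0, 0, 0, 0, 0, 0, 0, 0, 0, 0, 0, 0, 0, 0, 0, 0, 0, 0, 0, 0, 0, 0, 0, 0, 0, 0, 0, 0, 0, 0, 0, 0, 0, 0, 0, 0, 0, 0, 0, 0, 0, 0, 0, 0, 0, 0, 0, 0, 0, 0, 0, 0, 0, 0, 0, 0, 0, 0, 0, 0, 0, 0, 0, 0, 0, 0, 0, 0, 0, 0, 0, 0, 0, 0, 1, 0, 0, 0, 0, 0, 0, 0, 0, 0, 0, 0, 0, 1, 0, 0, 0, 0, 0, 0, 0, 0, 0, 0, 0, 0, 0, 0, 0, 0, 0, 0, 0, 0, 0, 0, 0, 0, 0, 0, 0, 0, 0, 0, 0, 0, 0, 0, 0, 0, 0, 0, 0, 0, 0, 0, 0, 0, 0, 0, 0, 0, 0, 0, 0, 0],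
  [0, 0, 0, 0, 0, 0, 0, 0, 0, 0, 0, 0, 0, 0, 0, 0, 0, 0, 0, 0, 0, 0, 0, 0, 0, 0, 0, 0, 0, 0, 0, 0, 0, 0, 0, 0, 0, 0, 0, 0, 0, 0, 0, 0, 0, 0, 0, 0, 0, 0, 0, 0, 0, 0, 0, 0, 0, 0, 0, 0, 0, 0, 0, 0, 0, 0, 0, 0, 0, 0, 0, 0, 0, 0, 0, 0, 0, 0, 0, 0, 0, 0, 0, 0, 0, 0, 0, 0, 0, 1, 0, 0, 0, 0, 0, 0, 0, 0, 0, 0, 0, 0, 0, 0, 0, 0, 0, 0, 0, 0, 0, 0, 0, 0, 0, 0, 1, 0, 0, 0, 0, 0, 0, 0, 0, 0, 0, 0, 0, 0, 0, 0, 0, 0, 0, 0, 0, 0, 0, 0, 0, 0, 0, 0, 0, 0, 0, 0, 0, 0, 0, 0, 0, 0, 0],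
  [0, 0, 0, 0, 0, 0, 0, 0, 0, 0, 0, 0, 0, 0, 0, 0, 0, 0, 0, 0, 0, 0, 0, 0, 0, 0, 0, 0, 0, 0, 0, 0, 0, 0, 0, 0, 0, 0, 0, 0, 0, 0, 0, 0, 0, 0, 0, 0, 0, 0, 0, 0, 0, 0, 0, 0, 0, 0, 0, 0, 0, 0, 0, 0, 0, 0, 0, 0, 0, 0, 0, 0, 0, 0, 0, 0, 0, 0, 0, 0, 0, 0, 0, 0, 0, 0, 0, 0, 0, 0, 0, 0, 0, 0, 0, 0, 0, 0, 1, 0, 0, 0, 0, 0, 0, 0, 0, 0, 0, 0, 0, 0, 1, 0, 0, 0, 0, 0, 0, 0, 0, 0, 0, 0, 0, 0, 0, 0, 0, 0, 0, 0, 0, 0, 0, 0, 0, 0, 0, 0, 0, 0, 0, 0, 0, 0, 0, 0, 0, 0, 0, 0, 0, 0, 0],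
  [0, 0, 0, 0, 0, 0, 0, 0, 0, 0, 0, 0, 0, 0, 0, 0, 0, 0, 0, 0, 0, 0, 0, 0, 0, 0, 0, 0, 0, 0, 0, 0, 0, 0, 0, 0, 0, 0, 0, 0, 0, 0, 0, 0, 0, 0, 0, 0, 0, 0, 0, 0, 0, 0, 0, 0, 0, 0, 0, 0, 0, 0, 0, 0, 0, 0, 0, 0, 0, 0, 0, 0, 0, 0, 0, 0, 0, 0, 0, 0, 0, 0, 0, 0, 0, 0, 0, 0, 0, 1, 1, 0, 0, 0, 0, 0, 0, 0, 0, 0, 0, 0, 0, 0, 0, 0, 0, 0, 0, 0, 0, 0, 0, 0, 0, 0, 0, 0, 0, 0, 0, 0, 0, 0, 0, 0, 0, 0, 0, 0, 0, 0, 0, 0, 0, 0, 0, 0, 0, 0, 0, 0, 0, 0, 0, 0, 0, 0, 0, 0, 0, 0, 0, 0, 0],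
  [0, 0, 0, 0, 0, 0, 0, 0, 0, 0, 0, 0, 0, 0, 0, 0, 0, 0, 0, 0, 0, 0, 0, 0, 0, 0, 0, 0, 0, 0, 0, 0, 0, 0, 0, 0, 0, 0, 0, 0, 0, 0, 0, 0, 0, 0, 0, 0, 0, 0, 0, 0, 0, 0, 0, 0, 0, 0, 0, 0, 0, 0, 0, 0, 0, 0, 0, 0, 0, 0, 0, 0, 0, 0, 0, 0, 0, 0, 0, 0, 0, 0, 1, 0, 1, 1, 0, 1, 1, 1, 0, 0, 0, 0, 0, 0, 0, 0, 0, 0, 0, 0, 0, 0, 0, 0, 0, 0, 0, 0, 0, 0, 0, 0, 0, 0, 0, 0, 0, 0, 0, 0, 0, 0, 0, 0, 0, 0, 0, 0, 0, 0, 0, 0, 0, 0, 0, 0, 0, 0, 0, 0, 0, 0, 0, 0, 0, 0, 0, 0, 0, 0, 0, 0, 0],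
  [0, 0, 0, 0, 0, 0, 0, 0, 0, 0, 0, 0, 0, 0, 0, 0, 0, 0, 0, 0, 0, 0, 0, 0, 0, 0, 0, 0, 0, 0, 0, 0, 0, 0, 0, 0, 0, 0, 0, 0, 0, 0, 0, 0, 0, 0, 0, 0, 0, 0, 0, 0, 0, 0, 0, 0, 0, 0, 0, 0, 0, 0, 0, 0, 0, 0, 0, 0, 0, 0, 0, 0, 0, 0, 0, 0, 0, 0, 0, 0, 0, 0, 0, 0, 0, 1, 1, 1, 1, 0, 0, 0, 0, 0, 0, 0, 0, 0, 0, 0, 0, 0, 0, 0, 0, 0, 0, 0, 0, 0, 0, 0, 0, 0, 0, 0, 0, 0, 0, 0, 0, 0, 0, 0, 0, 0, 0, 0, 0, 0, 0, 0, 0, 0, 0, 0, 0, 0, 0, 0, 0, 0, 0, 0, 0, 0, 0, 0, 0, 0, 0, 0, 0, 0, 0]]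

/-- a block of vecs -/
def twoVecs11 : List (List ℤ) := [
  [0, 0, 0, 0, 0, 0, 0, 0, 0, 0, 0, 0, 0, 0, 0, 0, 0, 0, 0, 0, 0, 0, 0, 0, 0, 0, 0, 0, 0, 0, 0, 0, 0, 0, 0, 0, 0, 0, 0, 0, 0, 0, 0, 0, 0, 0, 0, 0, 0, 0, 0, 0, 0, 0, 0, 0, 0, 0, 0, 0, 0, 0, 0, 0, 0, 0, 0, 0, 0, 0, 0, 0, 0, 0, 0, 0, 0, 0, 0, 0, 0, 0, 0, 0, 0, 0, 0, 1, 1, 0, 0, 0, 0, 0, 0, 0, 0, 0, 0, 0, 0, 0, 0, 0, 0, 0, 0, 0, 0, 0, 0, 0, 0, 0, 0, 0, 0, 0, 0, 0, 0, 0, 0, 0, 0, 0, 0, 0, 0, 0, 0, 0, 0, 0, 0, 0, 0, 0, 0, 0, 0, 0, 0, 0, 0, 0, 0, 0, 0, 0, 0, 0, 0, 0, 0],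
  [0, 0, 0, 0, 0, 0, 0, 0, 0, 0, 0, 0, 0, 0, 0, 0, 0, 0, 0, 0, 0, 0, 0, 0, 0, 0, 0, 0, 0, 0, 0, 0, 0, 0, 0, 0, 0, 0, 0, 0, 0, 0, 0, 0, 0, 0, 0, 0, 0, 0, 0, 0, 0, 0, 0, 0, 0, 0, 0, 0, 0, 0, 0, 0, 0, 0, 0, 0, 0, 0, 0, 0, 0, 0, 0, 0, 0, 0, 0, 0, 0, 0, 0, 0, 0, 0, 1, 1, 1, 0, 0, 0, 0, 0, 0, 0, 0, 0, 0, 0, 0, 0, 0, 0, 0, 0, 0, 0, 0, 0, 0, 0, 0, 0, 0, 0, 0, 0, 0, 0, 0, 0, 0, 0, 0, 0, 0, 0, 0, 0, 0, 0, 0, 0, 0, 0, 0, 0, 0, 0, 0, 0, 0, 0, 0, 0, 0, 0, 0, 0, 0, 0, 0, 0, 0],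
  [0, 0, 0, 0, 0, 0, 0, 0, 0, 0, 0, 0, 0, 0, 0, 0, 0, 0, 0, 0, 0, 0, 0, 0, 0, 0, 0, 0, 0, 0, 0, 0, 0, 0, 0, 0, 0, 0, 0, 0, 0, 0, 0, 0, 0, 0, 0, 0, 0, 0, 0, 0, 0, 0, 0, 0, 0, 0, 0, 0, 0, 0, 0, 0, 0, 0, 0, 0, 0, 0, 0, 0, 0, 0, 0, 0, 0, 0, 0, 0, 0, 0, 0, 0, 0, 0, 0, 0, 0, 0, 0, 0, 0, 0, 0, 0, 0, 0, 0, 0, 0, 0, 0, 1, 0, 0, 0, 0, 0, 0, 0, 0, 0, 0, 0, 0, 0, 0, 0, 0, 0, 0, 0, 0, 0, 0, 0, 0, 0, 0, 0, 0, 0, 0, 0, 0, 0, 0, 0, 0, 0, 0, 0, 0, 0, 0, 0, 0, 0, 0, 0, 0, 0, 0, 0],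
  [0, 0, 0, 0, 0, 0, 0, 0, 0, 0, 0, 0, 0, 0, 0, 0, 0, 0, 0, 0, 0, 0, 0, 0, 0, 0, 0, 0, 0, 0, 0, 0, 0, 0, 0, 0, 0, 0, 0, 0, 0, 0, 0, 0, 0, 0, 0, 0, 0, 0, 0, 0, 0, 0, 0, 0, 0, 0, 0, 0, 0, 0, 0, 0, 0, 0, 0, 0, 0, 0, 0, 0, 0, 0, 0, 0, 0, 0, 0, 0, 0, 0, 0, 0, 0, 0, 0, 0, 0, 0, 0, 0, 0, 0, 0, 0, 0, 0, 0, 0, 0, 0, 0, 1, 0, 0, 0, 0, 0, 0, 0, 0, 0, 0, 0, 0, 0, 1, 0, 0, 0, 0, 0, 0, 0, 0, 0, 0, 0, 0, 0, 0, 0, 0, 0, 0, 0, 0, 0, 0, 0, 0, 0, 0, 0, 0, 0, 0, 0, 0, 0, 0, 0, 0, 0],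
  [0, 0, 0, 0, 0, 0, 0, 0, 0, 0, 0, 0, 0, 0, 0, 0, 0, 0, 0, 0, 0, 0, 0, 0, 0, 0, 0, 0, 0, 0, 0, 0, 0, 0, 0, 0, 0, 0, 0, 0, 0, 0, 0, 0, 0, 0, 0, 0, 0, 0, 0, 0, 0, 0, 0, 0, 0, 0, 0, 0, 0, 0, 0, 0, 0, 0, 0, 0, 0, 0, 0, 0, 0, 0, 0, 0, 0, 0, 0, 0, 0, 0, 0, 0, 0, 0, 0, 0, 0, 0, 0, 0, 0, 0, 0, 0, 0, 1, 0, 1, 0, 0, 0, 1, 0, 0, 0, 0, 0, 0, 0, 0, 0, 0, 0, 0, 0, 0, 0, 0, 0, 0, 0, 0, 0, 0, 0, 0, 0, 0, 0, 0, 0, 0, 0, 0, 0, 0, 0, 0, 0, 0, 0, 0, 0, 0, 0, 0, 0, 0, 0, 0, 0, 0, 0],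
  [0, 0, 0, 0, 0, 0, 0, 0, 0, 0, 0, 0, 0, 0, 0, 0, 0, 0, 0, 0, 0, 0, 0, 0, 0, 0, 0, 0, 0, 0, 0, 0, 0, 0, 0, 0, 0, 0, 0, 0, 0, 0, 0, 0, 0, 0, 0, 0, 0, 0, 0, 0, 0, 0, 0, 0, 0, 0, 0, 0, 0, 0, 0, 0, 0, 0, 0, 0, 0, 0, 0, 0, 0, 0, 0, 0, 0, 0, 0, 0, 0, 0, 0, 0, 0, 0, 0, 0, 0, 0, 0, 0, 0, 0, 0, 1, 0, 1, 1, 0, 1, 1, 1, 0, 0, 0, 0, 0, 0, 0, 0, 0, 0, 0, 0, 0, 0, 0, 0, 0, 0, 0, 0, 0, 0, 0, 0, 0, 0, 0, 0, 0, 0, 0, 0, 0, 0, 0, 0, 0, 0, 0, 0, 0, 0, 0, 0, 0, 0, 0, 0, 0, 0, 0, 0],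
  [0, 0, 0, 0, 0, 0, 0, 0, 0, 0, 0, 0, 0, 0, 0, 0, 0, 0, 0, 0, 0, 0, 0, 0, 0, 0, 0, 0, 0, 0, 0, 0, 0, 0, 0, 0, 0, 0, 0, 0, 0, 0, 0, 0, 0, 0, 0, 0, 0, 0, 0, 0, 0, 0, 0, 0, 0, 0, 0, 0, 0, 0, 0, 0, 0, 0, 0, 0, 0, 0, 0, 0, 0, 0, 0, 0, 0, 0, 0, 0, 0, 0, 0, 0, 0, 0, 0, 0, 0, 0, 0, 0, 0, 0, 1, 1, 0, 1, 1, 0, 0, 1, 0, 0, 0, 0, 0, 0, 0, 0, 0, 0, 0, 0, 0, 0, 0, 0, 1, 0, 0, 0, 0, 0, 0, 0, 0, 0, 0, 0, 0, 0, 0, 0, 0, 0, 0, 0, 0, 0, 0, 0, 0, 0, 0, 0, 0, 0, 0, 0, 0, 0, 0, 0, 0],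
  [0, 0, 0, 0, 0, 0, 0, 0, 0, 0, 0, 0, 0, 0, 0, 0, 0, 0, 0, 0, 0, 0, 0, 0, 0, 0, 0, 0, 0, 0, 0, 0, 0, 0, 0, 0, 0, 0, 0, 0, 0, 0, 0, 0, 0, 0, 0, 0, 0, 0, 0, 0, 0, 0, 0, 0, 0, 0, 0, 0, 0, 0, 0, 0, 0, 0, 0, 0, 0, 0, 0, 0, 0, 0, 0, 0, 0, 0, 0, 0, 0, 0, 0, 0, 0, 0, 0, 0, 0, 0, 0, 0, 0, 0, 0, 0, 0, 0, 0, 1, 1, 1, 0, 0, 0, 0, 0, 0, 0, 0, 0, 0, 0, 0, 0, 0, 0, 0, 0, 0, 0, 0, 0, 0, 0, 0, 0, 0, 0, 0, 0, 0, 0, 0, 0, 0, 0, 0, 0, 0, 0, 0, 0, 0, 0, 0, 0, 0, 0, 0, 0, 0, 0, 0, 0]]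

/-- a block of vecs -/
def twoVecs12 : List (List ℤ) := [
  [0, 0, 0, 0, 0, 0, 0, 0, 0, 0, 0, 0, 0, 0, 0, 0, 0, 0, 0, 0, 0, 0, 0, 0, 0, 0, 0, 0, 0, 0, 0, 0, 0, 0, 0, 0, 0, 0, 0, 0, 0, 0, 0, 0, 0, 0, 0, 0, 0, 0, 0, 0, 0, 0, 0, 0, 0, 0, 0, 0, 0, 0, 0, 0, 0, 0, 0, 0, 0, 0, 0, 0, 0, 0, 0, 0, 0, 0, 0, 0, 0, 0, 0, 0, 0, 0, 0, 0, 0, 0, 0, 0, 0, 0, 0, 0, 0, 0, 0, 0, 0, 0, 0, 1, 0, 0, 0, 0, 0, 0, 0, 0, 0, 0, 0, 0, 0, 0, 1, 0, 0, 0, 0, 0, 0, 0, 0, 0, 0, 0, 0, 0, 0, 0, 0, 0, 0, 0, 0, 0, 0, 0, 0, 0, 0, 0, 0, 0, 0, 0, 0, 0, 0, 0, 0],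
  [0, 0, 0, 0, 0, 0, 0, 0, 0, 0, 0, 0, 0, 0, 0, 0, 0, 0, 0, 0, 0, 0, 0, 0, 0, 0, 0, 0, 0, 0, 0, 0, 0, 0, 0, 0, 0, 0, 0, 0, 0, 0, 0, 0, 0, 0, 0, 0, 0, 0, 0, 0, 0, 0, 0, 0, 0, 0, 0, 0, 0, 0, 0, 0, 0, 0, 0, 0, 0, 0, 0, 0, 0, 0, 0, 0, 0, 0, 0, 0, 0, 0, 0, 0, 0, 0, 0, 0, 0, 0, 0, 0, 0, 0, 0, 0, 0, 0, 0, 0, 0, 0, 0, 0, 0, 0, 0, 0, 0, 0, 0, 1, 0, 1, 0, 0, 0, 1, 0, 0, 0, 0, 0, 0, 0, 0, 0, 0, 0, 0, 0, 0, 0, 0, 0, 0, 0, 0, 0, 0, 0, 0, 0, 0, 0, 0, 0, 0, 0, 0, 0, 0, 0, 0, 0],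
  [0, 0, 0, 0, 0, 0, 0, 0, 0, 0, 0, 0, 0, 0, 0, 0, 0, 0, 0, 0, 0, 0, 0, 0, 0, 0, 0, 0, 0, 0, 0, 0, 0, 0, 0, 0, 0, 0, 0, 0, 0, 0, 0, 0, 0, 0, 0, 0, 0, 0, 0, 0, 0, 0, 0, 0, 0, 0, 0, 0, 0, 0, 0, 0, 0, 0, 0, 0, 0, 0, 0, 0, 0, 0, 0, 0, 0, 0, 0, 0, 0, 0, 0, 0, 0, 0, 0, 0, 0, 0, 0, 0, 0, 0, 0, 0, 0, 0, 0, 0, 0, 0, 0, 0, 0, 0, 0, 0, 0, 0, 0, 0, 0, 1, 1, 1, 0, 0, 0, 0, 0, 0, 0, 0, 0, 0, 0, 0, 0, 0, 0, 0, 0, 0, 0, 0, 0, 0, 0, 0, 0, 0, 0, 0, 0, 0, 0, 0, 0, 0, 0, 0, 0, 0, 0],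
  [0, 0, 0, 0, 0, 0, 0, 0, 0, 1, 1, 0, 0, 1, 0, 0, 0, 0, 0, 0, 0, 0, 0, 0, 0, 0, 0, 0, 1, 0, 0, 0, 1, 0, 0, 1, 1, 0, 0, 1, 1, 0, 1, 0, 1, 0, 0, 0, 0, 1, 0, 0, 1, 0, 0, 1, 0, 0, 0, 1, 0, 1, 1, 0, 1, 1, 1, 0, 0, 1, 0, 0, 1, 0, 0, 1, 0, 1, 1, 0, 0, 0, 0, 0, 1, 1, 1, 0, 1, 1, 1, 0, 0, 0, 1, 0, 0, 0, 1, 1, 0, 0, 1, 0, 1, 0, 0, 0, 0, 0, 0, 1, 1, 0, 1, 0, 0, 0, 1, 1, 0, 0, 0, 0, 1, 0, 1, 0, 0, 0, 1, 0, 0, 0, 0, 0, 0, 0, 0, 0, 0, 0, 0, 0, 0, 0, 0, 0, 0, 0, 0, 0, 0, 0, 0],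
  [0, 0, 0, 0, 0, 1, 0, 0, 0, 1, 0, 0, 0, 1, 1, 0, 0, 0, 0, 0, 0, 0, 0, 0, 0, 0, 0, 0, 0, 0, 0, 1, 1, 0, 0, 1, 0, 0, 0, 1, 0, 0, 0, 1, 0, 0, 0, 0, 0, 1, 0, 0, 0, 1, 0, 0, 0, 0, 0, 0, 0, 0, 0, 1, 1, 1, 0, 0, 0, 1, 0, 0, 0, 0, 1, 1, 0, 1, 0, 0, 0, 0, 0, 0, 0, 1, 1, 1, 1, 0, 0, 0, 0, 0, 0, 1, 0, 0, 0, 1, 0, 0, 1, 0, 0, 0, 0, 0, 1, 1, 0, 0, 0, 0, 0, 1, 0, 1, 1, 0, 0, 0, 0, 0, 0, 0, 0, 1, 1, 1, 1, 0, 0, 0, 0, 0, 0, 0, 0, 0, 0, 0, 0, 0, 0, 0, 0, 0, 0, 0, 0, 0, 0, 0, 0],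
  [0, 0, 0, 0, 0, 0, 0, 0, 0, 0, 0, 0, 1, 0, 0, 0, 0, 1, 0, 0, 0, 0, 0, 0, 0, 1, 1, 0, 0, 0, 1, 1, 0, 1, 0, 0, 0, 0, 1, 1, 0, 1, 0, 0, 0, 0, 0, 0, 0, 1, 1, 0, 1, 0, 0, 0, 0, 0, 0, 1, 1, 0, 0, 1, 0, 1, 0, 0, 1, 0, 0, 1, 1, 0, 1, 0, 0, 1, 0, 0, 0, 0, 1, 0, 0, 1, 1, 0, 1, 1, 1, 0, 0, 0, 0, 0, 0, 0, 1, 1, 0, 0, 1, 0, 1, 0, 0, 1, 1, 0, 0, 0, 0, 1, 0, 0, 1, 1, 0, 0, 0, 0, 0, 0, 0, 0, 0, 1, 1, 0, 1, 0, 1, 0, 0, 0, 0, 0, 0, 0, 0, 0, 0, 0, 0, 0, 0, 0, 0, 0, 0, 0, 0, 0, 0],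
  [0, 0, 0, 0, 0, 1, 0, 0, 0, 1, 0, 0, 0, 0, 0, 0, 0, 0, 1, 0, 1, 0, 0, 0, 0, 0, 0, 0, 0, 0, 1, 0, 0, 0, 0, 1, 0, 0, 1, 0, 0, 1, 0, 1, 0, 0, 0, 0, 0, 0, 0, 0, 1, 1, 1, 0, 0, 0, 0, 0, 1, 0, 0, 0, 1, 0, 0, 0, 0, 0, 0, 1, 0, 0, 0, 1, 1, 0, 0, 0, 0, 0, 0, 0, 0, 0, 1, 1, 0, 1, 0, 0, 0, 0, 0, 0, 0, 0, 0, 0, 1, 0, 0, 1, 1, 0, 0, 1, 0, 0, 0, 0, 0, 1, 0, 0, 0, 1, 0, 1, 0, 0, 0, 0, 0, 0, 0, 1, 0, 0, 0, 0, 1, 0, 0, 0, 0, 0, 0, 0, 0, 0, 0, 0, 0, 0, 0, 0, 0, 0, 0, 0, 0, 0, 0],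
  [0, 0, 0, 0, 0, 0, 1, 0, 0, 1, 1, 0, 0, 0, 1, 0, 0, 0, 0, 1, 0, 1, 0, 0, 0, 0, 0, 0, 0, 0, 0, 1, 0, 1, 0, 0, 1, 0, 0, 1, 0, 1, 1, 0, 1, 1, 0, 0, 0, 0, 1, 1, 0, 0, 0, 0, 0, 0, 0, 0, 1, 1, 0, 0, 1, 0, 1, 0, 0, 1, 0, 0, 1, 1, 0, 0, 1, 1, 1, 0, 0, 0, 1, 0, 1, 0, 0, 1, 1, 0, 1, 1, 0, 0, 1, 1, 1, 1, 0, 1, 0, 1, 1, 0, 1, 1, 0, 0, 1, 1, 1, 1, 0, 1, 0, 0, 1, 1, 0, 1, 0, 0, 0, 0, 1, 0, 1, 0, 1, 0, 0, 0, 1, 0, 0, 0, 0, 0, 0, 0, 0, 0, 0, 0, 0, 0, 0, 0, 0, 0, 0, 0, 0, 0, 0]]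

/-- a block of vecs -/
def twoVecs13 : List (List ℤ) := [
  [0, 0, 0, 0, 0, 0, 0, 0, 0, 0, 0, 0, 1, 1, 0, 0, 0, 1, 1, 1, 0, 0, 0, 0, 1, 1, 1, 1, 0, 0, 0, 1, 0, 0, 0, 1, 0, 0, 0, 0, 0, 1, 0, 0, 1, 0, 0, 0, 1, 1, 0, 0, 1, 0, 1, 0, 0, 0, 0, 0, 1, 0, 1, 1, 1, 0, 0, 0, 0, 0, 0, 1, 1, 1, 1, 1, 0, 0, 0, 0, 0, 1, 0, 0, 1, 1, 1, 0, 0, 1, 1, 0, 0, 0, 1, 0, 1, 0, 0, 1, 1, 0, 0, 1, 1, 0, 0, 0, 0, 1, 0, 1, 0, 1, 1, 1, 0, 1, 1, 1, 0, 0, 0, 0, 0, 0, 0, 1, 1, 0, 1, 0, 0, 0, 0, 0, 0, 0, 0, 0, 0, 0, 0, 0, 0, 0, 0, 0, 0, 0, 0, 0, 0, 0, 0],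
  [0, 0, 0, 0, 0, 0, 0, 0, 0, 1, 0, 0, 0, 0, 1, 0, 0, 0, 1, 1, 0, 0, 0, 0, 1, 0, 1, 1, 0, 0, 0, 0, 0, 0, 0, 0, 0, 0, 0, 1, 0, 0, 1, 0, 0, 0, 0, 0, 1, 0, 1, 1, 0, 0, 1, 0, 0, 0, 0, 0, 0, 1, 0, 1, 0, 1, 0, 0, 0, 1, 0, 1, 0, 0, 0, 1, 0, 1, 0, 0, 0, 1, 0, 1, 1, 0, 0, 1, 0, 0, 1, 0, 0, 0, 1, 0, 1, 0, 0, 1, 0, 0, 1, 1, 0, 0, 0, 0, 1, 0, 1, 0, 0, 1, 1, 1, 1, 0, 0, 0, 0, 0, 0, 0, 0, 0, 0, 0, 0, 1, 0, 0, 0, 0, 0, 0, 0, 0, 0, 0, 0, 0, 0, 0, 0, 0, 0, 0, 0, 0, 0, 0, 0, 0, 0],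
  [0, 0, 0, 0, 0, 0, 1, 0, 0, 0, 1, 0, 0, 1, 0, 0, 0, 0, 0, 0, 0, 1, 0, 0, 0, 0, 0, 0, 0, 0, 0, 1, 1, 0, 0, 0, 1, 0, 0, 1, 0, 0, 0, 1, 0, 0, 0, 0, 0, 0, 0, 0, 1, 1, 0, 0, 0, 0, 1, 0, 0, 0, 0, 1, 0, 1, 1, 0, 0, 1, 0, 0, 0, 0, 0, 1, 1, 1, 0, 0, 0, 1, 0, 0, 0, 1, 1, 1, 0, 1, 1, 1, 0, 0, 0, 1, 0, 0, 0, 0, 0, 1, 1, 0, 0, 0, 0, 0, 0, 1, 0, 0, 1, 0, 0, 0, 1, 1, 0, 1, 0, 0, 0, 0, 0, 0, 0, 0, 1, 0, 0, 1, 0, 0, 0, 0, 0, 0, 0, 0, 0, 0, 0, 0, 0, 0, 0, 0, 0, 0, 0, 0, 0, 0, 0],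
  [0, 0, 0, 0, 0, 0, 0, 0, 0, 0, 0, 0, 0, 0, 0, 0, 0, 0, 0, 0, 0, 0, 0, 1, 0, 0, 0, 0, 0, 0, 0, 1, 1, 0, 0, 0, 0, 0, 0, 0, 0, 0, 0, 1, 0, 0, 0, 0, 0, 0, 0, 0, 0, 0, 0, 0, 0, 0, 0, 0, 0, 0, 0, 0, 0, 1, 0, 0, 0, 0, 0, 0, 0, 1, 0, 0, 0, 1, 0, 0, 0, 0, 1, 0, 0, 0, 0, 0, 0, 1, 1, 0, 0, 0, 1, 0, 0, 0, 1, 1, 0, 1, 0, 1, 1, 0, 0, 0, 1, 1, 0, 0, 0, 1, 0, 0, 0, 1, 0, 1, 0, 0, 0, 0, 0, 0, 0, 1, 0, 0, 1, 1, 0, 0, 0, 0, 0, 0, 0, 0, 0, 0, 0, 0, 0, 0, 0, 0, 0, 0, 0, 0, 0, 0, 0],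
  [0, 0, 0, 0, 0, 0, 0, 0, 1, 0, 0, 0, 1, 0, 0, 0, 0, 0, 0, 0, 0, 0, 0, 0, 1, 1, 1, 1, 0, 0, 0, 1, 0, 0, 1, 1, 0, 0, 1, 1, 0, 0, 1, 0, 1, 0, 0, 0, 0, 1, 0, 1, 1, 1, 0, 0, 0, 0, 0, 1, 1, 1, 0, 0, 1, 1, 0, 0, 1, 0, 0, 0, 0, 1, 1, 0, 0, 0, 0, 0, 0, 0, 1, 0, 1, 0, 1, 1, 1, 0, 0, 0, 0, 1, 0, 0, 1, 0, 0, 0, 0, 0, 1, 1, 1, 0, 0, 0, 1, 0, 0, 0, 0, 0, 0, 1, 0, 1, 1, 1, 0, 0, 0, 0, 0, 0, 0, 0, 1, 1, 0, 1, 1, 0, 0, 0, 0, 0, 0, 0, 0, 0, 0, 0, 0, 0, 0, 0, 0, 0, 0, 0, 0, 0, 0],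
  [0, 0, 0, 0, 0, 1, 0, 0, 0, 0, 0, 0, 0, 0, 1, 0, 0, 0, 0, 0, 0, 0, 0, 0, 0, 1, 0, 1, 0, 0, 1, 0, 1, 0, 1, 0, 0, 0, 0, 0, 1, 0, 1, 1, 1, 0, 0, 0, 0, 1, 0, 1, 0, 1, 0, 0, 0, 0, 0, 1, 0, 1, 0, 1, 0, 0, 0, 0, 0, 0, 0, 0, 1, 1, 0, 0, 1, 1, 0, 0, 0, 0, 0, 0, 1, 0, 0, 1, 0, 1, 0, 0, 0, 1, 0, 0, 0, 0, 1, 0, 1, 1, 0, 1, 0, 0, 0, 0, 0, 1, 0, 1, 0, 1, 0, 0, 0, 1, 1, 1, 0, 0, 0, 0, 0, 0, 0, 0, 0, 0, 0, 0, 0, 0, 0, 0, 0, 0, 0, 0, 0, 0, 0, 0, 0, 0, 0, 0, 0, 0, 0, 0, 0, 0, 0],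
  [0, 0, 0, 0, 0, 0, 0, 0, 1, 0, 0, 0, 0, 1, 0, 0, 0, 1, 1, 1, 0, 0, 0, 1, 1, 1, 1, 1, 0, 0, 1, 1, 1, 1, 1, 1, 1, 1, 0, 0, 0, 0, 1, 0, 0, 1, 1, 1, 1, 0, 0, 1, 1, 0, 1, 1, 1, 1, 1, 1, 1, 1, 1, 0, 0, 1, 0, 1, 0, 1, 1, 1, 1, 1, 0, 0, 1, 1, 1, 1, 0, 0, 0, 0, 0, 0, 0, 1, 0, 0, 0, 0, 0, 1, 1, 1, 0, 0, 0, 1, 1, 0, 1, 1, 1, 0, 0, 1, 1, 0, 0, 0, 1, 1, 1, 1, 1, 0, 1, 0, 0, 0, 0, 0, 0, 0, 0, 0, 0, 0, 0, 0, 0, 0, 0, 0, 0, 0, 0, 0, 0, 0, 0, 0, 0, 0, 0, 0, 0, 0, 0, 0, 0, 0, 0],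
  [0, 0, 1, 0, 0, 1, 0, 0, 1, 1, 0, 0, 0, 0, 1, 0, 0, 0, 0, 1, 1, 0, 0, 1, 0, 0, 0, 1, 0, 0, 1, 0, 0, 0, 1, 1, 0, 0, 1, 0, 0, 0, 0, 0, 0, 0, 0, 1, 0, 1, 1, 0, 1, 1, 0, 0, 0, 0, 1, 1, 1, 1, 1, 1, 1, 1, 0, 0, 1, 0, 1, 1, 1, 0, 0, 0, 1, 0, 0, 0, 0, 0, 0, 1, 0, 1, 1, 1, 0, 0, 1, 0, 0, 1, 1, 1, 1, 0, 0, 1, 1, 0, 1, 0, 1, 0, 0, 0, 0, 0, 1, 0, 1, 0, 1, 0, 1, 1, 1, 1, 0, 0, 0, 0, 0, 0, 0, 0, 0, 0, 0, 0, 0, 0, 0, 0, 0, 0, 0, 0, 0, 0, 0, 0, 0, 1, 1, 1, 1, 0, 0, 0, 0, 0, 0]]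

/-- a block of vecs -/
def twoVecs14 : List (List ℤ) := [
  [0, 0, 0, 0, 1, 0, 0, 0, 1, 0, 0, 0, 0, 0, 1, 0, 0, 0, 0, 1, 1, 0, 1, 0, 1, 1, 1, 1, 0, 1, 0, 0, 1, 1, 1, 1, 0, 1, 0, 1, 1, 1, 1, 0, 1, 0, 1, 0, 1, 1, 1, 0, 0, 0, 1, 0, 0, 0, 0, 0, 0, 0, 0, 0, 0, 0, 0, 1, 0, 1, 0, 1, 0, 0, 0, 1, 0, 0, 0, 0, 0, 1, 0, 0, 0, 0, 1, 0, 1, 1, 0, 0, 1, 0, 0, 0, 0, 1, 0, 1, 1, 0, 1, 0, 1, 0, 0, 0, 1, 1, 0, 1, 1, 1, 1, 0, 1, 0, 1, 1, 0, 0, 0, 0, 0, 0, 0, 0, 0, 0, 0, 0, 0, 0, 0, 0, 0, 0, 0, 0, 0, 0, 0, 0, 0, 1, 0, 0, 0, 0, 1, 0, 0, 0, 0],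
  [0, 0, 0, 0, 1, 0, 0, 0, 1, 0, 0, 0, 0, 0, 0, 0, 0, 0, 0, 0, 0, 0, 1, 0, 0, 0, 0, 1, 0, 1, 1, 0, 0, 0, 0, 1, 0, 1, 0, 0, 0, 0, 0, 0, 1, 0, 0, 0, 0, 1, 1, 0, 1, 1, 0, 0, 0, 0, 0, 0, 0, 0, 0, 1, 0, 1, 0, 1, 0, 0, 1, 0, 1, 0, 0, 0, 1, 0, 0, 0, 1, 0, 1, 0, 1, 1, 1, 1, 1, 1, 0, 0, 0, 0, 0, 1, 1, 1, 0, 0, 0, 1, 0, 0, 0, 0, 1, 1, 0, 0, 0, 0, 1, 1, 0, 0, 1, 1, 1, 0, 0, 0, 0, 0, 0, 0, 0, 0, 0, 0, 0, 0, 0, 0, 0, 0, 0, 0, 0, 0, 0, 0, 0, 0, 1, 1, 1, 1, 1, 1, 0, 0, 0, 0, 0],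
  [0, 0, 1, 0, 1, 1, 0, 0, 0, 1, 0, 1, 0, 0, 1, 0, 1, 0, 0, 1, 1, 0, 0, 1, 0, 0, 0, 0, 0, 0, 0, 0, 1, 1, 1, 0, 0, 0, 1, 0, 1, 0, 1, 0, 0, 0, 0, 0, 0, 0, 1, 1, 0, 0, 0, 0, 1, 0, 0, 1, 1, 0, 1, 0, 1, 1, 0, 0, 1, 0, 1, 0, 0, 0, 1, 0, 0, 1, 0, 0, 1, 0, 1, 1, 0, 0, 1, 0, 1, 0, 1, 0, 0, 0, 0, 1, 0, 0, 0, 1, 1, 0, 1, 0, 1, 0, 1, 0, 0, 0, 1, 0, 1, 0, 1, 1, 0, 0, 0, 1, 0, 0, 0, 0, 0, 0, 0, 0, 0, 0, 0, 0, 0, 0, 0, 0, 0, 0, 0, 0, 0, 0, 0, 0, 0, 0, 1, 1, 1, 0, 0, 0, 0, 0, 0],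
  [0, 0, 0, 0, 1, 0, 0, 1, 1, 0, 0, 1, 1, 1, 1, 0, 0, 0, 0, 0, 1, 0, 1, 0, 1, 1, 0, 0, 0, 1, 0, 0, 1, 0, 0, 0, 0, 1, 0, 1, 1, 0, 1, 0, 1, 0, 1, 1, 1, 0, 0, 1, 1, 1, 0, 0, 0, 1, 0, 0, 1, 0, 0, 1, 0, 0, 0, 1, 1, 0, 0, 0, 1, 1, 0, 0, 0, 1, 0, 0, 0, 0, 1, 1, 0, 1, 0, 0, 0, 0, 1, 0, 1, 0, 0, 0, 1, 1, 1, 0, 1, 0, 1, 0, 1, 0, 0, 1, 1, 0, 1, 1, 1, 0, 0, 0, 1, 1, 0, 1, 0, 0, 0, 0, 0, 0, 0, 0, 0, 0, 0, 0, 0, 0, 0, 0, 0, 0, 0, 0, 0, 0, 0, 0, 0, 0, 1, 1, 0, 0, 1, 0, 1, 0, 0],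
  [0, 0, 0, 0, 1, 0, 0, 0, 1, 0, 0, 0, 0, 1, 0, 0, 0, 0, 1, 1, 0, 0, 1, 0, 0, 1, 0, 0, 0, 1, 0, 1, 1, 1, 1, 0, 0, 1, 0, 0, 1, 1, 1, 1, 1, 0, 0, 1, 0, 1, 0, 1, 0, 1, 1, 0, 0, 1, 1, 1, 0, 1, 0, 0, 1, 0, 0, 1, 1, 0, 1, 1, 1, 0, 0, 1, 1, 0, 0, 0, 0, 1, 0, 1, 0, 1, 1, 1, 0, 0, 0, 0, 0, 0, 0, 1, 1, 0, 0, 0, 0, 0, 1, 0, 1, 0, 1, 1, 0, 0, 1, 0, 1, 0, 1, 0, 0, 0, 1, 1, 0, 0, 0, 0, 0, 0, 0, 0, 0, 0, 0, 0, 0, 0, 0, 0, 0, 0, 0, 0, 0, 0, 0, 0, 1, 1, 1, 1, 1, 1, 0, 0, 1, 0, 0],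
  [0, 0, 0, 0, 1, 0, 0, 1, 1, 0, 0, 0, 1, 1, 1, 0, 1, 0, 0, 1, 1, 0, 0, 0, 1, 0, 0, 0, 0, 0, 1, 0, 1, 1, 1, 1, 0, 0, 1, 1, 1, 0, 0, 0, 0, 0, 1, 0, 0, 0, 0, 1, 0, 0, 0, 0, 0, 1, 0, 1, 1, 1, 0, 0, 0, 0, 0, 1, 1, 1, 1, 0, 0, 0, 0, 0, 1, 0, 0, 0, 0, 1, 0, 0, 1, 0, 1, 1, 0, 0, 1, 0, 0, 0, 0, 1, 1, 1, 1, 0, 0, 0, 0, 1, 0, 0, 0, 1, 0, 1, 1, 0, 0, 1, 0, 0, 1, 0, 1, 0, 0, 0, 0, 0, 0, 0, 0, 0, 0, 0, 0, 0, 0, 0, 0, 0, 0, 0, 0, 0, 0, 0, 0, 0, 0, 0, 1, 1, 0, 0, 0, 0, 0, 0, 0],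
  [0, 0, 1, 0, 0, 0, 0, 1, 0, 1, 0, 1, 0, 1, 0, 0, 0, 0, 0, 0, 0, 0, 0, 0, 0, 0, 0, 0, 0, 0, 0, 1, 0, 0, 0, 1, 0, 0, 0, 1, 0, 0, 0, 1, 0, 0, 1, 0, 0, 1, 0, 0, 1, 0, 1, 0, 1, 0, 1, 1, 0, 0, 1, 0, 1, 0, 0, 1, 0, 1, 0, 0, 0, 0, 0, 0, 1, 0, 0, 0, 0, 0, 1, 0, 0, 1, 1, 1, 1, 1, 0, 0, 0, 0, 0, 1, 0, 0, 0, 0, 1, 1, 0, 1, 1, 0, 1, 0, 1, 0, 0, 0, 1, 0, 1, 0, 0, 0, 1, 0, 0, 0, 0, 0, 0, 0, 0, 0, 0, 0, 0, 0, 0, 0, 0, 0, 0, 0, 0, 0, 0, 0, 0, 0, 0, 0, 0, 0, 0, 0, 0, 0, 0, 0, 0],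
  [1, 0, 0, 0, 0, 0, 0, 0, 0, 1, 0, 0, 0, 1, 1, 1, 0, 0, 0, 0, 1, 0, 0, 0, 1, 1, 1, 0, 1, 0, 0, 1, 1, 1, 1, 0, 1, 0, 0, 0, 1, 0, 1, 0, 1, 1, 0, 0, 1, 0, 1, 1, 1, 1, 0, 0, 0, 0, 1, 0, 0, 0, 0, 0, 0, 0, 1, 0, 0, 1, 0, 0, 1, 0, 0, 0, 0, 1, 1, 0, 0, 0, 0, 1, 0, 0, 0, 1, 0, 0, 1, 1, 0, 0, 1, 0, 1, 0, 1, 1, 0, 1, 1, 0, 1, 0, 0, 0, 0, 1, 1, 0, 0, 0, 1, 1, 0, 0, 1, 1, 0, 0, 0, 0, 0, 0, 0, 0, 0, 0, 0, 0, 0, 0, 0, 0, 0, 0, 0, 0, 0, 0, 0, 0, 0, 0, 0, 0, 0, 0, 0, 0, 0, 0, 0]]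

/-- all of vecs -/
def twoVecs : List (List ℤ) := twoVecs0 ++ twoVecs1 ++ twoVecs2 ++ twoVecs3 ++ twoVecs4 ++ twoVecs5 ++ twoVecs6 ++ twoVecs7 ++ twoVecs8 ++ twoVecs9 ++ twoVecs10 ++ twoVecs11 ++ twoVecs12 ++ twoVecs13 ++ twoVecs14

/-- a block of gauge -/
def twoGauge0 : List (List (ℕ × ℤ)) := [
  [],
  [],
  [],
  [(1, 1), (2, 1), (3, 1), (5, 1), (7, 1), (8, 1), (10, 1), (12, 1)],
  [(0, 1), (1, 1), (2, 1), (5, 1), (6, 1)],
  [(0, 1), (1, 1), (2, 1), (4, 1), (5, 1), (7, 1), (8, 1), (10, 1), (11, 1)],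
  [(0, 1), (2, 1), (6, 1), (7, 1)],
  [(0, 1), (5, 1), (8, 1)],
  [(0, 1), (2, 1), (5, 1), (6, 1), (8, 1)],
  [(2, 1), (6, 1), (7, 1), (8, 1), (11, 1), (12, 1)]]

/-- a block of gauge -/
def twoGauge1 : List (List (ℕ × ℤ)) := [
  [(2, 1), (7, 1), (8, 1), (11, 1), (12, 1)],
  [(0, 1), (6, 1), (7, 1), (8, 1)],
  [(0, 1), (5, 1), (7, 1), (8, 1)],
  [(0, 1), (5, 1), (7, 1), (10, 1), (11, 1), (12, 1)],
  [(8, 1), (12, 1)],
  [],
  [],
  [],
  [],
  []]

/-- all of gauge -/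
def twoGauge : List (List (ℕ × ℤ)) := twoGauge0 ++ twoGauge1

/-- a block of combs -/
def twoCombs0 : List (List (ℕ × ℤ)) := [
  [],
  [],
  [],
  [],
  [],
  [],
  [],
  [],
  [],
  [(0, 1), (1, 1), (3, 1), (4, 1), (5, 1), (8, 1), (9, 1), (10, 1), (15, 1), (16, 1), (19, 1), (20, 1), (23, 1), (25, 1), (27, 1), (30, 1), (34, 1), (36, 1), (37, 1), (38, 1), (39, 1), (40, 1), (41, 1), (43, 1), (44, 1), (46, 1), (47, 1), (48, 1), (49, 1), (50, 1), (52, 1), (53, 1), (56, 1), (57, 1), (59, 1), (60, 1), (61, 1), (62, 1), (63, 1), (64, 1), (69, 1), (70, 1), (72, 1), (73, 1), (76, 1), (79, 1), (82, 1), (83, 1), (85, 1), (86, 1), (90, 1), (92, 1), (93, 1), (95, 1), (100, 1), (105, 1), (106, 1), (107, 1), (110, 1), (118, 1), (119, 1)],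
  [],
  [],
  [],
  [(0, 1), (1, 1), (3, 1), (4, 1), (5, 1), (7, 1), (8, 1), (9, 1), (13, 1), (14, 1), (16, 1), (18, 1), (19, 1), (20, 1), (22, 1), (28, 1), (29, 1), (30, 1), (31, 1), (32, 1), (33, 1), (34, 1), (36, 1), (37, 1), (41, 1), (43, 1), (44, 1), (45, 1), (50, 1), (51, 1), (52, 1), (55, 1), (56, 1), (57, 1), (59, 1), (60, 1), (62, 1), (63, 1), (65, 1), (66, 1), (67, 1), (68, 1), (74, 1), (75, 1), (78, 1), (79, 1), (81, 1), (83, 1), (84, 1), (86, 1), (89, 1), (90, 1), (92, 1), (93, 1), (94, 1), (96, 1), (97, 1), (98, 1), (100, 1), (101, 1), (106, 1), (108, 1), (119, 1)],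
  [(0, 1), (1, 1), (3, 1), (4, 1), (8, 1), (10, 1), (11, 1), (16, 1), (19, 1), (21, 1), (25, 1), (27, 1), (29, 1), (30, 1), (31, 1), (32, 1), (33, 1), (35, 1), (36, 1), (40, 1), (42, 1), (43, 1), (44, 1), (46, 1), (47, 1), (48, 1), (49, 1), (50, 1), (51, 1), (52, 1), (56, 1), (59, 1), (60, 1), (64, 1), (66, 1), (67, 1), (69, 1), (70, 1), (71, 1), (73, 1), (75, 1), (79, 1), (80, 1), (82, 1), (83, 1), (85, 1), (86, 1), (88, 1), (90, 1), (91, 1), (94, 1), (95, 1), (96, 1), (97, 1), (99, 1), (102, 1), (103, 1), (104, 1), (109, 1)],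
  [(0, 1), (1, 1), (2, 1), (3, 1), (4, 1), (5, 1), (9, 1), (10, 1), (11, 1), (13, 1), (14, 1), (15, 1), (16, 1), (18, 1), (19, 1), (21, 1), (22, 1), (25, 1), (32, 1), (33, 1), (38, 1), (40, 1), (41, 1), (42, 1), (43, 1), (49, 1), (50, 1), (54, 1), (56, 1), (58, 1), (59, 1), (60, 1), (64, 1), (66, 1), (67, 1), (68, 1), (70, 1), (74, 1), (75, 1), (76, 1), (77, 1), (78, 1), (79, 1), (82, 1), (83, 1), (84, 1), (85, 1), (86, 1), (87, 1), (88, 1), (89, 1), (91, 1), (92, 1), (93, 1), (94, 1), (95, 1), (96, 1), (100, 1), (104, 1), (105, 1), (109, 1), (110, 1), (118, 1)],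
  [(0, 1), (3, 1), (5, 1), (6, 1), (7, 1), (9, 1), (10, 1), (11, 1), (12, 1), (13, 1), (14, 1), (19, 1), (20, 1), (23, 1), (25, 1), (31, 1), (32, 1), (38, 1), (40, 1), (44, 1), (46, 1), (48, 1), (52, 1), (53, 1), (54, 1), (55, 1), (56, 1), (57, 1), (64, 1), (66, 1), (68, 1), (69, 1), (72, 1), (73, 1), (78, 1), (84, 1), (85, 1), (86, 1), (87, 1), (91, 1), (95, 1), (96, 1), (98, 1), (99, 1), (101, 1), (102, 1), (103, 1), (104, 1), (105, 1), (107, 1), (108, 1), (111, 1), (112, 1), (113, 1), (114, 1), (115, 1), (116, 1), (117, 1), (119, 1)],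
  [(4, 1), (7, 1), (11, 1), (12, 1), (14, 1), (15, 1), (19, 1), (25, 1), (27, 1), (28, 1), (32, 1), (33, 1), (36, 1), (38, 1), (39, 1), (42, 1), (44, 1), (45, 1), (46, 1), (47, 1), (48, 1), (51, 1), (52, 1), (53, 1), (56, 1), (57, 1), (59, 1), (60, 1), (61, 1), (62, 1), (63, 1), (64, 1), (66, 1), (68, 1), (69, 1), (71, 1), (72, 1), (73, 1), (75, 1), (76, 1), (77, 1), (81, 1), (86, 1), (87, 1), (92, 1), (93, 1), (94, 1), (95, 1), (96, 1), (97, 1), (98, 1), (100, 1), (105, 1), (106, 1), (107, 1), (110, 1)],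
  [(0, 1), (2, 1), (4, 1), (9, 1), (10, 1), (11, 1), (12, 1), (14, 1), (21, 1), (22, 1), (23, 1), (24, 1), (25, 1), (26, 1), (30, 1), (31, 1), (32, 1), (33, 1), (34, 1), (36, 1), (38, 1), (41, 1), (42, 1), (43, 1), (45, 1), (46, 1), (49, 1), (50, 1), (51, 1), (53, 1), (55, 1), (56, 1), (57, 1), (58, 1), (61, 1), (63, 1), (66, 1), (69, 1), (70, 1), (73, 1), (74, 1), (77, 1), (80, 1), (83, 1), (94, 1), (96, 1), (98, 1), (99, 1), (100, 1), (102, 1), (103, 1), (104, 1), (105, 1), (106, 1), (107, 1), (110, 1), (111, 1), (112, 1), (113, 1), (114, 1), (115, 1), (116, 1), (117, 1)],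
  [(0, 1), (1, 1), (3, 1), (5, 1), (7, 1), (10, 1), (12, 1), (14, 1), (15, 1), (19, 1), (27, 1), (28, 1), (29, 1), (30, 1), (33, 1), (34, 1), (37, 1), (40, 1), (41, 1), (42, 1), (43, 1), (44, 1), (46, 1), (48, 1), (49, 1), (51, 1), (52, 1), (53, 1), (55, 1), (56, 1), (57, 1), (58, 1), (60, 1), (62, 1), (64, 1), (70, 1), (71, 1), (74, 1), (78, 1), (79, 1), (81, 1), (82, 1), (83, 1), (86, 1), (87, 1), (88, 1), (89, 1), (91, 1), (92, 1), (94, 1), (95, 1), (96, 1), (97, 1), (104, 1), (106, 1), (107, 1), (110, 1), (111, 1), (112, 1), (113, 1), (114, 1), (115, 1), (116, 1), (117, 1), (119, 1)]]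

/-- a block of combs -/
def twoCombs1 : List (List (ℕ × ℤ)) := [
  [(0, 1), (1, 1), (2, 1), (3, 1), (15, 1), (18, 1), (19, 1), (22, 1), (26, 1), (27, 1), (28, 1), (31, 1), (37, 1), (38, 1), (42, 1), (46, 1), (47, 1), (50, 1), (51, 1), (53, 1), (54, 1), (55, 1), (59, 1), (62, 1), (63, 1), (65, 1), (66, 1), (69, 1), (70, 1), (72, 1), (73, 1), (74, 1), (75, 1), (76, 1), (79, 1), (81, 1), (82, 1), (83, 1), (84, 1), (92, 1), (95, 1), (96, 1), (98, 1), (100, 1), (104, 1), (105, 1), (109, 1), (110, 1), (111, 1), (112, 1), (113, 1), (114, 1), (115, 1), (116, 1), (117, 1)],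
  [(0, 1), (1, 1), (3, 1), (5, 1), (8, 1), (9, 1), (10, 1), (11, 1), (12, 1), (13, 1), (14, 1), (15, 1), (19, 1), (26, 1), (31, 1), (34, 1), (37, 1), (38, 1), (40, 1), (42, 1), (43, 1), (45, 1), (46, 1), (47, 1), (48, 1), (49, 1), (52, 1), (54, 1), (55, 1), (57, 1), (60, 1), (61, 1), (63, 1), (65, 1), (68, 1), (73, 1), (74, 1), (75, 1), (77, 1), (79, 1), (80, 1), (81, 1), (84, 1), (85, 1), (86, 1), (87, 1), (94, 1), (95, 1), (96, 1), (97, 1), (98, 1), (99, 1), (101, 1), (102, 1), (103, 1), (105, 1), (106, 1), (108, 1), (111, 1), (112, 1), (113, 1), (114, 1), (115, 1), (116, 1), (117, 1), (118, 1), (119, 1)],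
  [(3, 1), (5, 1), (7, 1), (8, 1), (10, 1), (12, 1), (13, 1), (14, 1), (17, 1), (18, 1), (20, 1), (23, 1), (26, 1), (30, 1), (31, 1), (32, 1), (33, 1), (37, 1), (38, 1), (41, 1), (44, 1), (46, 1), (49, 1), (56, 1), (57, 1), (59, 1), (62, 1), (63, 1), (64, 1), (65, 1), (67, 1), (75, 1), (76, 1), (77, 1), (78, 1), (79, 1), (82, 1), (85, 1), (86, 1), (87, 1), (88, 1), (89, 1), (90, 1), (91, 1), (92, 1), (93, 1), (95, 1), (96, 1), (100, 1), (101, 1), (104, 1), (107, 1), (108, 1), (110, 1), (118, 1), (119, 1)],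
  [(0, 1), (2, 1), (4, 1), (7, 1), (8, 1), (12, 1), (14, 1), (17, 1), (18, 1), (21, 1), (22, 1), (24, 1), (25, 1), (29, 1), (30, 1), (34, 1), (35, 1), (36, 1), (38, 1), (39, 1), (40, 1), (41, 1), (42, 1), (43, 1), (44, 1), (46, 1), (48, 1), (50, 1), (51, 1), (53, 1), (54, 1), (56, 1), (57, 1), (58, 1), (59, 1), (60, 1), (62, 1), (65, 1), (66, 1), (67, 1), (69, 1), (70, 1), (71, 1), (73, 1), (74, 1), (75, 1), (77, 1), (79, 1), (80, 1), (81, 1), (82, 1), (84, 1), (85, 1), (92, 1), (94, 1), (95, 1), (96, 1), (98, 1), (101, 1), (105, 1), (107, 1), (108, 1), (111, 1), (112, 1), (113, 1), (114, 1), (115, 1), (116, 1), (117, 1), (118, 1)],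
  [(1, 1), (3, 1), (5, 1), (8, 1), (9, 1), (11, 1), (13, 1), (14, 1), (19, 1), (26, 1), (31, 1), (37, 1), (38, 1), (40, 1), (42, 1), (45, 1), (46, 1), (47, 1), (48, 1), (49, 1), (52, 1), (54, 1), (55, 1), (56, 1), (60, 1), (61, 1), (62, 1), (63, 1), (65, 1), (74, 1), (77, 1), (78, 1), (80, 1), (81, 1), (84, 1), (85, 1), (89, 1), (90, 1), (92, 1), (94, 1), (96, 1), (97, 1), (99, 1), (101, 1), (102, 1), (103, 1), (105, 1), (106, 1), (108, 1), (111, 1), (112, 1), (113, 1), (114, 1), (115, 1), (116, 1), (117, 1), (118, 1), (119, 1)],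
  [(12, 1), (15, 1), (16, 1), (34, 1), (36, 1), (37, 1), (39, 1), (40, 1), (41, 1), (42, 1), (43, 1), (44, 1), (46, 1), (47, 1), (48, 1), (49, 1), (50, 1), (51, 1), (55, 1), (58, 1), (59, 1), (62, 1), (63, 1), (67, 1), (70, 1), (73, 1), (75, 1), (80, 1), (84, 1), (85, 1), (88, 1), (89, 1), (91, 1), (93, 1), (94, 1), (95, 1), (96, 1)],
  [(0, 1), (1, 1), (3, 1), (5, 1), (8, 1), (18, 1), (19, 1), (22, 1), (23, 1), (25, 1), (28, 1), (29, 1), (34, 1), (37, 1), (38, 1), (42, 1), (43, 1), (44, 1), (45, 1), (46, 1), (47, 1), (49, 1), (51, 1), (52, 1), (53, 1), (54, 1), (56, 1), (57, 1), (58, 1), (61, 1), (62, 1), (65, 1), (66, 1), (67, 1), (71, 1), (72, 1), (74, 1), (75, 1), (77, 1), (82, 1), (84, 1), (89, 1), (90, 1), (92, 1), (94, 1), (96, 1), (97, 1), (101, 1), (104, 1), (105, 1), (106, 1), (108, 1), (110, 1), (119, 1)],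
  [(1, 1), (2, 1), (3, 1), (5, 1), (11, 1), (12, 1), (14, 1), (15, 1), (16, 1), (17, 1), (18, 1), (19, 1), (21, 1), (22, 1), (23, 1), (25, 1), (27, 1), (28, 1), (30, 1), (31, 1), (32, 1), (33, 1), (34, 1), (35, 1), (36, 1), (41, 1), (42, 1), (43, 1), (45, 1), (46, 1), (47, 1), (48, 1), (55, 1), (58, 1), (59, 1), (61, 1), (64, 1), (65, 1), (66, 1), (68, 1), (69, 1), (70, 1), (71, 1), (72, 1), (74, 1), (75, 1), (77, 1), (78, 1), (82, 1), (83, 1), (85, 1), (87, 1), (88, 1), (91, 1), (94, 1), (95, 1), (101, 1), (105, 1), (107, 1), (108, 1), (109, 1), (110, 1), (111, 1), (112, 1), (113, 1), (114, 1), (115, 1), (116, 1), (117, 1), (119, 1)],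
  [(1, 1), (2, 1), (3, 1), (11, 1), (12, 1), (13, 1), (14, 1), (20, 1), (22, 1), (23, 1), (24, 1), (27, 1), (28, 1), (29, 1), (30, 1), (34, 1), (35, 1), (36, 1), (37, 1), (38, 1), (41, 1), (42, 1), (43, 1), (45, 1), (46, 1), (48, 1), (52, 1), (53, 1), (54, 1), (56, 1), (59, 1), (60, 1), (61, 1), (63, 1), (65, 1), (67, 1), (68, 1), (69, 1), (75, 1), (79, 1), (80, 1), (81, 1), (85, 1), (86, 1), (88, 1), (92, 1), (93, 1), (94, 1), (95, 1), (97, 1), (99, 1), (100, 1), (102, 1), (103, 1), (104, 1), (105, 1), (106, 1), (107, 1), (110, 1), (111, 1), (112, 1), (113, 1), (114, 1), (115, 1), (116, 1), (117, 1), (118, 1)],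
  [(1, 1), (8, 1), (11, 1), (12, 1), (13, 1), (16, 1), (20, 1), (21, 1), (22, 1), (23, 1), (25, 1), (26, 1), (30, 1), (32, 1), (33, 1), (34, 1), (35, 1), (36, 1), (38, 1), (41, 1), (43, 1), (44, 1), (47, 1), (48, 1), (50, 1), (55, 1), (56, 1), (57, 1), (59, 1), (61, 1), (62, 1), (63, 1), (64, 1), (65, 1), (66, 1), (67, 1), (68, 1), (69, 1), (73, 1), (78, 1), (81, 1), (82, 1), (83, 1), (85, 1), (86, 1), (91, 1), (93, 1), (94, 1), (97, 1), (99, 1), (100, 1), (101, 1), (102, 1), (103, 1), (104, 1), (106, 1), (108, 1), (110, 1)],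
  [(2, 1), (4, 1), (7, 1), (8, 1), (11, 1), (12, 1), (14, 1), (15, 1), (16, 1), (17, 1), (18, 1), (19, 1), (21, 1), (22, 1), (28, 1), (29, 1), (30, 1), (33, 1), (34, 1), (35, 1), (36, 1), (37, 1), (39, 1), (40, 1), (41, 1), (44, 1), (45, 1), (47, 1), (49, 1), (51, 1), (53, 1), (55, 1), (58, 1), (61, 1), (63, 1), (65, 1), (66, 1), (69, 1), (73, 1), (78, 1), (82, 1), (84, 1), (85, 1), (86, 1), (89, 1), (90, 1), (92, 1), (94, 1), (95, 1), (96, 1), (98, 1), (99, 1), (101, 1), (102, 1), (103, 1), (104, 1), (105, 1), (107, 1), (108, 1), (110, 1)],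
  [(1, 1), (2, 1), (3, 1), (5, 1), (11, 1), (12, 1), (13, 1), (14, 1), (15, 1), (17, 1), (21, 1), (22, 1), (23, 1), (24, 1), (25, 1), (26, 1), (27, 1), (28, 1), (29, 1), (30, 1), (32, 1), (33, 1), (34, 1), (36, 1), (38, 1), (43, 1), (44, 1), (48, 1), (49, 1), (50, 1), (53, 1), (56, 1), (57, 1), (58, 1), (59, 1), (61, 1), (65, 1), (67, 1), (73, 1), (76, 1), (78, 1), (80, 1), (82, 1), (87, 1), (88, 1), (89, 1), (90, 1), (91, 1), (92, 1), (94, 1), (95, 1), (96, 1), (97, 1), (98, 1), (101, 1), (105, 1), (107, 1), (108, 1), (109, 1), (110, 1), (111, 1), (112, 1), (113, 1), (114, 1), (115, 1), (116, 1), (117, 1), (119, 1)],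
  [(0, 1), (1, 1), (2, 1), (3, 1), (12, 1), (13, 1), (14, 1), (15, 1), (18, 1), (20, 1), (22, 1), (25, 1), (28, 1), (29, 1), (30, 1), (31, 1), (32, 1), (33, 1), (35, 1), (36, 1), (38, 1), (40, 1), (44, 1), (47, 1), (48, 1), (50, 1), (51, 1), (53, 1), (54, 1), (57, 1), (60, 1), (62, 1), (64, 1), (69, 1), (70, 1), (73, 1), (74, 1), (81, 1), (83, 1), (87, 1), (88, 1), (89, 1), (90, 1), (91, 1), (93, 1), (94, 1), (96, 1), (98, 1), (99, 1), (100, 1), (101, 1), (102, 1), (103, 1), (107, 1), (108, 1), (109, 1), (110, 1), (111, 1), (112, 1), (113, 1), (114, 1), (115, 1), (116, 1), (117, 1)],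
  [(0, 1), (2, 1), (4, 1), (8, 1), (10, 1), (12, 1), (13, 1), (17, 1), (18, 1), (20, 1), (21, 1), (25, 1), (26, 1), (27, 1), (29, 1), (30, 1), (31, 1), (32, 1), (33, 1), (34, 1), (36, 1), (38, 1), (39, 1), (41, 1), (42, 1), (43, 1), (44, 1), (45, 1), (47, 1), (48, 1), (49, 1), (50, 1), (51, 1), (60, 1), (63, 1), (67, 1), (68, 1), (69, 1), (70, 1), (71, 1), (73, 1), (81, 1), (84, 1), (86, 1), (87, 1), (88, 1), (89, 1), (90, 1), (91, 1), (94, 1), (95, 1), (97, 1), (99, 1), (100, 1), (102, 1), (103, 1), (105, 1), (110, 1)],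
  [(0, 1), (2, 1), (8, 1), (11, 1), (14, 1), (16, 1), (17, 1), (18, 1), (21, 1), (23, 1), (26, 1), (29, 1), (30, 1), (31, 1), (34, 1), (40, 1), (41, 1), (46, 1), (51, 1), (53, 1), (55, 1), (57, 1), (61, 1), (62, 1), (63, 1), (65, 1), (67, 1), (71, 1), (72, 1), (77, 1), (78, 1), (79, 1), (83, 1), (84, 1), (86, 1), (88, 1), (90, 1), (91, 1), (96, 1), (104, 1), (106, 1), (107, 1), (109, 1), (111, 1), (112, 1), (113, 1), (114, 1), (115, 1), (116, 1), (117, 1)],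
  [(2, 1), (5, 1), (8, 1), (13, 1), (14, 1), (15, 1), (16, 1), (17, 1), (20, 1), (24, 1), (27, 1), (28, 1), (29, 1), (35, 1), (41, 1), (45, 1), (46, 1), (47, 1), (49, 1), (53, 1), (55, 1), (58, 1), (59, 1), (60, 1), (62, 1), (63, 1), (64, 1), (66, 1), (67, 1), (69, 1), (70, 1), (72, 1), (74, 1), (75, 1), (76, 1), (77, 1), (78, 1), (80, 1), (82, 1), (85, 1), (86, 1), (87, 1), (88, 1), (89, 1), (90, 1), (91, 1), (92, 1), (94, 1), (95, 1), (98, 1), (99, 1), (100, 1), (102, 1), (103, 1), (104, 1), (105, 1), (106, 1), (107, 1), (109, 1), (111, 1), (112, 1), (113, 1), (114, 1), (115, 1), (116, 1), (117, 1), (119, 1)],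
  [(1, 1), (3, 1), (5, 1), (8, 1), (9, 1), (10, 1), (11, 1), (12, 1), (13, 1), (14, 1), (15, 1), (19, 1), (26, 1), (31, 1), (37, 1), (38, 1), (40, 1), (42, 1), (45, 1), (46, 1), (47, 1), (48, 1), (49, 1), (52, 1), (54, 1), (55, 1), (57, 1), (60, 1), (61, 1), (63, 1), (65, 1), (68, 1), (74, 1), (75, 1), (77, 1), (80, 1), (81, 1), (84, 1), (85, 1), (86, 1), (87, 1), (90, 1), (92, 1), (94, 1), (95, 1), (96, 1), (97, 1), (98, 1), (99, 1), (101, 1), (102, 1), (103, 1), (105, 1), (106, 1), (108, 1), (111, 1), (112, 1), (113, 1), (114, 1), (115, 1), (116, 1), (117, 1), (118, 1), (119, 1)],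
  [(2, 1), (5, 1), (8, 1), (13, 1), (14, 1), (15, 1), (16, 1), (17, 1), (19, 1), (20, 1), (23, 1), (26, 1), (27, 1), (29, 1), (33, 1), (35, 1), (37, 1), (39, 1), (41, 1), (43, 1), (44, 1), (45, 1), (47, 1), (49, 1), (55, 1), (56, 1), (62, 1), (63, 1), (64, 1), (66, 1), (68, 1), (70, 1), (73, 1), (74, 1), (78, 1), (81, 1), (82, 1), (83, 1), (85, 1), (87, 1), (90, 1), (91, 1), (92, 1), (97, 1), (98, 1), (99, 1), (100, 1), (102, 1), (103, 1), (104, 1), (105, 1), (106, 1), (107, 1), (109, 1), (111, 1), (112, 1), (113, 1), (114, 1), (115, 1), (116, 1), (117, 1), (119, 1)],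
  [(0, 1), (1, 1), (2, 1), (3, 1), (5, 1), (7, 1), (10, 1), (17, 1), (19, 1), (21, 1), (22, 1), (23, 1), (25, 1), (27, 1), (29, 1), (31, 1), (32, 1), (33, 1), (35, 1), (36, 1), (37, 1), (38, 1), (44, 1), (46, 1), (47, 1), (48, 1), (51, 1), (52, 1), (54, 1), (59, 1), (60, 1), (61, 1), (63, 1), (64, 1), (65, 1), (66, 1), (74, 1), (75, 1), (76, 1), (78, 1), (82, 1), (89, 1), (90, 1), (93, 1), (95, 1), (96, 1), (98, 1), (99, 1), (102, 1), (103, 1), (104, 1), (109, 1), (110, 1), (118, 1), (119, 1)],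
  [(2, 1), (4, 1), (5, 1), (8, 1), (10, 1), (11, 1), (12, 1), (15, 1), (17, 1), (18, 1), (26, 1), (27, 1), (28, 1), (29, 1), (32, 1), (37, 1), (38, 1), (40, 1), (41, 1), (43, 1), (44, 1), (45, 1), (46, 1), (49, 1), (50, 1), (51, 1), (52, 1), (56, 1), (58, 1), (59, 1), (61, 1), (62, 1), (64, 1), (67, 1), (71, 1), (73, 1), (74, 1), (77, 1), (78, 1), (79, 1), (80, 1), (81, 1), (82, 1), (85, 1), (86, 1), (87, 1), (88, 1), (89, 1), (92, 1), (95, 1), (96, 1), (98, 1), (110, 1), (119, 1)]]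

/-- a block of combs -/
def twoCombs2 : List (List (ℕ × ℤ)) := [
  [(1, 1), (3, 1), (8, 1), (11, 1), (12, 1), (14, 1), (15, 1), (16, 1), (17, 1), (21, 1), (23, 1), (26, 1), (29, 1), (30, 1), (33, 1), (35, 1), (37, 1), (38, 1), (40, 1), (42, 1), (45, 1), (46, 1), (47, 1), (48, 1), (49, 1), (52, 1), (53, 1), (56, 1), (57, 1), (58, 1), (60, 1), (61, 1), (62, 1), (63, 1), (64, 1), (65, 1), (66, 1), (67, 1), (70, 1), (71, 1), (73, 1), (77, 1), (78, 1), (80, 1), (82, 1), (85, 1), (88, 1), (89, 1), (90, 1), (91, 1), (92, 1), (93, 1), (95, 1), (96, 1), (97, 1), (104, 1), (106, 1), (107, 1), (109, 1), (111, 1), (112, 1), (113, 1), (114, 1), (115, 1), (116, 1), (117, 1)],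
  [(1, 1), (2, 1), (3, 1), (4, 1), (5, 1), (10, 1), (14, 1), (16, 1), (18, 1), (21, 1), (23, 1), (25, 1), (28, 1), (30, 1), (33, 1), (35, 1), (36, 1), (37, 1), (39, 1), (40, 1), (43, 1), (45, 1), (47, 1), (49, 1), (51, 1), (53, 1), (55, 1), (56, 1), (58, 1), (65, 1), (66, 1), (67, 1), (68, 1), (73, 1), (74, 1), (76, 1), (80, 1), (81, 1), (84, 1), (85, 1), (86, 1), (87, 1), (88, 1), (90, 1), (92, 1), (93, 1), (97, 1), (98, 1), (104, 1), (106, 1), (107, 1), (109, 1), (110, 1), (111, 1), (112, 1), (113, 1), (114, 1), (115, 1), (116, 1), (117, 1), (119, 1)],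
  [(2, 1), (5, 1), (7, 1), (8, 1), (10, 1), (13, 1), (16, 1), (17, 1), (19, 1), (20, 1), (22, 1), (25, 1), (26, 1), (28, 1), (30, 1), (32, 1), (35, 1), (36, 1), (38, 1), (39, 1), (40, 1), (42, 1), (43, 1), (46, 1), (49, 1), (51, 1), (53, 1), (55, 1), (56, 1), (58, 1), (61, 1), (62, 1), (64, 1), (65, 1), (66, 1), (67, 1), (68, 1), (69, 1), (71, 1), (72, 1), (73, 1), (75, 1), (77, 1), (79, 1), (80, 1), (82, 1), (83, 1), (84, 1), (85, 1), (90, 1), (94, 1), (98, 1), (99, 1), (100, 1), (101, 1), (102, 1), (103, 1), (104, 1), (106, 1), (108, 1), (109, 1), (110, 1), (111, 1), (112, 1), (113, 1), (114, 1), (115, 1), (116, 1), (117, 1), (119, 1)],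
  [(0, 1), (1, 1), (3, 1), (5, 1), (7, 1), (8, 1), (10, 1), (13, 1), (16, 1), (17, 1), (18, 1), (19, 1), (20, 1), (22, 1), (25, 1), (26, 1), (28, 1), (30, 1), (31, 1), (32, 1), (34, 1), (37, 1), (38, 1), (42, 1), (43, 1), (44, 1), (46, 1), (47, 1), (49, 1), (50, 1), (51, 1), (52, 1), (53, 1), (55, 1), (56, 1), (57, 1), (58, 1), (59, 1), (61, 1), (62, 1), (63, 1), (65, 1), (69, 1), (71, 1), (73, 1), (75, 1), (76, 1), (80, 1), (84, 1), (85, 1), (86, 1), (87, 1), (92, 1), (93, 1), (94, 1), (98, 1), (99, 1), (100, 1), (101, 1), (102, 1), (103, 1), (104, 1), (106, 1), (108, 1), (109, 1), (110, 1), (111, 1), (112, 1), (113, 1), (114, 1), (115, 1), (116, 1), (117, 1), (119, 1)],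
  [(0, 1), (4, 1), (5, 1), (10, 1), (14, 1), (16, 1), (21, 1), (23, 1), (27, 1), (28, 1), (30, 1), (31, 1), (32, 1), (33, 1), (39, 1), (40, 1), (43, 1), (44, 1), (46, 1), (49, 1), (50, 1), (52, 1), (53, 1), (54, 1), (55, 1), (56, 1), (57, 1), (58, 1), (59, 1), (63, 1), (65, 1), (66, 1), (67, 1), (68, 1), (72, 1), (73, 1), (74, 1), (80, 1), (83, 1), (89, 1), (90, 1), (91, 1), (92, 1), (104, 1), (106, 1), (107, 1), (109, 1), (110, 1), (111, 1), (112, 1), (113, 1), (114, 1), (115, 1), (116, 1), (117, 1), (119, 1)],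
  [(5, 1), (9, 1), (10, 1), (12, 1), (13, 1), (15, 1), (16, 1), (17, 1), (19, 1), (21, 1), (23, 1), (29, 1), (30, 1), (31, 1), (33, 1), (35, 1), (36, 1), (40, 1), (41, 1), (44, 1), (46, 1), (47, 1), (48, 1), (49, 1), (50, 1), (51, 1), (53, 1), (54, 1), (57, 1), (58, 1), (60, 1), (62, 1), (63, 1), (64, 1), (67, 1), (68, 1), (70, 1), (72, 1), (73, 1), (74, 1), (75, 1), (77, 1), (78, 1), (80, 1), (82, 1), (83, 1), (85, 1), (86, 1), (88, 1), (89, 1), (90, 1), (92, 1), (93, 1), (94, 1), (95, 1), (97, 1), (99, 1), (101, 1), (102, 1), (103, 1), (104, 1), (105, 1), (107, 1), (108, 1), (109, 1), (118, 1), (119, 1)],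
  [(2, 1), (5, 1), (8, 1), (12, 1), (15, 1), (16, 1), (19, 1), (22, 1), (23, 1), (25, 1), (26, 1), (27, 1), (28, 1), (32, 1), (34, 1), (38, 1), (39, 1), (41, 1), (43, 1), (47, 1), (48, 1), (49, 1), (51, 1), (52, 1), (53, 1), (54, 1), (55, 1), (59, 1), (62, 1), (64, 1), (68, 1), (69, 1), (71, 1), (72, 1), (73, 1), (75, 1), (76, 1), (77, 1), (78, 1), (80, 1), (82, 1), (87, 1), (88, 1), (90, 1), (91, 1), (92, 1), (94, 1), (95, 1), (96, 1), (97, 1), (101, 1), (104, 1), (105, 1), (106, 1), (108, 1), (110, 1), (119, 1)],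
  [(9, 1), (34, 1), (43, 1), (45, 1), (46, 1), (49, 1), (55, 1), (56, 1), (60, 1), (66, 1), (76, 1), (77, 1), (78, 1), (79, 1), (82, 1), (90, 1), (91, 1), (92, 1), (93, 1), (94, 1), (95, 1), (96, 1)],
  [(0, 1), (1, 1), (3, 1), (4, 1), (5, 1), (8, 1), (10, 1), (11, 1), (12, 1), (17, 1), (26, 1), (27, 1), (28, 1), (29, 1), (30, 1), (31, 1), (32, 1), (34, 1), (36, 1), (37, 1), (38, 1), (41, 1), (43, 1), (44, 1), (45, 1), (46, 1), (47, 1), (49, 1), (51, 1), (57, 1), (58, 1), (60, 1), (61, 1), (63, 1), (67, 1), (72, 1), (74, 1), (81, 1), (83, 1), (84, 1), (89, 1), (90, 1), (92, 1), (93, 1), (96, 1), (97, 1), (98, 1), (110, 1), (119, 1)],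
  [(1, 1), (3, 1), (8, 1), (11, 1), (12, 1), (14, 1), (15, 1), (16, 1), (17, 1), (18, 1), (21, 1), (23, 1), (26, 1), (29, 1), (30, 1), (35, 1), (37, 1), (38, 1), (39, 1), (40, 1), (47, 1), (48, 1), (49, 1), (52, 1), (53, 1), (56, 1), (58, 1), (59, 1), (60, 1), (61, 1), (63, 1), (64, 1), (65, 1), (68, 1), (71, 1), (74, 1), (75, 1), (77, 1), (78, 1), (81, 1), (82, 1), (83, 1), (86, 1), (89, 1), (90, 1), (91, 1), (93, 1), (95, 1), (97, 1), (98, 1), (104, 1), (106, 1), (107, 1), (109, 1), (111, 1), (112, 1), (113, 1), (114, 1), (115, 1), (116, 1), (117, 1)],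
  [(0, 1), (1, 1), (3, 1), (4, 1), (5, 1), (8, 1), (10, 1), (11, 1), (12, 1), (15, 1), (17, 1), (18, 1), (26, 1), (28, 1), (29, 1), (31, 1), (32, 1), (34, 1), (35, 1), (37, 1), (38, 1), (41, 1), (42, 1), (43, 1), (45, 1), (47, 1), (48, 1), (52, 1), (59, 1), (60, 1), (61, 1), (65, 1), (66, 1), (68, 1), (69, 1), (70, 1), (73, 1), (74, 1), (80, 1), (82, 1), (84, 1), (86, 1), (87, 1), (88, 1), (89, 1), (92, 1), (96, 1), (97, 1), (98, 1), (110, 1), (119, 1)],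
  [(0, 1), (1, 1), (3, 1), (5, 1), (7, 1), (8, 1), (10, 1), (13, 1), (16, 1), (17, 1), (18, 1), (19, 1), (20, 1), (22, 1), (25, 1), (26, 1), (28, 1), (30, 1), (31, 1), (32, 1), (35, 1), (38, 1), (39, 1), (42, 1), (46, 1), (47, 1), (49, 1), (50, 1), (51, 1), (52, 1), (53, 1), (55, 1), (57, 1), (58, 1), (59, 1), (60, 1), (61, 1), (63, 1), (65, 1), (66, 1), (67, 1), (68, 1), (69, 1), (71, 1), (75, 1), (76, 1), (79, 1), (82, 1), (86, 1), (87, 1), (88, 1), (92, 1), (97, 1), (98, 1), (99, 1), (100, 1), (101, 1), (102, 1), (103, 1), (104, 1), (106, 1), (108, 1), (109, 1), (110, 1), (111, 1), (112, 1), (113, 1), (114, 1), (115, 1), (116, 1), (117, 1), (119, 1)],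
  [(39, 1), (40, 1), (46, 1), (50, 1), (59, 1), (62, 1), (67, 1), (68, 1), (74, 1), (75, 1), (77, 1), (82, 1), (83, 1), (84, 1), (88, 1), (91, 1), (95, 1), (96, 1)],
  [(0, 1), (1, 1), (3, 1), (5, 1), (7, 1), (8, 1), (10, 1), (13, 1), (16, 1), (17, 1), (18, 1), (19, 1), (20, 1), (22, 1), (25, 1), (26, 1), (28, 1), (30, 1), (31, 1), (32, 1), (34, 1), (38, 1), (39, 1), (40, 1), (42, 1), (44, 1), (46, 1), (47, 1), (49, 1), (50, 1), (51, 1), (52, 1), (53, 1), (54, 1), (55, 1), (58, 1), (59, 1), (60, 1), (61, 1), (62, 1), (63, 1), (64, 1), (65, 1), (66, 1), (67, 1), (68, 1), (69, 1), (71, 1), (72, 1), (73, 1), (74, 1), (76, 1), (77, 1), (80, 1), (81, 1), (88, 1), (89, 1), (92, 1), (96, 1), (98, 1), (99, 1), (100, 1), (101, 1), (102, 1), (103, 1), (104, 1), (106, 1), (108, 1), (109, 1), (110, 1), (111, 1), (112, 1), (113, 1), (114, 1), (115, 1), (116, 1), (117, 1), (119, 1)],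
  [(1, 1), (3, 1), (4, 1), (7, 1), (8, 1), (13, 1), (14, 1), (17, 1), (18, 1), (19, 1), (20, 1), (21, 1), (22, 1), (23, 1), (25, 1), (26, 1), (27, 1), (34, 1), (38, 1), (39, 1), (43, 1), (45, 1), (46, 1), (47, 1), (51, 1), (56, 1), (59, 1), (60, 1), (61, 1), (64, 1), (66, 1), (67, 1), (68, 1), (69, 1), (70, 1), (72, 1), (73, 1), (74, 1), (75, 1), (76, 1), (77, 1), (80, 1), (85, 1), (86, 1), (90, 1), (91, 1), (92, 1), (99, 1), (100, 1), (101, 1), (102, 1), (103, 1), (107, 1), (108, 1)],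
  [(2, 1), (5, 1), (7, 1), (8, 1), (10, 1), (13, 1), (16, 1), (17, 1), (19, 1), (20, 1), (22, 1), (25, 1), (26, 1), (28, 1), (30, 1), (32, 1), (33, 1), (34, 1), (35, 1), (36, 1), (38, 1), (39, 1), (40, 1), (42, 1), (45, 1), (47, 1), (49, 1), (51, 1), (53, 1), (55, 1), (60, 1), (61, 1), (64, 1), (65, 1), (67, 1), (68, 1), (69, 1), (70, 1), (71, 1), (72, 1), (73, 1), (74, 1), (75, 1), (77, 1), (78, 1), (82, 1), (84, 1), (88, 1), (90, 1), (91, 1), (93, 1), (95, 1), (96, 1), (99, 1), (100, 1), (101, 1), (102, 1), (103, 1), (104, 1), (106, 1), (108, 1), (109, 1), (110, 1), (111, 1), (112, 1), (113, 1), (114, 1), (115, 1), (116, 1), (117, 1), (119, 1)],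
  [(1, 1), (3, 1), (8, 1), (11, 1), (14, 1), (16, 1), (17, 1), (21, 1), (23, 1), (26, 1), (28, 1), (29, 1), (30, 1), (36, 1), (37, 1), (41, 1), (43, 1), (45, 1), (47, 1), (50, 1), (51, 1), (52, 1), (53, 1), (54, 1), (55, 1), (57, 1), (61, 1), (62, 1), (64, 1), (65, 1), (66, 1), (67, 1), (68, 1), (71, 1), (72, 1), (73, 1), (75, 1), (76, 1), (78, 1), (79, 1), (80, 1), (82, 1), (86, 1), (88, 1), (91, 1), (93, 1), (95, 1), (96, 1), (97, 1), (98, 1), (104, 1), (106, 1), (107, 1), (109, 1), (111, 1), (112, 1), (113, 1), (114, 1), (115, 1), (116, 1), (117, 1)],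
  [(35, 1), (39, 1), (41, 1), (43, 1), (44, 1), (45, 1), (46, 1), (49, 1), (50, 1), (54, 1), (56, 1), (57, 1), (59, 1), (60, 1), (62, 1), (64, 1), (67, 1), (68, 1), (69, 1), (72, 1), (73, 1), (74, 1), (75, 1), (78, 1), (80, 1), (81, 1), (82, 1), (83, 1), (86, 1), (87, 1), (88, 1), (90, 1), (91, 1), (93, 1), (94, 1), (95, 1), (97, 1), (98, 1)],
  [(0, 1), (1, 1), (2, 1), (3, 1), (18, 1), (30, 1), (31, 1), (34, 1), (36, 1), (40, 1), (47, 1), (50, 1), (52, 1), (56, 1), (57, 1), (59, 1), (60, 1), (63, 1), (64, 1), (73, 1), (78, 1), (80, 1), (82, 1), (83, 1), (84, 1), (86, 1), (87, 1), (90, 1), (91, 1), (93, 1), (97, 1), (98, 1)],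
  [(0, 1), (1, 1), (2, 1), (3, 1), (18, 1), (36, 1), (40, 1), (43, 1), (45, 1), (46, 1), (47, 1), (50, 1), (52, 1), (63, 1), (64, 1), (67, 1), (68, 1), (71, 1), (73, 1), (75, 1), (76, 1), (80, 1), (81, 1), (82, 1), (83, 1), (89, 1), (95, 1), (96, 1), (97, 1), (98, 1)]]

/-- a block of combs -/
def twoCombs3 : List (List (ℕ × ℤ)) := [
  [(0, 1), (1, 1), (2, 1), (3, 1), (18, 1), (27, 1), (31, 1), (32, 1), (34, 1), (35, 1), (36, 1), (37, 1), (43, 1), (44, 1), (47, 1), (50, 1), (51, 1), (52, 1), (53, 1), (54, 1), (59, 1), (60, 1), (62, 1), (63, 1), (66, 1), (71, 1), (72, 1), (73, 1), (75, 1), (76, 1), (77, 1), (78, 1), (79, 1), (80, 1), (81, 1), (83, 1), (84, 1), (85, 1), (91, 1), (92, 1), (93, 1), (97, 1), (98, 1)],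
  [(45, 1), (46, 1), (56, 1), (60, 1), (66, 1), (68, 1), (70, 1), (73, 1), (74, 1), (76, 1), (78, 1), (80, 1), (83, 1), (85, 1), (90, 1), (91, 1), (93, 1), (94, 1), (95, 1), (96, 1)],
  [(0, 1), (1, 1), (3, 1), (5, 1), (7, 1), (8, 1), (10, 1), (13, 1), (16, 1), (17, 1), (18, 1), (19, 1), (20, 1), (22, 1), (25, 1), (26, 1), (28, 1), (30, 1), (31, 1), (32, 1), (34, 1), (37, 1), (38, 1), (40, 1), (42, 1), (43, 1), (44, 1), (45, 1), (46, 1), (47, 1), (49, 1), (51, 1), (52, 1), (53, 1), (55, 1), (56, 1), (57, 1), (58, 1), (61, 1), (63, 1), (65, 1), (67, 1), (68, 1), (69, 1), (71, 1), (72, 1), (73, 1), (74, 1), (76, 1), (77, 1), (78, 1), (80, 1), (82, 1), (83, 1), (85, 1), (86, 1), (87, 1), (88, 1), (91, 1), (92, 1), (93, 1), (94, 1), (95, 1), (96, 1), (98, 1), (99, 1), (100, 1), (101, 1), (102, 1), (103, 1), (104, 1), (106, 1), (108, 1), (109, 1), (110, 1), (111, 1), (112, 1), (113, 1), (114, 1), (115, 1),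 (116, 1), (117, 1), (119, 1)],
  [(45, 1), (56, 1), (57, 1), (59, 1), (60, 1), (62, 1), (67, 1), (68, 1), (71, 1), (72, 1), (79, 1), (81, 1), (86, 1), (89, 1), (93, 1), (94, 1), (96, 1)],
  [(75, 1), (76, 1), (78, 1)],
  [(34, 1), (43, 1), (45, 1), (46, 1), (56, 1), (60, 1), (66, 1), (68, 1), (71, 1), (72, 1), (73, 1), (74, 1), (76, 1), (78, 1), (79, 1), (80, 1), (85, 1), (88, 1), (90, 1), (91, 1), (92, 1), (93, 1), (94, 1)],
  [(2, 1), (5, 1), (7, 1), (8, 1), (10, 1), (13, 1), (16, 1), (17, 1), (19, 1), (20, 1), (22, 1), (25, 1), (26, 1), (28, 1), (30, 1), (32, 1), (34, 1), (36, 1), (38, 1), (39, 1), (42, 1), (43, 1), (44, 1), (47, 1), (49, 1), (51, 1), (53, 1), (54, 1), (55, 1), (56, 1), (58, 1), (59, 1), (61, 1), (62, 1), (63, 1), (65, 1), (66, 1), (68, 1), (69, 1), (70, 1), (71, 1), (74, 1), (76, 1), (79, 1), (80, 1), (82, 1), (84, 1), (87, 1), (88, 1), (91, 1), (94, 1), (96, 1), (97, 1), (99, 1),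 (100, 1), (101, 1), (102, 1), (103, 1), (104, 1), (106, 1), (108, 1), (109, 1), (110, 1), (111, 1), (112, 1), (113, 1), (114, 1), (115, 1), (116, 1), (117, 1), (119, 1)],
  [(0, 1), (1, 1), (3, 1), (5, 1), (7, 1), (8, 1), (10, 1), (13, 1), (16, 1), (17, 1), (18, 1), (19, 1), (20, 1), (22, 1), (25, 1), (26, 1), (28, 1), (30, 1), (31, 1), (32, 1), (34, 1), (37, 1), (38, 1), (42, 1), (43, 1), (44, 1), (45, 1), (47, 1), (49, 1), (51, 1), (52, 1), (53, 1), (55, 1), (56, 1), (57, 1), (58, 1), (59, 1), (61, 1), (62, 1), (63, 1), (65, 1), (67, 1), (68, 1), (69, 1), (70, 1), (73, 1), (75, 1), (76, 1), (77, 1), (79, 1), (80, 1), (82, 1), (83, 1), (84, 1), (86, 1), (88, 1), (90, 1), (92, 1), (93, 1), (94, 1), (96, 1), (98, 1), (99, 1), (100, 1), (101, 1), (102, 1), (103, 1), (104, 1), (106, 1), (108, 1), (109, 1), (110, 1), (111, 1), (112, 1), (113, 1), (114, 1), (115, 1), (116, 1), (117, 1), (119, 1)],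
  [(0, 1), (1, 1), (3, 1), (5, 1), (7, 1), (8, 1), (10, 1), (13, 1), (16, 1), (17, 1), (18, 1), (19, 1), (20, 1), (22, 1), (25, 1), (26, 1), (28, 1), (30, 1), (31, 1), (32, 1), (35, 1), (38, 1), (40, 1), (41, 1), (42, 1), (45, 1), (47, 1), (49, 1), (51, 1), (52, 1), (53, 1), (55, 1), (56, 1), (58, 1), (61, 1), (62, 1), (63, 1), (65, 1), (70, 1), (71, 1), (73, 1), (74, 1), (75, 1), (76, 1), (78, 1), (80, 1), (83, 1), (88, 1), (89, 1), (90, 1), (93, 1), (94, 1), (95, 1), (97, 1), (98, 1), (99, 1), (100, 1), (101, 1), (102, 1), (103, 1), (104, 1), (106, 1), (108, 1), (109, 1), (110, 1), (111, 1), (112, 1), (113, 1), (114, 1), (115, 1), (116, 1), (117, 1), (119, 1)],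
  [(0, 1), (1, 1), (3, 1), (5, 1), (7, 1), (8, 1), (10, 1), (13, 1), (16, 1), (17, 1), (18, 1), (19, 1), (20, 1), (22, 1), (25, 1), (26, 1), (28, 1), (30, 1), (31, 1), (32, 1), (34, 1), (38, 1), (39, 1), (40, 1), (42, 1), (44, 1), (45, 1), (46, 1), (47, 1), (49, 1), (50, 1), (52, 1), (53, 1), (54, 1), (55, 1), (56, 1), (57, 1), (58, 1), (61, 1), (62, 1), (63, 1), (64, 1), (65, 1), (69, 1), (71, 1), (72, 1), (73, 1), (74, 1), (75, 1), (77, 1), (78, 1), (79, 1), (80, 1), (85, 1), (86, 1), (88, 1), (92, 1), (93, 1), (94, 1), (95, 1), (99, 1), (100, 1), (101, 1), (102, 1), (103, 1), (104, 1), (106, 1), (108, 1), (109, 1), (110, 1), (111, 1), (112, 1), (113, 1), (114, 1), (115, 1), (116, 1), (117, 1), (119, 1)],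
  [(37, 1), (52, 1), (66, 1), (68, 1), (71, 1), (75, 1), (77, 1), (78, 1), (79, 1), (85, 1), (86, 1), (87, 1), (89, 1), (90, 1), (91, 1), (97, 1), (98, 1)],
  [(26, 1), (27, 1), (37, 1), (46, 1), (62, 1), (66, 1), (70, 1), (72, 1), (75, 1), (83, 1), (84, 1), (85, 1), (86, 1), (91, 1), (92, 1), (93, 1), (96, 1), (97, 1)],
  [(57, 1), (86, 1), (87, 1), (88, 1), (89, 1)],
  [(46, 1), (67, 1), (87, 1), (89, 1)],
  [(46, 1), (59, 1), (62, 1), (66, 1), (67, 1), (70, 1), (71, 1), (72, 1), (74, 1), (76, 1), (78, 1), (81, 1), (83, 1), (87, 1), (88, 1), (90, 1), (91, 1), (95, 1)],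
  [(66, 1), (75, 1), (76, 1), (77, 1), (78, 1), (88, 1)],
  [(74, 1), (75, 1), (76, 1), (77, 1), (78, 1)],
  [(66, 1), (71, 1), (75, 1), (76, 1), (78, 1), (85, 1)],
  [(46, 1), (57, 1), (59, 1), (62, 1), (66, 1), (67, 1), (70, 1), (71, 1), (72, 1), (74, 1), (76, 1), (78, 1), (80, 1), (81, 1), (83, 1), (85, 1), (86, 1), (89, 1), (90, 1), (91, 1), (95, 1)],
  [(37, 1), (45, 1), (54, 1), (56, 1), (57, 1), (59, 1), (60, 1), (67, 1), (71, 1), (72, 1), (77, 1), (79, 1), (81, 1), (86, 1), (88, 1), (89, 1), (91, 1), (93, 1), (94, 1), (98, 1)]]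

/-- a block of combs -/
def twoCombs4 : List (List (ℕ × ℤ)) := [
  [(0, 1), (1, 1), (3, 1), (5, 1), (7, 1), (8, 1), (10, 1), (13, 1), (16, 1), (17, 1), (18, 1), (19, 1), (20, 1), (22, 1), (25, 1), (26, 1), (28, 1), (30, 1), (31, 1), (32, 1), (34, 1), (38, 1), (39, 1), (40, 1), (42, 1), (44, 1), (45, 1), (47, 1), (49, 1), (50, 1), (51, 1), (52, 1), (53, 1), (54, 1), (56, 1), (57, 1), (58, 1), (59, 1), (61, 1), (62, 1), (63, 1), (64, 1), (65, 1), (66, 1), (67, 1), (68, 1), (69, 1), (70, 1), (71, 1), (77, 1), (79, 1), (81, 1), (86, 1), (87, 1), (89, 1), (90, 1), (91, 1), (92, 1), (93, 1), (94, 1), (96, 1), (98, 1), (99, 1), (100, 1), (101, 1), (102, 1), (103, 1), (104, 1), (106, 1), (108, 1), (109, 1), (110, 1), (111, 1), (112, 1), (113, 1), (114, 1), (115, 1), (116, 1), (117, 1), (119, 1)],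
  [(45, 1), (59, 1), (60, 1), (67, 1), (71, 1), (72, 1), (74, 1), (75, 1), (78, 1), (79, 1), (81, 1), (82, 1), (87, 1), (90, 1), (93, 1), (94, 1), (96, 1), (98, 1)],
  [(37, 1), (68, 1), (76, 1), (77, 1), (79, 1), (85, 1), (86, 1), (87, 1), (89, 1), (90, 1), (91, 1), (97, 1), (98, 1)],
  [(53, 1), (62, 1), (68, 1), (76, 1), (77, 1), (79, 1), (89, 1), (98, 1)],
  [(37, 1), (68, 1), (76, 1), (88, 1), (90, 1), (91, 1), (97, 1), (98, 1)],
  [(87, 1), (89, 1)],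
  [(88, 1), (89, 1)],
  [(77, 1), (88, 1)],
  [(77, 1)],
  [(77, 1), (79, 1), (85, 1)],
  [(77, 1), (79, 1)],
  [(33, 1), (58, 1), (73, 1), (79, 1), (90, 1), (92, 1)],
  [(37, 1), (43, 1), (45, 1), (54, 1), (56, 1), (57, 1), (60, 1), (67, 1), (70, 1), (72, 1), (76, 1), (77, 1), (79, 1), (81, 1), (83, 1), (86, 1), (88, 1), (90, 1), (93, 1), (94, 1)],
  [(1, 1), (3, 1), (4, 1), (7, 1), (8, 1), (13, 1), (14, 1), (17, 1), (18, 1), (19, 1), (20, 1), (21, 1), (22, 1), (23, 1), (25, 1), (26, 1), (27, 1), (37, 1), (38, 1), (39, 1), (40, 1), (43, 1), (44, 1), (47, 1), (51, 1), (54, 1), (55, 1), (59, 1), (61, 1), (62, 1), (67, 1), (68, 1), (70, 1), (71, 1), (73, 1), (74, 1), (77, 1), (80, 1), (81, 1), (85, 1), (86, 1), (89, 1), (90, 1), (91, 1), (93, 1), (94, 1), (95, 1), (96, 1), (98, 1), (99, 1), (100, 1), (101, 1), (102, 1), (103, 1), (107, 1), (108, 1)],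
  [(62, 1), (68, 1), (78, 1), (79, 1), (82, 1), (85, 1), (88, 1), (90, 1), (93, 1), (94, 1), (95, 1), (96, 1), (98, 1)],
  [(46, 1), (77, 1), (79, 1), (82, 1), (84, 1), (85, 1), (87, 1), (89, 1), (90, 1), (92, 1), (93, 1), (95, 1)],
  [(27, 1), (53, 1), (62, 1), (68, 1), (76, 1), (77, 1), (79, 1), (89, 1), (98, 1)],
  [(62, 1), (68, 1), (76, 1), (88, 1), (90, 1), (92, 1), (98, 1)],
  [(46, 1), (84, 1), (87, 1), (89, 1)],
  [(62, 1), (68, 1), (76, 1), (88, 1), (98, 1)]]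

/-- a block of combs -/
def twoCombs5 : List (List (ℕ × ℤ)) := [
  [(62, 1), (68, 1), (77, 1), (78, 1), (88, 1), (95, 1), (98, 1)],
  [(76, 1), (77, 1), (78, 1)],
  [(77, 1), (79, 1), (82, 1), (85, 1)],
  [(90, 1)],
  [(62, 1), (68, 1), (70, 1), (71, 1), (72, 1), (77, 1), (78, 1), (79, 1), (83, 1), (90, 1), (95, 1), (96, 1), (98, 1)],
  [(33, 1), (34, 1), (43, 1), (46, 1), (57, 1), (59, 1), (62, 1), (66, 1), (67, 1), (70, 1), (71, 1), (72, 1), (74, 1), (76, 1), (78, 1), (80, 1), (81, 1), (83, 1), (85, 1), (86, 1), (89, 1), (90, 1), (91, 1), (95, 1)],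
  [(37, 1), (43, 1), (45, 1), (54, 1), (56, 1), (57, 1), (59, 1), (60, 1), (67, 1), (71, 1), (72, 1), (77, 1), (79, 1), (81, 1), (86, 1), (88, 1), (89, 1), (91, 1), (93, 1), (94, 1), (98, 1)],
  [(1, 1), (3, 1), (4, 1), (7, 1), (8, 1), (13, 1), (14, 1), (17, 1), (18, 1), (19, 1), (20, 1), (21, 1), (22, 1), (23, 1), (25, 1), (26, 1), (27, 1), (37, 1), (38, 1), (39, 1), (40, 1), (43, 1), (44, 1), (47, 1), (51, 1), (54, 1), (55, 1), (59, 1), (61, 1), (62, 1), (66, 1), (67, 1), (68, 1), (69, 1), (70, 1), (71, 1), (73, 1), (74, 1), (78, 1), (80, 1), (81, 1), (82, 1), (83, 1), (85, 1), (86, 1), (88, 1), (89, 1), (90, 1), (91, 1), (93, 1), (94, 1), (95, 1), (96, 1), (98, 1), (99, 1), (100, 1), (101, 1), (102, 1), (103, 1), (107, 1), (108, 1)],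
  [(46, 1), (59, 1), (60, 1), (67, 1), (68, 1), (70, 1), (72, 1), (74, 1), (75, 1), (78, 1), (79, 1), (81, 1), (82, 1), (83, 1), (87, 1), (91, 1), (93, 1), (94, 1), (96, 1), (98, 1)],
  [(36, 1), (37, 1), (68, 1), (76, 1), (77, 1), (79, 1), (85, 1), (86, 1), (87, 1), (89, 1), (90, 1), (91, 1), (97, 1), (98, 1)],
  [(27, 1), (53, 1), (61, 1), (62, 1), (68, 1), (76, 1), (88, 1), (98, 1)],
  [(68, 1), (76, 1), (88, 1), (90, 1), (91, 1), (97, 1), (98, 1)],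
  [(46, 1), (87, 1), (89, 1)],
  [(68, 1), (76, 1), (88, 1), (98, 1)],
  [(68, 1), (77, 1), (88, 1)],
  [(76, 1), (77, 1)],
  [(77, 1), (79, 1), (83, 1), (85, 1)],
  [(90, 1), (91, 1)],
  [(90, 1), (96, 1)],
  [(68, 1), (70, 1), (71, 1), (77, 1), (79, 1), (83, 1)]]

/-- all of combs -/
def twoCombs : List (List (ℕ × ℤ)) := twoCombs0 ++ twoCombs1 ++ twoCombs2 ++ twoCombs3 ++ twoCombs4 ++ twoCombs5

/-- a block of parity -/
def twoParity0 : List (List ℕ) := [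
  [0, 1, 5, 7, 8, 121, 135, 139],
  [0, 1, 2, 6, 7, 8, 10, 121, 139],
  [2, 3, 6, 8, 10, 121],
  [1, 2, 3, 5, 7, 10],
  [0, 1, 2, 5, 6],
  [0, 1, 2, 4, 5, 7, 8, 10, 11],
  [0, 2, 6, 7],
  [0, 5, 8],
  [0, 2, 5, 6, 8],
  [2, 6, 7, 11]]

/-- a block of parity -/
def twoParity1 : List (List ℕ) := [
  [2, 7, 11],
  [0, 6, 7, 8],
  [0, 5, 7, 8],
  [0, 5, 7, 8, 10, 11]]

/-- all of parity -/
def twoParity : List (List ℕ) := twoParity0 ++ twoParity1

/-- a block of lvl0w -/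
def twoLvl0W0 : List (List ℕ) := [
  [0, 9, 12],
  [0, 4],
  [0, 9, 10],
  [0, 4, 6],
  [0, 7, 8],
  [0, 3, 6, 13],
  [7, 8, 10],
  [0, 2, 4, 7],
  [2, 7],
  [2, 5, 12],
  [1, 5, 10],
  [0, 8, 9, 12],
  [9, 10],
  [0, 6, 7, 8],
  [0, 1, 5, 10],
  [0, 7, 13],
  [3, 9],
  [2, 6, 12],
  [0, 3, 5, 10, 12],
  [7, 10],
  [3, 12],
  [],
  [6, 7, 8],
  [5, 9, 12],
  [7, 12, 13],
  [0, 3, 8],
  [0, 8, 12, 13],
  [0, 7, 9],
  [6, 13],
  [5, 12],
  [3, 8, 12],
  [0, 8, 12],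
  [0, 2, 8, 9],
  [0, 8, 9, 10],
  [0, 2, 6, 12],
  [2, 4, 7],
  [0, 3, 4, 7],
  [2, 8],
  [9, 10, 12],
  [3, 6, 8],
  [0, 5, 9, 10],
  [0, 9],
  [3, 7, 13],
  [0, 4, 7, 8],
  [0, 2, 7],
  [0, 1],
  [8],
  [0, 3, 7, 13],
  [3, 13],
  [0, 4, 12]]

/-- a block of lvl0w -/
def twoLvl0W1 : List (List ℕ) := [
  [8, 9, 13],
  [0, 1, 10, 12],
  [3, 4, 8],
  [1],
  [7, 10, 13],
  [0, 3, 8, 12],
  [0, 7, 10, 12],
  [0, 3, 8, 9, 13],
  [2, 12],
  [0, 1, 2, 12],
  [0, 4, 8],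
  [0, 2, 6, 8],
  [7, 8, 13],
  [3, 4, 6],
  [0, 7, 8, 10],
  [3, 5, 8],
  [1, 8],
  [0, 8, 10, 12],
  [0, 2, 13],
  [1, 7],
  [0, 7, 8, 13],
  [0, 9, 10, 12],
  [3, 5, 10],
  [7, 9],
  [0, 5, 7, 13],
  [7],
  [1, 7, 13],
  [3, 5],
  [3, 5, 6],
  [10],
  [5],
  [1, 10, 12],
  [0, 2, 12],
  [0, 1, 12, 13],
  [0, 9, 10, 13],
  [3, 8],
  [0, 1, 3],
  [0, 3, 9, 12],
  [2, 4, 12],
  [10, 12, 13],
  [0, 5, 8],
  [3, 8, 12, 13],
  [2, 9],
  [8, 10],
  [3, 6],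
  [0, 3, 5],
  [0, 13],
  [0, 3, 6, 8, 12],
  [3, 4, 12],
  [0, 3, 4, 8]]

/-- a block of lvl0w -/
def twoLvl0W2 : List (List ℕ) := [
  [7, 8],
  [0, 3, 4, 12],
  [0, 7, 12],
  [13],
  [0, 12, 13],
  [0, 6, 9, 10],
  [0, 3, 5, 8],
  [0, 6],
  [3, 5, 9],
  [3, 10],
  [4, 6],
  [8, 12, 13],
  [3, 8, 9],
  [3, 4, 7],
  [1, 12],
  [1, 6, 8],
  [0, 2, 9],
  [4, 7],
  [0, 3, 12, 13],
  [0, 2, 3],
  [0, 5, 12],
  [0, 3],
  [12, 13],
  [5, 10, 12],
  [8, 9, 10],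
  [0, 1, 6, 8],
  [0, 1, 6],
  [3, 5, 10, 12],
  [7, 12],
  [2, 8, 9],
  [3, 6, 13],
  [0, 2, 4, 12],
  [0, 1, 6, 13],
  [0, 3, 8, 12, 13],
  [0, 7, 10],
  [6, 8],
  [0, 3, 8, 9],
  [0, 3, 6, 8],
  [6],
  [0, 6, 10, 13],
  [9],
  [0, 10, 12],
  [8, 12],
  [9, 10, 13],
  [2, 4],
  [0, 10, 13],
  [0, 2, 5],
  [0, 6, 10],
  [6, 10, 13],
  [0, 5, 10, 12]]

/-- a block of lvl0w -/
def twoLvl0W3 : List (List ℕ) := [
  [0, 6, 13],
  [0, 6, 8],
  [0, 7, 12, 13],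
  [5, 10],
  [0, 7, 10, 13],
  [2, 3],
  [2, 4, 8],
  [1, 12, 13],
  [5, 8],
  [5, 6],
  [0, 1, 10],
  [0, 5, 7],
  [4],
  [3, 9, 12],
  [7, 10, 12],
  [6, 8, 12],
  [4, 7, 8],
  [8, 10, 12],
  [0, 5],
  [3, 7, 10],
  [0, 5, 6],
  [0, 9, 13],
  [8, 9, 12],
  [3, 12, 13],
  [0, 7],
  [0, 1, 7, 13],
  [1, 10],
  [0, 2, 4],
  [0, 1, 7],
  [0, 3, 5, 9],
  [1, 8, 10],
  [0, 1, 8],
  [5, 9, 10],
  [0, 3, 7],
  [9, 12],
  [2, 8, 10],
  [3, 4],
  [0, 3, 7, 9],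
  [0, 3, 8, 10],
  [5, 9],
  [0, 3, 12],
  [2, 13],
  [0, 3, 13],
  [0, 3, 7, 12],
  [3, 7],
  [8, 13],
  [8, 9],
  [3, 8, 9, 13],
  [0, 2, 8, 10],
  [0, 4, 7]]

/-- a block of lvl0w -/
def twoLvl0W4 : List (List ℕ) := [
  [0, 3, 10],
  [0, 1, 12],
  [3],
  [0, 3, 6],
  [0, 3, 9],
  [1, 3],
  [6, 9, 10],
  [0, 3, 5, 6],
  [4, 8],
  [12],
  [0, 2],
  [0, 1, 8, 13],
  [0, 8, 10],
  [7, 13],
  [10, 13],
  [0, 3, 4, 6],
  [3, 7, 9],
  [2],
  [6, 12],
  [3, 6, 8, 12],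
  [4, 12],
  [0, 5, 9, 12],
  [0, 10],
  [5, 7, 13],
  [3, 5, 12],
  [1, 6, 13],
  [0, 3, 7, 10],
  [0, 3, 4],
  [0, 10, 12, 13],
  [0, 3, 5, 10],
  [2, 6, 8],
  [3, 7, 12],
  [0, 2, 8],
  [0, 5, 9],
  [0, 2, 4, 8],
  [6, 10],
  [1, 8, 13],
  [3, 8, 10],
  [0, 6, 12],
  [1, 6],
  [0, 8, 9, 13],
  [5, 7],
  [10, 12],
  [0, 2, 5, 12],
  [0, 12],
  [0, 8, 13],
  [0, 8, 9],
  [0],
  [9, 13],
  [0, 1, 8, 10]]

/-- a block of lvl0w -/
def twoLvl0W5 : List (List ℕ) := [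
  [0, 5, 10],
  [1, 2, 12],
  [2, 5],
  [0, 8],
  [0, 3, 5, 12],
  [0, 6, 8, 12]]

/-- all of lvl0w -/
def twoLvl0W : List (List ℕ) := twoLvl0W0 ++ twoLvl0W1 ++ twoLvl0W2 ++ twoLvl0W3 ++ twoLvl0W4 ++ twoLvl0W5

/-- a block of lvl1w -/
def twoLvl1W0 : List (List ℕ) := [
  [1, 2, 6, 8, 10, 12, 13],
  [1, 3, 5, 9, 10, 12, 13],
  [1, 3, 7, 8],
  [],
  [5, 6, 8, 10, 11, 13],
  [1, 2, 6, 8, 10, 11, 12, 13],
  [2, 3, 5, 6, 8, 9, 10, 11, 12, 13],
  [1, 3, 4, 5, 6, 8, 9, 12],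
  [1, 3, 4, 5, 7, 8, 12, 13],
  [4, 6, 8, 10, 12, 13],
  [1, 3, 4, 5, 6, 8, 9, 11, 12],
  [2, 3, 4, 5, 9, 13],
  [1, 2, 5, 6, 7, 9, 11],
  [1, 2, 5, 11, 13],
  [1, 2, 4],
  [2, 3, 4, 5, 6, 7, 11, 13],
  [1, 2, 4, 5, 7, 8, 9, 10, 11],
  [1, 2, 4, 11],
  [1, 3, 5, 6, 7, 10, 12],
  [5, 7, 8, 9, 10, 11],
  [4, 5, 13],
  [5, 7, 8, 9, 10],
  [1, 2, 7, 8, 9, 10, 12],
  [4, 5, 11, 13],
  [6, 7, 9, 13],
  [2, 3, 4, 7, 8, 10, 11],
  [2, 3, 5, 7, 8, 10, 12, 13],
  [2, 3, 5, 6, 8, 9, 10, 12, 13],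
  [1, 3, 6, 8, 9, 13],
  [1, 3, 6, 8, 9, 11, 13],
  [2, 3, 4, 6, 8, 9, 10],
  [1, 2, 4, 5, 7, 8, 9, 10],
  [1, 2, 4, 6, 7, 9, 11, 13],
  [4, 5, 6, 7, 9, 11],
  [1, 3, 4, 9, 10, 12, 13],
  [2, 3, 9, 11, 13],
  [11],
  [1, 2, 7, 8, 9, 10, 11, 12],
  [6, 7, 9, 11, 13],
  [4, 7, 8, 9, 10, 11, 12],
  [2, 3, 4, 5, 6, 7, 13],
  [5, 6, 8, 10, 13],
  [1, 3, 4, 6, 7, 10, 12],
  [2, 3, 5, 7, 8, 10, 11, 12, 13],
  [1, 2, 5, 13],
  [2, 3, 6, 7, 11, 13],
  [1, 3, 7, 8, 11],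
  [1, 3, 5, 6, 7, 10, 11, 12],
  [4, 5, 6, 7, 9],
  [2, 3, 6, 7, 13]]

/-- a block of lvl1w -/
def twoLvl1W1 : List (List ℕ) := [
  [4, 6, 8, 10, 11, 12, 13],
  [2, 3, 9, 13],
  [1, 2, 4, 5, 6, 8, 10, 11, 13],
  [1, 3, 4, 5, 7, 8, 11, 12, 13],
  [1, 3, 4, 9, 10, 11, 12, 13],
  [2, 3, 4, 5, 9, 11, 13],
  [1, 2, 4, 6, 7, 9, 13],
  [1, 3, 5, 9, 10, 11, 12, 13],
  [2, 3, 4, 7, 8, 10],
  [2, 3, 4, 6, 8, 9, 10, 11],
  [1, 2, 4, 5, 6, 8, 10, 13],
  [4, 7, 8, 9, 10, 12],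
  [1, 2, 5, 6, 7, 9],
  [1, 3, 4, 6, 7, 10, 11, 12]]

/-- all of lvl1w -/
def twoLvl1W : List (List ℕ) := twoLvl1W0 ++ twoLvl1W1

/-- the levels -/
def twoChain : List (ℕ × List (List ℕ)) := [(0x1e45a4a, twoLvl0W), (0x18791f5, twoLvl1W)]

/-- the images -/
def twoData : Data where
  letters := twoLetters
  nodes := twoNodes
  reds := twoReds
  steps := twoSteps

/-- the derivations -/
def twoCert : Cfsg.Agent.Lie.CentralRewrite.Cert where
  p := 2
  n := 15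
  ng := 20
  M := 120
  rels := twoRels
  eqs := twoEqs
  vecs := twoVecs
  gauge := twoGauge
  combs := twoCombs

end Cfsg.Agent.Spor.RuMult
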