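import Cfsg.Agent.Lib.Spor.RuMult.Extra
import Cfsg.Agent.Lib.Spor.RuMult.TwoData

/-!
A share of the checks (TwoImages) at the prime two for the multiplier of the Rudvalis group.
-/

set_option autoImplicit false
set_option maxRecDepth 100000
set_option Elab.async false

namespace Cfsg.Agent.Spor.RuMult

open Cfsg.Agent Cfsg.Agent.Spor.RuCert

theorem two_letters : (List.range twoData.letters.length).all twoData.letterOK = true := by decide +kernel

theorem two_nodes : (List.range twoData.nodes.length).all twoData.nodeOK = true := by decide +kernel

theorem two_reds0 : ((List.range' 0 45).all twoData.redOK) = true := by decide +kernel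

theorem two_reds1 : ((List.range' 45 45).all twoData.redOK) = true := by decide +kernel

theorem two_reds2 : ((List.range' 90 45).all twoData.redOK) = true := by decide +kernel

theorem two_reds3 : ((List.range' 135 45).all twoData.redOK) = true := by decide +kernel

theorem two_reds4 : ((List.range' 180 45).all twoData.redOK) = true := by decide +kernel

theorem two_reds5 : ((List.range' 225 45).all twoData.redOK) = true := by decide +kernel

theorem two_reds6 : ((List.range' 270 45).all twoData.redOK) = true := by decide +kernel

theorem two_reds7 : ((List.range' 315 17).all twoData.redOK) = true := by decide +kernel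

theorem two_reds : (List.range twoData.reds.length).all twoData.redOK = true := by
  rw [show twoData.reds.length = 332 from by decide +kernel, List.all_eq_true]
  intro b hb
  rw [List.mem_range] at hb
  by_cases h0 : b < 45
  · exact List.all_eq_true.1 two_reds0 b (List.mem_range'_1.2 ⟨by omega, by omega⟩)
  by_cases h1 : b < 90
  · exact List.all_eq_true.1 two_reds1 b (List.mem_range'_1.2 ⟨by omega, by omega⟩)
  by_cases h2 : b < 135
  · exact List.all_eq_true.1 two_reds2 b (List.mem_range'_1.2 ⟨by omega, by omega⟩)
  by_cases h3 : b < 180
  · exact List.all_eq_true.1 two_reds3 b (List.mem_range'_1.2 ⟨by omega, by omega⟩)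
  by_cases h4 : b < 225
  · exact List.all_eq_true.1 two_reds4 b (List.mem_range'_1.2 ⟨by omega, by omega⟩)
  by_cases h5 : b < 270
  · exact List.all_eq_true.1 two_reds5 b (List.mem_range'_1.2 ⟨by omega, by omega⟩)
  by_cases h6 : b < 315
  · exact List.all_eq_true.1 two_reds6 b (List.mem_range'_1.2 ⟨by omega, by omega⟩)
  exact List.all_eq_true.1 two_reds7 b (List.mem_range'_1.2 ⟨by omega, by omega⟩)

theorem two_steps0 : ((List.range' 0 45).all twoData.stepOK) = true := by decide +kernel

theorem two_steps1 : ((List.range' 45 45).all twoData.stepOK) = true := by decide +kernel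

theorem two_steps2 : ((List.range' 90 45).all twoData.stepOK) = true := by decide +kernel

theorem two_steps3 : ((List.range' 135 45).all twoData.stepOK) = true := by decide +kernel

theorem two_steps4 : ((List.range' 180 45).all twoData.stepOK) = true := by decide +kernel

theorem two_steps5 : ((List.range' 225 45).all twoData.stepOK) = true := by decide +kernel

theorem two_steps6 : ((List.range' 270 45).all twoData.stepOK) = true := by decide +kernel

theorem two_steps7 : ((List.range' 315 45).all twoData.stepOK) = true := by decide +kernel

theorem two_steps8 : ((List.range' 360 45).all twoData.stepOK) = true := by decide +kernel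

theorem two_steps9 : ((List.range' 405 45).all twoData.stepOK) = true := by decide +kernel

theorem two_steps10 : ((List.range' 450 41).all twoData.stepOK) = true := by decide +kernel

theorem two_steps : (List.range twoData.steps.length).all twoData.stepOK = true := by
  rw [show twoData.steps.length = 491 from by decide +kernel, List.all_eq_true]
  intro b hb
  rw [List.mem_range] at hb
  by_cases h0 : b < 45
  · exact List.all_eq_true.1 two_steps0 b (List.mem_range'_1.2 ⟨by omega, by omega⟩)
  by_cases h1 : b < 90
  · exact List.all_eq_true.1 two_steps1 b (List.mem_range'_1.2 ⟨by omega, by omega⟩)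
  by_cases h2 : b < 135
  · exact List.all_eq_true.1 two_steps2 b (List.mem_range'_1.2 ⟨by omega, by omega⟩)
  by_cases h3 : b < 180
  · exact List.all_eq_true.1 two_steps3 b (List.mem_range'_1.2 ⟨by omega, by omega⟩)
  by_cases h4 : b < 225
  · exact List.all_eq_true.1 two_steps4 b (List.mem_range'_1.2 ⟨by omega, by omega⟩)
  by_cases h5 : b < 270
  · exact List.all_eq_true.1 two_steps5 b (List.mem_range'_1.2 ⟨by omega, by omega⟩)
  by_cases h6 : b < 315
  · exact List.all_eq_true.1 two_steps6 b (List.mem_range'_1.2 ⟨by omega, by omega⟩)
  by_cases h7 : b < 360
  · exact List.all_eq_true.1 two_steps7 b (List.mem_range'_1.2 ⟨by omega, by omega⟩)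
  by_cases h8 : b < 405
  · exact List.all_eq_true.1 two_steps8 b (List.mem_range'_1.2 ⟨by omega, by omega⟩)
  by_cases h9 : b < 450
  · exact List.all_eq_true.1 two_steps9 b (List.mem_range'_1.2 ⟨by omega, by omega⟩)
  exact List.all_eq_true.1 two_steps10 b (List.mem_range'_1.2 ⟨by omega, by omega⟩)

end Cfsg.Agent.Spor.RuMult
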