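import Cfsg.Agent.Lib.Spor.RuMult.Extra
import Cfsg.Agent.Lib.Spor.RuMult.TwoData

/-!
A share of the checks (TwoKillB) at the prime two for the multiplier of the Rudvalis group.
-/

set_option autoImplicit false
set_option maxRecDepth 100000
set_option Elab.async false

namespace Cfsg.Agent.Spor.RuMult

open Cfsg.Agent Cfsg.Agent.Spor.RuCert

theorem two_kill4 : ((List.range' 40 10).all fun b =>
    Lie.CentralRewrite.killOK twoCert.p twoCert.rels.length twoCert.ng twoCert.rels twoCert.gauge twoCert.vecs twoCert.combs b) = true := by
  decide +kernel

theorem two_kill5 : ((List.range' 50 10).all fun b =>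
    Lie.CentralRewrite.killOK twoCert.p twoCert.rels.length twoCert.ng twoCert.rels twoCert.gauge twoCert.vecs twoCert.combs b) = true := by
  decide +kernel

theorem two_kill6 : ((List.range' 60 10).all fun b =>
    Lie.CentralRewrite.killOK twoCert.p twoCert.rels.length twoCert.ng twoCert.rels twoCert.gauge twoCert.vecs twoCert.combs b) = true := by
  decide +kernel

theorem two_kill7 : ((List.range' 70 10).all fun b =>
    Lie.CentralRewrite.killOK twoCert.p twoCert.rels.length twoCert.ng twoCert.rels twoCert.gauge twoCert.vecs twoCert.combs b) = true := by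
  decide +kernel

end Cfsg.Agent.Spor.RuMult
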