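import Cfsg.Agent.Lib.Spor.RuMult.Extra
import Cfsg.Agent.Lib.Spor.RuMult.TwoData

/-!
A share of the checks (TwoRels) at the prime two for the multiplier of the Rudvalis group.
-/

set_option autoImplicit false
set_option maxRecDepth 100000
set_option Elab.async false

namespace Cfsg.Agent.Spor.RuMult

open Cfsg.Agent Cfsg.Agent.Spor.RuCert

theorem two_rels : (List.range twoCert.rels.length).all (fun b =>
    twoData.relOK (twoCert.rels.getD b ([], [])) (twoPaths.getD b ([], []))) = true := by decide +kernel

end Cfsg.Agent.Spor.RuMult
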