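import Cfsg.Agent.Lib.Spor.RuMult.Extra
import Cfsg.Agent.Lib.Spor.RuMult.TwoData

/-!
A share of the checks (TwoVec) at the prime two for the multiplier of the Rudvalis group.
-/

set_option autoImplicit false
set_option maxRecDepth 100000
set_option Elab.async false

namespace Cfsg.Agent.Spor.RuMult

open Cfsg.Agent Cfsg.Agent.Spor.RuCert

theorem two_vec0 : (List.range' 0 6).all (fun i =>
    (((List.range twoCert.rels.length).zip ((twoCert.vecs.getD i []).zip
      (Lie.CentralRewrite.pairVec twoCert.rels.length (twoCert.eqs.getD i ([], [], []))))).all (fun z =>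
      (z.2.1 - z.2.2) % (twoCert.p : ℤ) == 0) && Nat.beq (twoCert.vecs.getD i []).length twoCert.rels.length)) = true := by decide +kernel

theorem two_vec1 : (List.range' 6 6).all (fun i =>
    (((List.range twoCert.rels.length).zip ((twoCert.vecs.getD i []).zip
      (Lie.CentralRewrite.pairVec twoCert.rels.length (twoCert.eqs.getD i ([], [], []))))).all (fun z =>
      (z.2.1 - z.2.2) % (twoCert.p : ℤ) == 0) && Nat.beq (twoCert.vecs.getD i []).length twoCert.rels.length)) = true := by decide +kernel

theorem two_vec2 : (List.range' 12 6).all (fun i =>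
    (((List.range twoCert.rels.length).zip ((twoCert.vecs.getD i []).zip
      (Lie.CentralRewrite.pairVec twoCert.rels.length (twoCert.eqs.getD i ([], [], []))))).all (fun z =>
      (z.2.1 - z.2.2) % (twoCert.p : ℤ) == 0) && Nat.beq (twoCert.vecs.getD i []).length twoCert.rels.length)) = true := by decide +kernel

theorem two_vec3 : (List.range' 18 6).all (fun i =>
    (((List.range twoCert.rels.length).zip ((twoCert.vecs.getD i []).zip
      (Lie.CentralRewrite.pairVec twoCert.rels.length (twoCert.eqs.getD i ([], [], []))))).all (fun z =>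
      (z.2.1 - z.2.2) % (twoCert.p : ℤ) == 0) && Nat.beq (twoCert.vecs.getD i []).length twoCert.rels.length)) = true := by decide +kernel

theorem two_vec4 : (List.range' 24 6).all (fun i =>
    (((List.range twoCert.rels.length).zip ((twoCert.vecs.getD i []).zip
      (Lie.CentralRewrite.pairVec twoCert.rels.length (twoCert.eqs.getD i ([], [], []))))).all (fun z =>
      (z.2.1 - z.2.2) % (twoCert.p : ℤ) == 0) && Nat.beq (twoCert.vecs.getD i []).length twoCert.rels.length)) = true := by decide +kernel

theorem two_vec5 : (List.range' 30 6).all (fun i =>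
    (((List.range twoCert.rels.length).zip ((twoCert.vecs.getD i []).zip
      (Lie.CentralRewrite.pairVec twoCert.rels.length (twoCert.eqs.getD i ([], [], []))))).all (fun z =>
      (z.2.1 - z.2.2) % (twoCert.p : ℤ) == 0) && Nat.beq (twoCert.vecs.getD i []).length twoCert.rels.length)) = true := by decide +kernel

theorem two_vec6 : (List.range' 36 6).all (fun i =>
    (((List.range twoCert.rels.length).zip ((twoCert.vecs.getD i []).zip
      (Lie.CentralRewrite.pairVec twoCert.rels.length (twoCert.eqs.getD i ([], [], []))))).all (fun z =>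
      (z.2.1 - z.2.2) % (twoCert.p : ℤ) == 0) && Nat.beq (twoCert.vecs.getD i []).length twoCert.rels.length)) = true := by decide +kernel

theorem two_vec7 : (List.range' 42 6).all (fun i =>
    (((List.range twoCert.rels.length).zip ((twoCert.vecs.getD i []).zip
      (Lie.CentralRewrite.pairVec twoCert.rels.length (twoCert.eqs.getD i ([], [], []))))).all (fun z =>
      (z.2.1 - z.2.2) % (twoCert.p : ℤ) == 0) && Nat.beq (twoCert.vecs.getD i []).length twoCert.rels.length)) = true := by decide +kernel

theorem two_vec8 : (List.range' 48 6).all (fun i =>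
    (((List.range twoCert.rels.length).zip ((twoCert.vecs.getD i []).zip
      (Lie.CentralRewrite.pairVec twoCert.rels.length (twoCert.eqs.getD i ([], [], []))))).all (fun z =>
      (z.2.1 - z.2.2) % (twoCert.p : ℤ) == 0) && Nat.beq (twoCert.vecs.getD i []).length twoCert.rels.length)) = true := by decide +kernel

theorem two_vec9 : (List.range' 54 6).all (fun i =>
    (((List.range twoCert.rels.length).zip ((twoCert.vecs.getD i []).zip
      (Lie.CentralRewrite.pairVec twoCert.rels.length (twoCert.eqs.getD i ([], [], []))))).all (fun z =>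
      (z.2.1 - z.2.2) % (twoCert.p : ℤ) == 0) && Nat.beq (twoCert.vecs.getD i []).length twoCert.rels.length)) = true := by decide +kernel

theorem two_vec10 : (List.range' 60 6).all (fun i =>
    (((List.range twoCert.rels.length).zip ((twoCert.vecs.getD i []).zip
      (Lie.CentralRewrite.pairVec twoCert.rels.length (twoCert.eqs.getD i ([], [], []))))).all (fun z =>
      (z.2.1 - z.2.2) % (twoCert.p : ℤ) == 0) && Nat.beq (twoCert.vecs.getD i []).length twoCert.rels.length)) = true := by decide +kernel

theorem two_vec11 : (List.range' 66 6).all (fun i =>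
    (((List.range twoCert.rels.length).zip ((twoCert.vecs.getD i []).zip
      (Lie.CentralRewrite.pairVec twoCert.rels.length (twoCert.eqs.getD i ([], [], []))))).all (fun z =>
      (z.2.1 - z.2.2) % (twoCert.p : ℤ) == 0) && Nat.beq (twoCert.vecs.getD i []).length twoCert.rels.length)) = true := by decide +kernel

theorem two_vec12 : (List.range' 72 6).all (fun i =>
    (((List.range twoCert.rels.length).zip ((twoCert.vecs.getD i []).zip
      (Lie.CentralRewrite.pairVec twoCert.rels.length (twoCert.eqs.getD i ([], [], []))))).all (fun z =>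
      (z.2.1 - z.2.2) % (twoCert.p : ℤ) == 0) && Nat.beq (twoCert.vecs.getD i []).length twoCert.rels.length)) = true := by decide +kernel

theorem two_vec13 : (List.range' 78 6).all (fun i =>
    (((List.range twoCert.rels.length).zip ((twoCert.vecs.getD i []).zip
      (Lie.CentralRewrite.pairVec twoCert.rels.length (twoCert.eqs.getD i ([], [], []))))).all (fun z =>
      (z.2.1 - z.2.2) % (twoCert.p : ℤ) == 0) && Nat.beq (twoCert.vecs.getD i []).length twoCert.rels.length)) = true := by decide +kernel

theorem two_vec14 : (List.range' 84 6).all (fun i =>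
    (((List.range twoCert.rels.length).zip ((twoCert.vecs.getD i []).zip
      (Lie.CentralRewrite.pairVec twoCert.rels.length (twoCert.eqs.getD i ([], [], []))))).all (fun z =>
      (z.2.1 - z.2.2) % (twoCert.p : ℤ) == 0) && Nat.beq (twoCert.vecs.getD i []).length twoCert.rels.length)) = true := by decide +kernel

theorem two_vec15 : (List.range' 90 6).all (fun i =>
    (((List.range twoCert.rels.length).zip ((twoCert.vecs.getD i []).zip
      (Lie.CentralRewrite.pairVec twoCert.rels.length (twoCert.eqs.getD i ([], [], []))))).all (fun z =>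
      (z.2.1 - z.2.2) % (twoCert.p : ℤ) == 0) && Nat.beq (twoCert.vecs.getD i []).length twoCert.rels.length)) = true := by decide +kernel

theorem two_vec16 : (List.range' 96 6).all (fun i =>
    (((List.range twoCert.rels.length).zip ((twoCert.vecs.getD i []).zip
      (Lie.CentralRewrite.pairVec twoCert.rels.length (twoCert.eqs.getD i ([], [], []))))).all (fun z =>
      (z.2.1 - z.2.2) % (twoCert.p : ℤ) == 0) && Nat.beq (twoCert.vecs.getD i []).length twoCert.rels.length)) = true := by decide +kernel

theorem two_vec17 : (List.range' 102 6).all (fun i =>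
    (((List.range twoCert.rels.length).zip ((twoCert.vecs.getD i []).zip
      (Lie.CentralRewrite.pairVec twoCert.rels.length (twoCert.eqs.getD i ([], [], []))))).all (fun z =>
      (z.2.1 - z.2.2) % (twoCert.p : ℤ) == 0) && Nat.beq (twoCert.vecs.getD i []).length twoCert.rels.length)) = true := by decide +kernel

theorem two_vec18 : (List.range' 108 6).all (fun i =>
    (((List.range twoCert.rels.length).zip ((twoCert.vecs.getD i []).zip
      (Lie.CentralRewrite.pairVec twoCert.rels.length (twoCert.eqs.getD i ([], [], []))))).all (fun z =>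
      (z.2.1 - z.2.2) % (twoCert.p : ℤ) == 0) && Nat.beq (twoCert.vecs.getD i []).length twoCert.rels.length)) = true := by decide +kernel

theorem two_vec19 : (List.range' 114 6).all (fun i =>
    (((List.range twoCert.rels.length).zip ((twoCert.vecs.getD i []).zip
      (Lie.CentralRewrite.pairVec twoCert.rels.length (twoCert.eqs.getD i ([], [], []))))).all (fun z =>
      (z.2.1 - z.2.2) % (twoCert.p : ℤ) == 0) && Nat.beq (twoCert.vecs.getD i []).length twoCert.rels.length)) = true := by decide +kernel

theorem two_vec : Lie.CentralRewrite.vecOK twoCert.p twoCert.rels.length twoCert.eqs twoCert.vecs = true := by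
  unfold Lie.CentralRewrite.vecOK
  rw [show twoCert.eqs.length = 120 from by decide +kernel, List.all_eq_true]
  intro b hb
  rw [List.mem_range] at hb
  by_cases h0 : b < 6
  · exact (List.all_eq_true.1 two_vec0 b (List.mem_range'_1.2 ⟨by omega, by omega⟩) :)
  by_cases h1 : b < 12
  · exact (List.all_eq_true.1 two_vec1 b (List.mem_range'_1.2 ⟨by omega, by omega⟩) :)
  by_cases h2 : b < 18
  · exact (List.all_eq_true.1 two_vec2 b (List.mem_range'_1.2 ⟨by omega, by omega⟩) :)
  by_cases h3 : b < 24
  · exact (List.all_eq_true.1 two_vec3 b (List.mem_range'_1.2 ⟨by omega, by omega⟩) :)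
  by_cases h4 : b < 30
  · exact (List.all_eq_true.1 two_vec4 b (List.mem_range'_1.2 ⟨by omega, by omega⟩) :)
  by_cases h5 : b < 36
  · exact (List.all_eq_true.1 two_vec5 b (List.mem_range'_1.2 ⟨by omega, by omega⟩) :)
  by_cases h6 : b < 42
  · exact (List.all_eq_true.1 two_vec6 b (List.mem_range'_1.2 ⟨by omega, by omega⟩) :)
  by_cases h7 : b < 48
  · exact (List.all_eq_true.1 two_vec7 b (List.mem_range'_1.2 ⟨by omega, by omega⟩) :)
  by_cases h8 : b < 54
  · exact (List.all_eq_true.1 two_vec8 b (List.mem_range'_1.2 ⟨by omega, by omega⟩) :)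
  by_cases h9 : b < 60
  · exact (List.all_eq_true.1 two_vec9 b (List.mem_range'_1.2 ⟨by omega, by omega⟩) :)
  by_cases h10 : b < 66
  · exact (List.all_eq_true.1 two_vec10 b (List.mem_range'_1.2 ⟨by omega, by omega⟩) :)
  by_cases h11 : b < 72
  · exact (List.all_eq_true.1 two_vec11 b (List.mem_range'_1.2 ⟨by omega, by omega⟩) :)
  by_cases h12 : b < 78
  · exact (List.all_eq_true.1 two_vec12 b (List.mem_range'_1.2 ⟨by omega, by omega⟩) :)
  by_cases h13 : b < 84
  · exact (List.all_eq_true.1 two_vec13 b (List.mem_range'_1.2 ⟨by omega, by omega⟩) :)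
  by_cases h14 : b < 90
  · exact (List.all_eq_true.1 two_vec14 b (List.mem_range'_1.2 ⟨by omega, by omega⟩) :)
  by_cases h15 : b < 96
  · exact (List.all_eq_true.1 two_vec15 b (List.mem_range'_1.2 ⟨by omega, by omega⟩) :)
  by_cases h16 : b < 102
  · exact (List.all_eq_true.1 two_vec16 b (List.mem_range'_1.2 ⟨by omega, by omega⟩) :)
  by_cases h17 : b < 108
  · exact (List.all_eq_true.1 two_vec17 b (List.mem_range'_1.2 ⟨by omega, by omega⟩) :)
  by_cases h18 : b < 114
  · exact (List.all_eq_true.1 two_vec18 b (List.mem_range'_1.2 ⟨by omega, by omega⟩) :)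
  exact (List.all_eq_true.1 two_vec19 b (List.mem_range'_1.2 ⟨by omega, by omega⟩) :)

end Cfsg.Agent.Spor.RuMult
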