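import Cfsg.Agent.Lib.Spor.RuMult.Extra
import Cfsg.Agent.Lib.Spor.RuMult.TwoData
import Cfsg.Agent.Lib.Spor.RuMult.TwoImages
import Cfsg.Agent.Lib.Spor.RuMult.TwoRels
import Cfsg.Agent.Lib.Spor.RuMult.TwoPairs
import Cfsg.Agent.Lib.Spor.RuMult.TwoVec
import Cfsg.Agent.Lib.Spor.RuMult.TwoKillA
import Cfsg.Agent.Lib.Spor.RuMult.TwoKillB
import Cfsg.Agent.Lib.Spor.RuMult.TwoKillC

/-!
The checks at the prime two for the multiplier of the Rudvalis group.
-/

set_option autoImplicit false
set_option maxRecDepth 100000
set_option Elab.async false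

namespace Cfsg.Agent.Spor.RuMult

open Cfsg.Agent Cfsg.Agent.Spor.RuCert

theorem two_base : Nat.blt 0 twoData.reds.length = true ∧ twoData.nodes.getD 0 (0, 0, 0) = (0, 0, 1) ∧
    Nat.ble twoData.reds.length twoData.nodes.length = true := by decide +kernel

theorem two_dvalid : twoData.Valid := ⟨two_base, two_letters, two_nodes, two_reds, two_steps⟩

theorem two_chain : chainOK twoData 14 twoChain [] = true := by decide +kernel

theorem two_size : Nat.beq (chainSize twoChain) (twoCert.p ^ 14) = true := by decide +kernel

theorem two_parity : (List.range 14).all (fun k =>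
    parityOK twoCert.rels twoCert.ng 14 k (twoParity.getD k [])) = true := by decide +kernel

theorem two_ng : Nat.beq twoCert.ng twoData.letters.length = true := by decide +kernel

theorem two_series : Lie.CentralRewrite.seriesOK twoCert.p twoCert.n twoCert.M twoCert.rels = true := by decide +kernel

theorem two_valid : twoCert.Valid where
  series := two_series
  pairs := two_pairs
  vec := two_vec
  veclen := by decide +kernel
  letters := by decide +kernel
  gaugeOK := by decide +kernel
  nng := by decide +kernel
  kill := fun b hb => by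
    change b < 120 at hb
    obtain ⟨j, hj, h1, h2⟩ : ∃ j < 12, 10 * j ≤ b ∧ b < 10 * j + 10 := ⟨b / 10, by omega, by omega, by omega⟩
    interval_cases j
    · exact List.all_eq_true.1 two_kill0 b (List.mem_range'_1.2 ⟨by omega, by omega⟩)
    · exact List.all_eq_true.1 two_kill1 b (List.mem_range'_1.2 ⟨by omega, by omega⟩)
    · exact List.all_eq_true.1 two_kill2 b (List.mem_range'_1.2 ⟨by omega, by omega⟩)
    · exact List.all_eq_true.1 two_kill3 b (List.mem_range'_1.2 ⟨by omega, by omega⟩)
    · exact List.all_eq_true.1 two_kill4 b (List.mem_range'_1.2 ⟨by omega, by omega⟩)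
    · exact List.all_eq_true.1 two_kill5 b (List.mem_range'_1.2 ⟨by omega, by omega⟩)
    · exact List.all_eq_true.1 two_kill6 b (List.mem_range'_1.2 ⟨by omega, by omega⟩)
    · exact List.all_eq_true.1 two_kill7 b (List.mem_range'_1.2 ⟨by omega, by omega⟩)
    · exact List.all_eq_true.1 two_kill8 b (List.mem_range'_1.2 ⟨by omega, by omega⟩)
    · exact List.all_eq_true.1 two_kill9 b (List.mem_range'_1.2 ⟨by omega, by omega⟩)
    · exact List.all_eq_true.1 two_kill10 b (List.mem_range'_1.2 ⟨by omega, by omega⟩)
    · exact List.all_eq_true.1 two_kill11 b (List.mem_range'_1.2 ⟨by omega, by omega⟩)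

end Cfsg.Agent.Spor.RuMult
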